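import Groth.Agent.Surf.K458.KerMul
import Groth.Agent.Sga2.LefPow644
import Groth.Agent.VarietyA.EulerLES
import Groth.Agent.Fga.TwistCoh
import Groth.Agent.Fga.PicMon

/-!
# Ramanujam's argument

`X` any scheme, `s` a finite multiset of effective Cartier ideals, `N` invertible.

* `seq` : the exact sequence `0 → N ⊗ (O/B ⊗ A) → N ⊗ O/AB → N ⊗ O/A → 0`.
* `nontrivial_step` : a nonzero section of `N ⊗ O/AB` which dies in `N ⊗ O/A` gives a nonzero section of
  `(N ⊗ A) ⊗ O/B`.
* `ram` : if `N ⊗ O/∏s` has a nonzero section then `s = t + u`, `u ≠ 0`, and for every `C ∈ u` the module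
  `(N ⊗ ∏t) ⊗ O/C` has a nonzero section.
-/

set_option autoImplicit false
universe u

open CategoryTheory CategoryTheory.Limits AlgebraicGeometry TopologicalSpace Opposite

namespace K458.Ram

open Groth.Agent Groth.Agent.VarietyA.EulerLES Groth.Agent.Dix.IdealModCartier Groth.Agent.Ega2
open Groth.Agent.Fga.PicMon

variable {X : Scheme.{u}}

/-- `H^0(X, F) ≠ 0`. -/
def HasSec (F : X.Modules) : Prop := Nontrivial (Coh.HH X F 0)

theorem HasSec.of_iso {F G : X.Modules} (e : F ≅ G) (h : HasSec F) : HasSec G := by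
  have : Nontrivial (Coh.HH X F 0) := h
  exact (equivΓ e 0).toEquiv.symm.nontrivial

theorem hasSec_congr {F G : X.Modules} (h : mc F = mc G) : HasSec F ↔ HasSec G := by
  obtain ⟨e⟩ := (mc_eq_iff _ _).1 h
  exact ⟨HasSec.of_iso e, HasSec.of_iso e.symm⟩

theorem mul_le_left (A B : X.IdealSheafData) : A * B ≤ A := fun _ => Ideal.mul_le_left

theorem epi_quotMap {I J : X.IdealSheafData} (h : I ≤ J) : Epi (Lef.quotMap h) := by
  have := Sga2.LefPow644.epi_toSubscheme J
  exact epi_of_epi_fac (Sga2.LefPow644.toSubscheme_quotMap h)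

/-- The short exact sequence `0 → ker → O/I → O/J → 0`. -/
noncomputable def qseq {I J : X.IdealSheafData} (h : I ≤ J) : ShortComplex X.Modules :=
  ShortComplex.mk (kernel.ι (Lef.quotMap h)) (Lef.quotMap h) (kernel.condition _)

theorem shortExact_qseq {I J : X.IdealSheafData} (h : I ≤ J) : (qseq h).ShortExact where
  exact := ShortComplex.exact_of_f_is_kernel _ (kernelIsKernel _)
  mono_f := inferInstanceAs (Mono (kernel.ι (Lef.quotMap h)))
  epi_g := epi_quotMap h

/-- The sequence `N ⊗ ker → N ⊗ O/I → N ⊗ O/J`. -/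
noncomputable def seq (N : X.Modules) {I J : X.IdealSheafData} (h : I ≤ J) : ShortComplex X.Modules :=
  (qseq h).map (DCoh.tensorBi.obj N)

theorem shortExact_seq {N : X.Modules} (hN : PicF.IsInvertible N) {I J : X.IdealSheafData} (h : I ≤ J) :
    (seq N h).ShortExact :=
  Fga.TwistCoh.shortExact_tensorBi hN _ (shortExact_qseq h)

/-- The restriction map `N ⊗ O/I → N ⊗ O/J`. -/
noncomputable def restr (N : X.Modules) {I J : X.IdealSheafData} (h : I ≤ J) :
    CohB1.tensorMod N (ClSub.quotMod I) ⟶ CohB1.tensorMod N (ClSub.quotMod J) := (seq N h).g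

theorem mc_seq_X₁ (N : X.Modules) {A : X.IdealSheafData} (hA : BlowUp.IsEffCartierIdeal A)
    (B : X.IdealSheafData) :
    mc (seq N (mul_le_left A B)).X₁ = mc N * (mc (ClSub.idealMod A) * mc (ClSub.quotMod B)) := by
  obtain ⟨e⟩ := KerMul.kernel_iso hA B (mul_le_left A B)
  have h1 : mc (seq N (mul_le_left A B)).X₁ = mc N * mc (kernel (Lef.quotMap (mul_le_left A B))) :=
    mc_tensor _ _
  rw [h1, ← mc_eq e, mc_tensor, mul_comm (mc (ClSub.quotMod B))]

/-- A section of `N ⊗ O/AB` which vanishes on `A` comes from `(N ⊗ A) ⊗ O/B`. -/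
theorem nontrivial_step {N : X.Modules} (hN : PicF.IsInvertible N) {A : X.IdealSheafData}
    (hA : BlowUp.IsEffCartierIdeal A) (B : X.IdealSheafData)
    (x : Coh.HH X (CohB1.tensorMod N (ClSub.quotMod (A * B))) 0) (hx : x ≠ 0)
    (h0 : mapΓ (restr N (mul_le_left A B)) 0 x = 0) :
    HasSec (CohB1.tensorMod (CohB1.tensorMod N (ClSub.idealMod A)) (ClSub.quotMod B)) := by
  obtain ⟨y, hy⟩ := (exact₂ _ (shortExact_seq hN (mul_le_left A B)) 0 x).1 h0
  have h1 : HasSec (seq N (mul_le_left A B)).X₁ := by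
    refine ⟨y, 0, ?_⟩
    rintro rfl
    exact hx (hy.symm.trans (map_zero _))
  refine (hasSec_congr ?_).1 h1
  rw [mc_seq_X₁ N hA, mc_tensor, mc_tensor, mul_assoc]

theorem nontrivial_step' {N : X.Modules} (hN : PicF.IsInvertible N) {A : X.IdealSheafData}
    (hA : BlowUp.IsEffCartierIdeal A) (B : X.IdealSheafData) {D : X.IdealSheafData} (hD : D = A * B)
    (hle : D ≤ A) (x : Coh.HH X (CohB1.tensorMod N (ClSub.quotMod D)) 0) (hx : x ≠ 0)
    (h0 : mapΓ (restr N hle) 0 x = 0) :
    HasSec (CohB1.tensorMod (CohB1.tensorMod N (ClSub.idealMod A)) (ClSub.quotMod B)) := by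
  subst hD
  exact nontrivial_step hN hA B x hx h0

theorem isZero_quotMod_top : IsZero (ClSub.quotMod (⊤ : X.IdealSheafData)) := by
  refine (IsZero.iff_id_eq_zero _).2 ?_
  apply Scheme.Modules.hom_ext
  intro U
  ext s
  have h1 : IsEmpty (⊤ : X.IdealSheafData).subscheme := by
    refine ⟨fun x => ?_⟩
    have h : (⊤ : X.IdealSheafData).subschemeι x ∈ ((⊤ : X.IdealSheafData).support : Set X) := by
      rw [← Scheme.IdealSheafData.range_subschemeι]
      exact ⟨x, rfl⟩
    rw [Scheme.IdealSheafData.support_top] at h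
    exact h
  have h2 : Subsingleton Γ((⊤ : X.IdealSheafData).subscheme,
      (⊤ : X.IdealSheafData).subschemeι ⁻¹ᵁ U) := by
    have : (⊤ : X.IdealSheafData).subschemeι ⁻¹ᵁ U = ⊥ := by
      ext x
      exact (h1.false x).elim
    rw [this]
    infer_instance
  exact h2.elim _ _

theorem not_hasSec_of_isZero {F : X.Modules} (h : IsZero F) : ¬ HasSec F := by
  intro h1
  have h1' : Nontrivial (Coh.HH X F 0) := h1
  have h2 : ∀ x : Coh.HH X F 0, x = 0 := by
    intro x
    have h3 : mapΓ (𝟙 F) 0 x = x := by rw [mapΓ_id]; rfl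
    rw [← h3, (IsZero.iff_id_eq_zero F).1 h, mapΓ_zero]
    rfl
  obtain ⟨x, y, hxy⟩ := h1'
  exact hxy ((h2 x).trans (h2 y).symm)

theorem isZero_tensor_quotMod_top (N : X.Modules) :
    IsZero (CohB1.tensorMod N (ClSub.quotMod (⊤ : X.IdealSheafData))) := by
  rw [← Sga2.ThickKer.tensorBi_eq]
  refine (IsZero.iff_id_eq_zero _).2 ?_
  rw [← (DCoh.tensorBi.obj N).map_id, (IsZero.iff_id_eq_zero _).1 isZero_quotMod_top]
  exact Functor.map_zero _ _ _

theorem mc_idealMod_top : mc (ClSub.idealMod (⊤ : X.IdealSheafData)) = 1 := by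
  refine (mc_eq_iff _ _).2 ⟨?_⟩
  have h0 : ClSub.toSubscheme (⊤ : X.IdealSheafData) = 0 := isZero_quotMod_top.eq_of_tgt _ _
  exact (kernelIsoOfEq h0) ≪≫ kernelZeroIsoSource

theorem isEff_mul {A B : X.IdealSheafData} (hA : BlowUp.IsEffCartierIdeal A)
    (hB : BlowUp.IsEffCartierIdeal B) : BlowUp.IsEffCartierIdeal (A * B) :=
  Divis.EffCartier.isEff_mul hA hB

theorem isEff_prod (s : Multiset X.IdealSheafData) (hs : ∀ A ∈ s, BlowUp.IsEffCartierIdeal A) :
    BlowUp.IsEffCartierIdeal s.prod := by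
  induction s using Multiset.induction_on with
  | empty =>
    rw [Multiset.prod_zero, Scheme.IdealSheafData.one_eq_top]
    exact Divis.EffCartier.isEff_top
  | cons A s ih =>
    rw [Multiset.prod_cons]
    exact isEff_mul (hs A (Multiset.mem_cons_self _ _)) (ih fun B hB => hs B (Multiset.mem_cons_of_mem hB))

theorem mc_idealMod_mul {A B : X.IdealSheafData} (hA : BlowUp.IsEffCartierIdeal A)
    (hB : BlowUp.IsEffCartierIdeal B) :
    mc (ClSub.idealMod (A * B)) = mc (ClSub.idealMod A) * mc (ClSub.idealMod B) := by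
  rw [← mc_tensor]
  exact ((mc_eq_iff _ _).2 (idealMod_mul hA hB)).symm

/-- **Ramanujam's argument.** -/
theorem ram (s : Multiset X.IdealSheafData) (hs : ∀ A ∈ s, BlowUp.IsEffCartierIdeal A)
    (N : X.Modules) (hN : PicF.IsInvertible N)
    (h : HasSec (CohB1.tensorMod N (ClSub.quotMod s.prod))) :
    ∃ t u : Multiset X.IdealSheafData, s = t + u ∧ u ≠ 0 ∧ ∀ C ∈ u,
      HasSec (CohB1.tensorMod (CohB1.tensorMod N (ClSub.idealMod t.prod)) (ClSub.quotMod C)) := by
  classical
  induction hn : Multiset.card s generalizing s N with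
  | zero =>
    rw [Multiset.card_eq_zero] at hn
    subst hn
    rw [Multiset.prod_zero, Scheme.IdealSheafData.one_eq_top] at h
    exact absurd h (not_hasSec_of_isZero (isZero_tensor_quotMod_top N))
  | succ n ih =>
    have hne : s ≠ 0 := by
      rintro rfl
      simp at hn
    have h' : Nontrivial (Coh.HH X (CohB1.tensorMod N (ClSub.quotMod s.prod)) 0) := h
    obtain ⟨x, hx⟩ := exists_ne (0 : Coh.HH X (CohB1.tensorMod N (ClSub.quotMod s.prod)) 0)
    by_cases H : ∀ A ∈ s, ∀ hle : s.prod ≤ A, mapΓ (restr N hle) 0 x ≠ 0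
    · refine ⟨0, s, (zero_add s).symm, hne, fun C hC => ?_⟩
      have hle : s.prod ≤ C := by
        obtain ⟨s', rfl⟩ := Multiset.exists_cons_of_mem hC
        rw [Multiset.prod_cons]
        exact mul_le_left _ _
      have h1 : HasSec (CohB1.tensorMod N (ClSub.quotMod C)) :=
        ⟨mapΓ (restr N hle) 0 x, 0, H C hC hle⟩
      refine (hasSec_congr ?_).1 h1
      rw [mc_tensor, mc_tensor, mc_tensor, Multiset.prod_zero, Scheme.IdealSheafData.one_eq_top,
        mc_idealMod_top, mul_one]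
    · push Not at H
      obtain ⟨A, hA, hle, h0⟩ := H
      obtain ⟨s', rfl⟩ := Multiset.exists_cons_of_mem hA
      have hA' := hs A hA
      have hs' : ∀ B ∈ s', BlowUp.IsEffCartierIdeal B := fun B hB => hs B (Multiset.mem_cons_of_mem hB)
      have hcard : Multiset.card s' = n := by
        rw [Multiset.card_cons] at hn
        exact Nat.succ_injective hn
      have key : HasSec (CohB1.tensorMod (CohB1.tensorMod N (ClSub.idealMod A)) (ClSub.quotMod s'.prod)) :=
        nontrivial_step' hN hA' s'.prod (Multiset.prod_cons _ _) hle x hx h0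
      obtain ⟨t, u, rfl, hu, H⟩ := ih s' hs' _
        (Fdesc.LocGen.isInvertible_tensorMod hN (isInvertible_idealMod hA')) key hcard
      refine ⟨A ::ₘ t, u, (Multiset.cons_add _ _ _).symm, hu, fun C hC => ?_⟩
      refine (hasSec_congr ?_).1 (H C hC)
      rw [mc_tensor, mc_tensor, mc_tensor, mc_tensor, mc_tensor, Multiset.prod_cons,
        mc_idealMod_mul hA' (isEff_prod t fun B hB => hs' B (Multiset.mem_add.2 (Or.inl hB))), mul_assoc (mc N)]

end K458.Ram
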