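import Groth.Prelude.Def_CurvBase
import Groth.Agent.S3232
import Groth.Agent.Fga.IntAdd
import Groth.Agent.Fga.HodgeIneq
import Groth.Agent.VarietyB.DegCartier
import Groth.Agent.CurvesB.UnitCoh
import Groth.Agent.Surf.K458.Ram

/-!
# The intersection form on a proper scheme of dimension at most two

`ip k X A B = FGA.intNum k X 2 ![A, B] O`.
-/

set_option autoImplicit false
universe u

open CategoryTheory CategoryTheory.Limits AlgebraicGeometry TopologicalSpace Opposite

namespace K458.Ip

open Groth.Agent Groth.Agent.Dix.IdealModCartier Groth.Agent.Fga.PicMon Groth.Agent.Fga.AltSum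
open K458.Ram

variable (k : Type u) [Field k] (X : Scheme.{u}) [X.Over (Spec (CommRingCat.of k))]

/-- The intersection number (with the sign convention of `FGA.intNum`). -/
noncomputable def ip (A B : X.Modules) : ℤ := FGA.intNum k X 2 ![A, B] (Coh.structureModule X)

theorem ip_def (A B : X.Modules) : ip k X A B = FGA.intNum k X 2 ![A, B] (Coh.structureModule X) := rfl

theorem ip_eq_dSum (A B : X.Modules) : ip k X A B = dSum (Fga.HodgeIneq.χCl X k) ![mc A, mc B] :=
  Fga.HodgeIneq.intNum_two k A B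

theorem ip_congr {A A' B B' : X.Modules} (hA : mc A = mc A') (hB : mc B = mc B') :
    ip k X A B = ip k X A' B' := by
  rw [ip_eq_dSum, ip_eq_dSum, hA, hB]

theorem χCl_mc (A : X.Modules) : Fga.HodgeIneq.χCl X k (mc A) = FGA.eulerCharLE k X A 2 :=
  euler_iso k X (Ega2.Tens.runit A) 2

theorem ip_eq' (A B : X.Modules) : ip k X A B =
    FGA.eulerCharLE k X (Coh.structureModule X) 2 - FGA.eulerCharLE k X A 2 - FGA.eulerCharLE k X B 2 +
      FGA.eulerCharLE k X (CohB1.tensorMod A B) 2 := by
  rw [ip_eq_dSum, Fga.HodgeIneq.dSum_two, ← mc_one, ← mc_tensor, χCl_mc, χCl_mc, χCl_mc, χCl_mc]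

theorem ip_symm (A B : X.Modules) : ip k X A B = ip k X B A := by
  rw [ip_eq_dSum, ip_eq_dSum, Fga.HodgeIneq.dSum_two, Fga.HodgeIneq.dSum_two, mul_comm (mc A)]
  ring

variable [IsProper (X ↘ Spec (CommRingCat.of k))]

section

variable {k X}

omit [IsProper (X ↘ Spec (CommRingCat.of k))] in
theorem euler_congr {A B : X.Modules} (h : mc A = mc B) : Curv2.euler k X A = Curv2.euler k X B := by
  obtain ⟨e⟩ := (mc_eq_iff _ _).1 h
  exact VarietyA.EulerAdd.euler_congr (k := k) e

end

theorem ip_eq (hd : topologicalKrullDim X ≤ (2 : ℕ)) (A B : X.Modules) : ip k X A B =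
    Curv2.euler k X (Coh.structureModule X) - Curv2.euler k X A - Curv2.euler k X B +
      Curv2.euler k X (CohB1.tensorMod A B) := by
  rw [ip_eq', Fga.IntAdd.eulerCharLE_eq k X 2 hd, Fga.IntAdd.eulerCharLE_eq k X 2 hd,
    Fga.IntAdd.eulerCharLE_eq k X 2 hd, Fga.IntAdd.eulerCharLE_eq k X 2 hd]

omit [X.Over (Spec (CommRingCat.of k))] [IsProper (X ↘ Spec (CommRingCat.of k))] in
theorem isCoh_structureModule : Coh.IsCoh (Coh.structureModule X) :=
  CurvesB.UnitCoh.isCoh_structureModule X

theorem ip_mul_left (hd : topologicalKrullDim X ≤ (2 : ℕ)) {A A' B : X.Modules} (hA : PicF.IsInvertible A)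
    (hA' : PicF.IsInvertible A') (hB : PicF.IsInvertible B) :
    ip k X (CohB1.tensorMod A A') B = ip k X A B + ip k X A' B := by
  refine S3232.result k X 2 hd ![B] (fun i => ?_) A A' hA hA' (Coh.structureModule X)
    (isCoh_structureModule X) ?_
  · fin_cases i
    exact hB
  · refine le_trans ?_ hd
    exact (Topology.IsInducing.subtypeVal (t := CohB1.support (Coh.structureModule X))).topologicalKrullDim_le

theorem ip_mul_right (hd : topologicalKrullDim X ≤ (2 : ℕ)) {A B B' : X.Modules} (hA : PicF.IsInvertible A)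
    (hB : PicF.IsInvertible B) (hB' : PicF.IsInvertible B') :
    ip k X A (CohB1.tensorMod B B') = ip k X A B + ip k X A B' := by
  rw [ip_symm, ip_mul_left k X hd hB hB' hA, ip_symm k X B, ip_symm k X B']

theorem ip_one_right (hd : topologicalKrullDim X ≤ (2 : ℕ)) (A : X.Modules) :
    ip k X A (Coh.structureModule X) = 0 := by
  rw [ip_eq k X hd, euler_congr (k := k) (A := CohB1.tensorMod A (Coh.structureModule X)) (B := A)
    (by rw [mc_tensor, mc_one, mul_one])]
  ring

theorem euler_add {S : ShortComplex X.Modules} (hS : S.ShortExact) (h1 : Coh.IsCoh S.X₁) (h2 : Coh.IsCoh S.X₂)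
    (h3 : Coh.IsCoh S.X₃) : Curv2.euler k X S.X₂ = Curv2.euler k X S.X₁ + Curv2.euler k X S.X₃ :=
  S1524.result k X S hS h1 h2 h3

/-- `χ(A ⊗ O_D) = χ(A) - χ(A ⊗ I_D)`. -/
theorem euler_tensor_quotMod {A : X.Modules} (hA : PicF.IsInvertible A) (hA' : Coh.IsCoh A)
    (D : X.IdealSheafData) :
    Curv2.euler k X (CohB1.tensorMod A (ClSub.quotMod D)) =
      Curv2.euler k X A - Curv2.euler k X (CohB1.tensorMod A (ClSub.idealMod D)) := by
  have := Fga.IntAdd.isNoetherian k X
  have hS := Fga.TwistCoh.shortExact_tensorBi hA _ (VarietyB.DegCartier.idealSeq_shortExact D)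
  have h1 : Coh.IsCoh (CohB1.tensorMod A (ClSub.idealMod D)) :=
    VarietyA.EulerFinite.isCoh_of_iso (Ega2.Tens.swap _ _)
      (Fga.TwistCoh.isCoh_tensor (VarietyB.DegCartier.isCoh_idealMod D) hA)
  have h3 : Coh.IsCoh (CohB1.tensorMod A (ClSub.quotMod D)) :=
    VarietyA.EulerFinite.isCoh_of_iso (Ega2.Tens.swap _ _)
      (Fga.TwistCoh.isCoh_tensor (VarietyB.DegCartier.isCoh_quotMod D) hA)
  have h2 : Coh.IsCoh (CohB1.tensorMod A (Coh.structureModule X)) :=
    VarietyA.EulerFinite.isCoh_of_iso (Ega2.Tens.runit A).symm hA'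
  have h := euler_add k X hS h1 h2 h3
  have e : Curv2.euler k X (CohB1.tensorMod A (Coh.structureModule X)) = Curv2.euler k X A :=
    euler_congr (by rw [mc_tensor, mc_one, mul_one])
  change Curv2.euler k X (CohB1.tensorMod A (Coh.structureModule X)) =
    Curv2.euler k X (CohB1.tensorMod A (ClSub.idealMod D)) + Curv2.euler k X (CohB1.tensorMod A (ClSub.quotMod D)) at h
  rw [e] at h
  rw [h]
  ring

theorem isCoh_of_isInvertible {A : X.Modules} (hA : PicF.IsInvertible A) : Coh.IsCoh A :=
  VarietyA.EulerFinite.isCoh_of_iso (Ega2.Tens.lunit A)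
    (Fga.TwistCoh.isCoh_tensor (isCoh_structureModule X) hA)

theorem euler_quotMod (D : X.IdealSheafData) :
    Curv2.euler k X (ClSub.quotMod D) =
      Curv2.euler k X (Coh.structureModule X) - Curv2.euler k X (ClSub.idealMod D) := by
  have h := euler_tensor_quotMod k X (Fdesc.LocGen.isInvertible_structureModule (X := X))
    (isCoh_structureModule X) D
  have e1 : Curv2.euler k X (CohB1.tensorMod (Coh.structureModule X) (ClSub.quotMod D)) =
      Curv2.euler k X (ClSub.quotMod D) := euler_congr (by rw [mc_tensor, mc_one, one_mul])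
  have e2 : Curv2.euler k X (CohB1.tensorMod (Coh.structureModule X) (ClSub.idealMod D)) =
      Curv2.euler k X (ClSub.idealMod D) := euler_congr (by rw [mc_tensor, mc_one, one_mul])
  rw [e1, e2] at h
  exact h

/-- `A · I_D = χ(O_D) - χ(A ⊗ O_D)`. -/
theorem ip_idealMod (hd : topologicalKrullDim X ≤ (2 : ℕ)) {A : X.Modules} (hA : PicF.IsInvertible A)
    (D : X.IdealSheafData) :
    ip k X A (ClSub.idealMod D) =
      Curv2.euler k X (ClSub.quotMod D) - Curv2.euler k X (CohB1.tensorMod A (ClSub.quotMod D)) := by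
  rw [ip_eq k X hd, euler_quotMod, euler_tensor_quotMod k X hA (isCoh_of_isInvertible X hA)]
  ring

theorem ip_idealMod_mul (hd : topologicalKrullDim X ≤ (2 : ℕ)) {A : X.Modules} (hA : PicF.IsInvertible A)
    {D E : X.IdealSheafData} (hD : BlowUp.IsEffCartierIdeal D) (hE : BlowUp.IsEffCartierIdeal E) :
    ip k X A (ClSub.idealMod (D * E)) = ip k X A (ClSub.idealMod D) + ip k X A (ClSub.idealMod E) := by
  rw [← ip_mul_right k X hd hA (isInvertible_idealMod hD) (isInvertible_idealMod hE)]
  exact ip_congr k X rfl (by rw [mc_idealMod_mul hD hE, mc_tensor])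

/-- Intersection with a sum of effective Cartier divisors. -/
theorem ip_idealMod_prod (hd : topologicalKrullDim X ≤ (2 : ℕ)) {A : X.Modules} (hA : PicF.IsInvertible A)
    (s : Multiset X.IdealSheafData) (hs : ∀ C ∈ s, BlowUp.IsEffCartierIdeal C) :
    ip k X A (ClSub.idealMod s.prod) = (s.map fun C => ip k X A (ClSub.idealMod C)).sum := by
  induction s using Multiset.induction_on with
  | empty =>
    rw [Multiset.prod_zero, Multiset.map_zero, Multiset.sum_zero, Scheme.IdealSheafData.one_eq_top,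
      ip_congr k X (A := A) (A' := A) (B' := Coh.structureModule X) rfl (by rw [mc_idealMod_top, mc_one]),
      ip_one_right k X hd]
  | cons C s ih =>
    have hC := hs C (Multiset.mem_cons_self _ _)
    have hs' : ∀ B ∈ s, BlowUp.IsEffCartierIdeal B := fun B hB => hs B (Multiset.mem_cons_of_mem hB)
    rw [Multiset.prod_cons, Multiset.map_cons, Multiset.sum_cons,
      ip_idealMod_mul k X hd hA hC (isEff_prod s hs'), ih hs']

end K458.Ip
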