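import Mathlib.RingTheory.Ideal.KrullsHeightTheorem
import Mathlib.RingTheory.Ideal.AssociatedPrime.Finiteness

/-!
# A prime of height one avoiding an element
-/

set_option autoImplicit false

namespace K458.HeightOne

theorem exists_height_one {A : Type*} [CommRing A] [IsDomain A] [IsNoetherianRing A] (m : Ideal A) [m.IsPrime]
    (hm : 1 < m.height) (a : A) (ha : a ≠ 0) (ham : a ∈ m) :
    ∃ q : Ideal A, q.IsPrime ∧ q ≤ m ∧ q.height = 1 ∧ a ∉ q := by
  have hfin : (Ideal.span {a}).minimalPrimes.Finite := Ideal.finite_minimalPrimes_of_isNoetherianRing A _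
  have hspan : Ideal.span {a} ≤ m := (Ideal.span_singleton_le_iff_mem _).2 ham
  have hav : ¬ ((m : Set A) ⊆ ⋃ p ∈ (Ideal.span {a}).minimalPrimes, ((id p : Ideal A) : Set A)) := by
    intro h
    rw [Ideal.subset_union_prime_finite hfin (f := id) 0 0 (fun p hp _ _ => hp.1.1)] at h
    obtain ⟨p, hp, hmp⟩ := h
    have h1 : m.height ≤ p.height := Ideal.height_mono hmp
    have h2 : p.height ≤ 1 := Ideal.height_le_one_of_isPrincipal_of_mem_minimalPrimes (Ideal.span {a}) p hp
    exact absurd (h1.trans h2) (not_le.2 hm)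
  obtain ⟨g, hgm, hg⟩ := Set.not_subset.1 hav
  have hg' : ∀ p ∈ (Ideal.span {a}).minimalPrimes, g ∉ p := fun p hp hgp =>
    hg (Set.mem_iUnion₂.2 ⟨p, hp, hgp⟩)
  obtain ⟨p₀, hp₀, -⟩ := Ideal.exists_minimalPrimes_le hspan
  have hg0 : g ≠ 0 := by
    rintro rfl
    exact hg' p₀ hp₀ (zero_mem _)
  obtain ⟨q, hq, hqm⟩ := Ideal.exists_minimalPrimes_le
    (show Ideal.span {g} ≤ m from (Ideal.span_singleton_le_iff_mem _).2 hgm)
  have hqp : q.IsPrime := hq.1.1
  have hgq : g ∈ q := (Ideal.span_singleton_le_iff_mem _).1 hq.1.2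
  have hq1 : q.height ≤ 1 := Ideal.height_le_one_of_isPrincipal_of_mem_minimalPrimes (Ideal.span {g}) q hq
  have hq0 : q.height ≠ 0 := by
    rw [Ne, Ideal.height_eq_zero_iff_eq_bot]
    rintro rfl
    exact hg0 ((Ideal.mem_bot).1 hgq)
  have hq1' : q.height = 1 := le_antisymm hq1 (ENat.one_le_iff_ne_zero.2 hq0)
  refine ⟨q, hqp, hqm, hq1', fun haq => ?_⟩
  obtain ⟨p, hp, hpq⟩ := Ideal.exists_minimalPrimes_le
    (show Ideal.span {a} ≤ q from (Ideal.span_singleton_le_iff_mem _).2 haq)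
  have hpp : p.IsPrime := hp.1.1
  rcases hpq.eq_or_lt with h | h
  · exact hg' p hp (h ▸ hgq)
  · have h1 := Ideal.height_add_one_le_of_lt_of_isPrime h
    rw [hq1'] at h1
    have h2 : p.height = 0 := by
      have : p.height + 1 ≤ 0 + 1 := by simpa using h1
      exact le_antisymm ((ENat.add_le_add_iff_right (by simp)).1 this) zero_le'
    rw [Ideal.height_eq_zero_iff_eq_bot] at h2
    have h3 : a ∈ p := (Ideal.span_singleton_le_iff_mem _).1 hp.1.2
    rw [h2] at h3
    exact ha ((Ideal.mem_bot).1 h3)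

end K458.HeightOne
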