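import Groth.Agent.Surf.K458.NumConn
import Groth.Agent.Surf.K458.HeightOne
import Groth.Agent.S8862
import Groth.Agent.S1604
import Groth.Agent.Sga5.ProjReg
import Groth.Agent.Grpsch.PicGrp

/-!
# Positivity: curves meeting a divisor properly
-/

set_option autoImplicit false
universe u

open CategoryTheory CategoryTheory.Limits AlgebraicGeometry TopologicalSpace Opposite

namespace K458.Pos

open Groth.Agent Groth.Agent.VarietyA.EulerLES Groth.Agent.Dix.IdealModCartier Groth.Agent.Fga.PicMon
open K458.Ram K458.Ip K458.Curve K458.NumConn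

theorem fromSpec_mem_support {X : Scheme.{u}} (D : X.IdealSheafData) {U : X.Opens} (hU : IsAffineOpen U)
    (z : Spec Γ(X, U)) : hU.fromSpec z ∈ (D.support : Set X) ↔ D.ideal ⟨U, hU⟩ ≤ z.asIdeal := by
  have hzU : hU.fromSpec z ∈ (U : Set X) := by
    have h : hU.fromSpec z ∈ Set.range hU.fromSpec := ⟨z, rfl⟩
    rw [hU.range_fromSpec] at h
    exact h
  have h1 : hU.fromSpec z ∈ (D.support : Set X) ↔
      hU.fromSpec z ∈ X.zeroLocus (U := U) (D.ideal ⟨U, hU⟩) ∩ U := by
    rw [← D.coe_support_inter ⟨U, hU⟩]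
    exact ⟨fun h => ⟨h, hzU⟩, fun h => h.1⟩
  rw [h1, ← hU.fromSpec_image_zeroLocus]
  constructor
  · rintro ⟨w, hw, hwz⟩
    have : w = z := hU.fromSpec.isOpenEmbedding.injective hwz
    rw [← this]
    exact hw
  · intro h
    exact ⟨z, h, rfl⟩

/-- A point of codimension one specializing to a given point of an effective Cartier divisor `D` but not lying on
`D`. -/
theorem exists_point {X : Scheme.{u}} [IsIntegral X] [IsLocallyNoetherian X] {D : X.IdealSheafData}
    (hD : BlowUp.IsEffCartierIdeal D) {x : X} (hx : x ∈ (D.support : Set X))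
    (hx2 : ringKrullDim (X.presheaf.stalk x) = 2) :
    ∃ y : X, y ⤳ x ∧ ringKrullDim (X.presheaf.stalk y) = 1 ∧ y ∉ (D.support : Set X) := by
  obtain ⟨⟨U, hU⟩, hxU, a, ha, hI⟩ := hD x
  have hU : IsAffineOpen U := hU
  obtain ⟨z, rfl⟩ : ∃ z : Spec Γ(X, U), hU.fromSpec z = x := ⟨hU.primeIdealOf ⟨x, hxU⟩, hU.fromSpec_primeIdealOf _⟩
  have : Nonempty U := ⟨⟨_, hxU⟩⟩
  have : IsDomain Γ(X, U) := inferInstance
  have : IsNoetherianRing Γ(X, U) := IsLocallyNoetherian.component_noetherian ⟨U, hU⟩
  have hh := Sga5.ProjReg.ringKrullDim_stalk_of_isOpenImmersion hU.fromSpec z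
  rw [hx2] at hh
  have hh' : z.asIdeal.height = 2 := (WithBot.coe_injective hh).symm
  rw [fromSpec_mem_support, hI, Ideal.span_singleton_le_iff_mem] at hx
  have hzp : z.asIdeal.IsPrime := z.isPrime
  obtain ⟨q, hq, hqz, hq1, haq⟩ := HeightOne.exists_height_one z.asIdeal (by
    rw [hh']; exact_mod_cast (by norm_num : (1 : ℕ) < 2)) a (nonZeroDivisors.ne_zero ha) hx
  let w : Spec Γ(X, U) := ⟨q, hq⟩
  refine ⟨hU.fromSpec w, ?_, ?_, ?_⟩
  · have h1 : w ⤳ z := (PrimeSpectrum.le_iff_specializes w z).1 hqz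
    exact h1.map hU.fromSpec.continuous
  · rw [Sga5.ProjReg.ringKrullDim_stalk_of_isOpenImmersion hU.fromSpec w]
    change ((q.height : ℕ∞) : WithBot ℕ∞) = 1
    rw [hq1]
    rfl
  · rw [fromSpec_mem_support, hI, Ideal.span_singleton_le_iff_mem]
    exact haq

/-- A nonempty effective Cartier divisor on a curve has positive degree. -/
theorem euler_idealMod_lt (k : Type u) [Field k] (Y : Scheme.{u}) [Y.Over (Spec (CommRingCat.of k))]
    [IsProper (Y ↘ Spec (CommRingCat.of k))] (hd : topologicalKrullDim Y ≤ 1) {D : Y.IdealSheafData}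
    (hD : BlowUp.IsEffCartierIdeal D) (hne : D ≠ ⊤) :
    Curv2.euler k Y (ClSub.idealMod D) < Curv2.euler k Y (Coh.structureModule Y) := by
  have hI := isInvertible_idealMod hD
  obtain ⟨L, hL, ⟨e⟩⟩ := Grpsch.PicGrp.exists_inverse hI
  have e' : CohB1.tensorMod L (ClSub.idealMod D) ≅ Coh.structureModule Y := (Ega2.Tens.swap _ _).trans e
  have h1 := (S1604.result k Y hd D hD L hL ⟨e'⟩ 1 (ClSub.idealMod D) (VarietyB.DegCartier.isFinLocFreeOfRank_one hI)).2
  have h2 : Curv2.euler k Y (CohB1.tensorMod (ClSub.idealMod D) L) = Curv2.euler k Y (Coh.structureModule Y) :=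
    VarietyA.EulerAdd.euler_congr (k := k) e
  have h3 := finrank_pos k hne
  unfold Curv2.deg at h1
  rw [h2] at h1
  push_cast at h1
  have h3' : (0 : ℤ) < Module.finrank k (Coh.HH Y (ClSub.quotMod D) 0) := by exact_mod_cast h3
  linarith

variable {X : Scheme.{u}} (k : Type u) [Field k] [X.Over (Spec (CommRingCat.of k))]
  [IsProper (X ↘ Spec (CommRingCat.of k))]

attribute [local instance] subOver

/-- `D · C > 0` if the curve `C` meets `D` and is not contained in `D`. -/
theorem ip_pos (hd : topologicalKrullDim X ≤ (2 : ℕ)) {D C : X.IdealSheafData}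
    (hD : BlowUp.IsEffCartierIdeal D) (hC : IsCurve C)
    (hmeet : ((D.support : Set X) ∩ C.support).Nonempty) (hnot : ¬ (C.support : Set X) ⊆ D.support) :
    0 < ip k X (ClSub.idealMod D) (ClSub.idealMod C) := by
  have hint := hC.int
  have hD' : BlowUp.IsEffCartierIdeal (D.comap C.subschemeι) := by
    refine S8862.result C.subschemeι D hD fun ξ hξ hmem => hnot ?_
    have h1 : genericPoint C.subscheme = ξ := hξ _ (genericPoint_specializes ξ)
    rw [← Decomp.ι_genericPoint, h1]
    exact closure_minimal (Set.singleton_subset_iff.2 hmem) D.support.isClosed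
  have hne : D.comap C.subschemeι ≠ ⊤ := by
    obtain ⟨x, hxD, hxC⟩ := hmeet
    rw [← Scheme.IdealSheafData.range_subschemeι] at hxC
    obtain ⟨y, rfl⟩ := hxC
    intro h
    have h1 : y ∈ ((D.comap C.subschemeι).support : Set C.subscheme) := by
      rw [Scheme.IdealSheafData.support_comap]
      exact hxD
    rw [h, Scheme.IdealSheafData.support_top] at h1
    exact h1
  obtain ⟨e⟩ := pullback_idealMod C.subschemeι hD hD'
  have hlt := euler_idealMod_lt k C.subscheme ((dim_subscheme C).trans hC.dim).le hD' hne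
  rw [ip_idealMod k X hd (isInvertible_idealMod hD), euler_tensor_quotMod_eq k C (isInvertible_idealMod hD),
    euler_quotMod_eq, VarietyA.EulerAdd.euler_congr (k := k) e]
  exact sub_pos.2 hlt

end K458.Pos
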