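import Groth.Agent.Surf.K458.Pos
import Groth.Agent.Fga.HodgeIneq
import Groth.Agent.Fga.DimCut

/-!
# The Hodge inequality for effective divisors; nef and big divisors are numerically connected
-/

set_option autoImplicit false
universe u

open CategoryTheory CategoryTheory.Limits AlgebraicGeometry TopologicalSpace Opposite

namespace K458.Hodge

open Groth.Agent Groth.Agent.VarietyA.EulerLES Groth.Agent.Dix.IdealModCartier Groth.Agent.Fga.PicMon
open K458.Ram K458.Ip K458.Curve K458.NumConn K458.Pos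

variable {X : Scheme.{u}}

theorem hasSec_structureModule [Nonempty X] : HasSec (Coh.structureModule X) := by
  have hne : Nonempty (⊤ : X.Opens) := ⟨⟨Classical.arbitrary X, trivial⟩⟩
  have : Nontrivial Γ(X, ⊤) := Scheme.component_nontrivial X ⊤
  exact (CurvesB.HZero.equivO X).toEquiv.nontrivial

/-- The inverse of the ideal of an effective Cartier divisor has a nonzero section. -/
theorem hasSec_inverse [Nonempty X] {D : X.IdealSheafData} {M : X.Modules} (hM : PicF.IsInvertible M)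
    (e : mc M * mc (ClSub.idealMod D) = 1) : HasSec M := by
  have hS := Fga.TwistCoh.shortExact_tensorBi hM _ (VarietyB.DegCartier.idealSeq_shortExact D)
  have hinj := injective₀ _ hS
  have h1 : HasSec (CohB1.tensorMod M (ClSub.idealMod D)) :=
    (hasSec_congr (by rw [mc_tensor, e, mc_one])).1 (hasSec_structureModule (X := X))
  have h2 : HasSec (CohB1.tensorMod M (Coh.structureModule X)) := @Function.Injective.nontrivial _ _ h1 _ hinj
  exact (hasSec_congr (by rw [mc_tensor, mc_one, mul_one])).1 h2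

variable (k : Type u) [Field k] [X.Over (Spec (CommRingCat.of k))]
  [IsProper (X ↘ Spec (CommRingCat.of k))]

/-- **Hodge inequality** for effective Cartier divisors `D`, `E` with `D² > 0`. -/
theorem hodge [IsIntegral X] (hd : topologicalKrullDim X ≤ (2 : ℕ)) {D E : X.IdealSheafData}
    (hD : BlowUp.IsEffCartierIdeal D) (hE : BlowUp.IsEffCartierIdeal E)
    (hpos : 0 < ip k X (ClSub.idealMod D) (ClSub.idealMod D)) :
    ip k X (ClSub.idealMod D) (ClSub.idealMod D) * ip k X (ClSub.idealMod E) (ClSub.idealMod E) ≤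
      ip k X (ClSub.idealMod D) (ClSub.idealMod E) ^ 2 := by
  obtain ⟨M, hM, ⟨e⟩⟩ := Grpsch.PicGrp.exists_inverse (isInvertible_idealMod hD)
  obtain ⟨N, hN, ⟨f⟩⟩ := Grpsch.PicGrp.exists_inverse (isInvertible_idealMod hE)
  have e' : CohB1.tensorMod M (ClSub.idealMod D) ≅ Coh.structureModule X := (Ega2.Tens.swap _ _).trans e
  have f' : CohB1.tensorMod N (ClSub.idealMod E) ≅ Coh.structureModule X := (Ega2.Tens.swap _ _).trans f
  have hs : HasSec M := hasSec_inverse hM (by rw [← mc_tensor, ← mc_one]; exact mc_eq e')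
  have hs' : Nontrivial (Coh.HH X M 0) := hs
  have hfin : Module.Finite k (Coh.HH X M 0) := VarietyA.CurveFin.finite_HH k X hM 0
  obtain ⟨s, hs⟩ := Fga.HodgeSec.exists_section k (L := M) Module.finrank_pos
  exact Fga.HodgeIneq.hodge_ineq k X hd M (ClSub.idealMod D) N (ClSub.idealMod E) hM (isInvertible_idealMod hD) hN
    (isInvertible_idealMod hE) ⟨e'⟩ ⟨f'⟩ s hs hpos

omit [IsProper (X ↘ Spec (CommRingCat.of k))] in
theorem exists_closed_point [IsProper (X ↘ Spec (CommRingCat.of k))] [IsIntegral X] (hdim : topologicalKrullDim X = 2)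
    {D : X.IdealSheafData} (hne : D ≠ ⊤) :
    ∃ x ∈ (D.support : Set X), ringKrullDim (X.presheaf.stalk x) = 2 := by
  have hc : CompactSpace X := QuasiCompact.compactSpace_of_compactSpace (X ↘ (Spec (CommRingCat.of k)))
  have hne' : (D.support : Set X).Nonempty := by
    obtain ⟨y⟩ := nonempty_subscheme hne
    exact ⟨_, by rw [← Scheme.IdealSheafData.range_subschemeι]; exact ⟨y, rfl⟩⟩
  obtain ⟨x, hx, hx'⟩ := IsClosed.exists_closed_singleton D.support.isClosed hne'
  refine ⟨x, hx, ?_⟩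
  rw [Fga.DimCut.ringKrullDim_stalk_eq (k := k) X x hx', hdim]

/-- The curve through a point. -/
theorem isCurve_pt [IsIntegral X] [Smooth (X ↘ Spec (CommRingCat.of k))] (hdim : topologicalKrullDim X = 2) (y : X)
    (hy : ringKrullDim (X.presheaf.stalk y) = 1) : IsCurve (Decomp.pt y) := by
  have hN : IsLocallyNoetherian X := LocallyOfFiniteType.isLocallyNoetherian (X ↘ (Spec (CommRingCat.of k)))
  exact ⟨inferInstance, Decomp.dim_pt k hdim y hy, Decomp.isEff_pt (Decomp.factorial_of_smooth k) y hy⟩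

/-- Every nonempty effective Cartier divisor meets some curve positively. -/
theorem exists_curve_pos [IsIntegral X] [Smooth (X ↘ Spec (CommRingCat.of k))] (hdim : topologicalKrullDim X = 2)
    {D : X.IdealSheafData} (hD : BlowUp.IsEffCartierIdeal D) (hne : D ≠ ⊤) :
    ∃ C : X.IdealSheafData, IsCurve C ∧ 0 < ip k X (ClSub.idealMod D) (ClSub.idealMod C) := by
  have hN : IsLocallyNoetherian X := LocallyOfFiniteType.isLocallyNoetherian (X ↘ (Spec (CommRingCat.of k)))
  obtain ⟨x, hx, hx2⟩ := exists_closed_point k hdim hne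
  obtain ⟨y, hyx, hy, hyD⟩ := exists_point hD hx hx2
  have hC := isCurve_pt k hdim y hy
  refine ⟨Decomp.pt y, hC, ip_pos k hdim.le hD hC ⟨x, hx, ?_⟩ fun h => hyD (h (Decomp.mem_support_pt y))⟩
  rw [Decomp.support_pt]
  exact hyx.mem_closure

theorem arith (d e c g : ℤ) (hd : 0 < d) (hc : 0 < c) (h : ∀ t : ℕ, d * (g + 2 * t * c) ≤ e ^ 2) : False := by
  have h0 := h ((e ^ 2 + |d * g| + 1).toNat)
  have h3 : 0 ≤ e ^ 2 + |d * g| + 1 := by positivity
  rw [Int.toNat_of_nonneg h3] at h0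
  have h2 : 1 ≤ d * c := mul_pos hd hc
  have h4 : -(d * g) ≤ |d * g| := neg_le_abs _
  nlinarith [mul_le_mul_of_nonneg_left h2 h3, sq_nonneg e, abs_nonneg (d * g)]

/-- The final contradiction: `D² > 0`, `E ≠ 0` effective with `D·E = 0` and `E² = 0` is impossible. -/
theorem no_isotropic [IsIntegral X] [Smooth (X ↘ Spec (CommRingCat.of k))] (hdim : topologicalKrullDim X = 2)
    {D E : X.IdealSheafData} (hD : BlowUp.IsEffCartierIdeal D) (hE : BlowUp.IsEffCartierIdeal E) (hne : E ≠ ⊤)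
    (hpos : 0 < ip k X (ClSub.idealMod D) (ClSub.idealMod D))
    (hDE : ip k X (ClSub.idealMod D) (ClSub.idealMod E) = 0)
    (hEE : ip k X (ClSub.idealMod E) (ClSub.idealMod E) = 0) : False := by
  have hd : topologicalKrullDim X ≤ (2 : ℕ) := hdim.le
  obtain ⟨C, hC, hEC⟩ := exists_curve_pos k hdim hE hne
  have hs : ∀ t : ℕ, ∀ B ∈ (C ::ₘ Multiset.replicate t E), BlowUp.IsEffCartierIdeal B := by
    intro t B hB
    rcases Multiset.mem_cons.1 hB with rfl | h
    · exact hC.eff
    · rw [Multiset.eq_of_mem_replicate h]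
      exact hE
  have hF : ∀ t : ℕ, BlowUp.IsEffCartierIdeal (C ::ₘ Multiset.replicate t E).prod := fun t => isEff_prod _ (hs t)
  have key : ∀ (t : ℕ) {A : X.Modules}, PicF.IsInvertible A →
      ip k X A (ClSub.idealMod (C ::ₘ Multiset.replicate t E).prod) =
        ip k X A (ClSub.idealMod C) + t * ip k X A (ClSub.idealMod E) := by
    intro t A hA
    rw [ip_idealMod_prod k X hd hA _ (hs t), Multiset.map_cons, Multiset.sum_cons, Multiset.map_replicate,
      Multiset.sum_replicate, nsmul_eq_mul]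
  refine arith _ (ip k X (ClSub.idealMod D) (ClSub.idealMod C)) _ (ip k X (ClSub.idealMod C) (ClSub.idealMod C))
    hpos hEC fun t => ?_
  have h1 := hodge k hd hD (hF t) hpos
  rw [key t (isInvertible_idealMod hD), hDE, key t (isInvertible_idealMod (hF t)), ip_symm k X _ (ClSub.idealMod C),
    ip_symm k X _ (ClSub.idealMod E), key t (isInvertible_idealMod hC.eff), key t (isInvertible_idealMod hE),
    hEE, ip_symm k X (ClSub.idealMod C) (ClSub.idealMod E)] at h1
  linarith

/-- **S15098** : a nef and big effective divisor is numerically connected. -/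
theorem numConn [IsAlgClosed k] [IsIntegral X] [Smooth (X ↘ Spec (CommRingCat.of k))] (hdim : topologicalKrullDim X = 2)
    {D₁ D₂ : X.IdealSheafData} (h₁ : BlowUp.IsEffCartierIdeal D₁) (h₂ : BlowUp.IsEffCartierIdeal D₂)
    (hne₁ : D₁ ≠ ⊤) (hne₂ : D₂ ≠ ⊤)
    (hpos : 0 < ip k X (ClSub.idealMod (D₁ * D₂)) (ClSub.idealMod (D₁ * D₂)))
    (hnef : ∀ C : X.IdealSheafData, IsCurve C → 0 ≤ ip k X (ClSub.idealMod (D₁ * D₂)) (ClSub.idealMod C)) :
    0 < ip k X (ClSub.idealMod D₁) (ClSub.idealMod D₂) := by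
  have hd : topologicalKrullDim X ≤ (2 : ℕ) := hdim.le
  have h := isEff_mul h₁ h₂
  have hD := isInvertible_idealMod h
  have hI₁ := isInvertible_idealMod h₁
  have hI₂ := isInvertible_idealMod h₂
  have hnn : ∀ E : X.IdealSheafData, BlowUp.IsEffCartierIdeal E →
      0 ≤ ip k X (ClSub.idealMod (D₁ * D₂)) (ClSub.idealMod E) := by
    intro E hE
    obtain ⟨s, rfl, hs⟩ := Decomp.exists_curves k hdim E hE
    rw [ip_idealMod_prod k X hd hD s fun C hC => (hs C hC).2.2.1]
    refine Multiset.sum_induction (fun z : ℤ => 0 ≤ z) _ (fun a b ha hb => add_nonneg ha hb) le_rfl fun z hz => ?_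
    obtain ⟨C, hC, rfl⟩ := Multiset.mem_map.1 hz
    exact hnef C ⟨(hs C hC).1, (hs C hC).2.1, (hs C hC).2.2.1⟩
  have hn₁ := hnn D₁ h₁
  have hn₂ := hnn D₂ h₂
  have e₁ : ip k X (ClSub.idealMod (D₁ * D₂)) (ClSub.idealMod D₁) =
      ip k X (ClSub.idealMod D₁) (ClSub.idealMod D₁) + ip k X (ClSub.idealMod D₁) (ClSub.idealMod D₂) := by
    rw [ip_symm, ip_idealMod_mul k X hd hI₁ h₁ h₂]
  have e₂ : ip k X (ClSub.idealMod (D₁ * D₂)) (ClSub.idealMod D₂) =
      ip k X (ClSub.idealMod D₁) (ClSub.idealMod D₂) + ip k X (ClSub.idealMod D₂) (ClSub.idealMod D₂) := by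
    rw [ip_symm, ip_idealMod_mul k X hd hI₂ h₁ h₂, ip_symm k X (ClSub.idealMod D₂) (ClSub.idealMod D₁)]
  have e₃ : ip k X (ClSub.idealMod (D₁ * D₂)) (ClSub.idealMod (D₁ * D₂)) =
      ip k X (ClSub.idealMod (D₁ * D₂)) (ClSub.idealMod D₁) + ip k X (ClSub.idealMod (D₁ * D₂)) (ClSub.idealMod D₂) :=
    ip_idealMod_mul k X hd hD h₁ h₂
  have H₁ := hodge k hd h h₁ hpos
  have H₂ := hodge k hd h h₂ hpos
  by_contra hq
  rw [not_lt] at hq
  have iso₁ := no_isotropic k hdim h h₁ hne₁ hpos
  have iso₂ := no_isotropic k hdim h h₂ hne₂ hpos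
  generalize ip k X (ClSub.idealMod (D₁ * D₂)) (ClSub.idealMod (D₁ * D₂)) = d at *
  generalize ip k X (ClSub.idealMod (D₁ * D₂)) (ClSub.idealMod D₁) = x at *
  generalize ip k X (ClSub.idealMod (D₁ * D₂)) (ClSub.idealMod D₂) = y at *
  generalize ip k X (ClSub.idealMod D₁) (ClSub.idealMod D₂) = q at *
  generalize ip k X (ClSub.idealMod D₁) (ClSub.idealMod D₁) = p at *
  generalize ip k X (ClSub.idealMod D₂) (ClSub.idealMod D₂) = r at *
  subst e₃
  have hp : p = x - q := by linarith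
  subst hp
  have hr : r = y - q := by linarith
  subst hr
  have h5 : x * y ≤ q * (x + y) := by nlinarith
  have h6 : q * (x + y) ≤ 0 := mul_nonpos_of_nonpos_of_nonneg hq hpos.le
  have h7 : 0 ≤ x * y := mul_nonneg hn₁ hn₂
  have h8 : x * y = 0 := le_antisymm (h5.trans h6) h7
  have h9 : q * (x + y) = 0 := le_antisymm h6 (by rw [← h8]; exact h5)
  have hq0 : q = 0 := by
    rcases mul_eq_zero.1 h9 with h | h
    · exact h
    · exact absurd h hpos.ne'
  subst hq0
  rcases mul_eq_zero.1 h8 with hx | hy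
  · exact iso₁ hx (by rw [hx]; rfl)
  · exact iso₂ hy (by rw [hy]; rfl)

end K458.Hodge
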