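import Groth.Agent.S1659
import Groth.Agent.S1684
import Groth.Agent.S1568
import Groth.Agent.S2821
import Groth.Agent.S1535
import Groth.Agent.CycA.IntLocal
import Groth.Agent.Ega1.ReducedSub

/-!
# Decomposition of effective Cartier divisors into integral ones

On a noetherian scheme whose local rings are factorial, every effective Cartier ideal is a product of ideals
`pt y` (the reduced ideal of the closure of a point `y` of codimension one).
-/

set_option autoImplicit false
universe u

open CategoryTheory CategoryTheory.Limits AlgebraicGeometry TopologicalSpace Opposite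

namespace K458.Decomp

open Groth.Agent

variable {X : Scheme.{u}}

/-- The reduced ideal sheaf of the closure of a point. -/
noncomputable def pt (y : X) : X.IdealSheafData :=
  Scheme.IdealSheafData.vanishingIdeal ⟨closure {y}, isClosed_closure⟩

theorem support_pt (y : X) : ((pt y).support : Set X) = closure {y} := by
  rw [pt, Scheme.IdealSheafData.coe_support_vanishingIdeal]
  rfl

theorem mem_support_pt (y : X) : y ∈ ((pt y).support : Set X) := by
  rw [support_pt]
  exact subset_closure rfl

theorem range_pt (y : X) : Set.range (pt y).subschemeι = closure {y} := by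
  rw [Scheme.IdealSheafData.range_subschemeι, support_pt]

instance isIntegral_pt (y : X) : IsIntegral (pt y).subscheme := by
  have hred : IsReduced (pt y).subscheme := Ega1.ReducedSub.isReduced_subscheme_vanishingIdeal _
  have hirr : IrreducibleSpace (pt y).subscheme := by
    have h1 : IsIrreducible (Set.range (pt y).subschemeι) := by
      rw [range_pt]; exact isIrreducible_singleton.closure
    have := Subtype.irreducibleSpace h1
    exact (pt y).subschemeι.isClosedEmbedding.isEmbedding.toHomeomorph.irreducibleSpace_iff.mpr this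
  exact isIntegral_of_irreducibleSpace_of_isReduced _

theorem ι_genericPoint (I : X.IdealSheafData) [IsIntegral I.subscheme] :
    closure {I.subschemeι (genericPoint I.subscheme)} = (I.support : Set X) := by
  rw [← Scheme.IdealSheafData.range_subschemeι, ← Set.image_univ]
  have h3 : closure {genericPoint I.subscheme} = Set.univ := genericPoint_closure _
  rw [← h3, ← I.subschemeι.isClosedEmbedding.closure_image_eq, Set.image_singleton]

theorem genericPoint_pt (y : X) : (pt y).subschemeι (genericPoint (pt y).subscheme) = y := by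
  have h1 : IsGenericPoint ((pt y).subschemeι (genericPoint (pt y).subscheme)) (closure {y}) := by
    rw [IsGenericPoint, ι_genericPoint, support_pt]
  exact h1.eq isGenericPoint_closure

/-- Factoriality of all local rings. -/
def Factorial (X : Scheme.{u}) : Prop :=
  ∀ x : X, IsDomain (X.presheaf.stalk x) ∧ UniqueFactorizationMonoid (X.presheaf.stalk x)

theorem factorial_of_regular (h : ∀ x : X, IsRegularLocalRing (X.presheaf.stalk x)) : Factorial X := by
  intro x
  have := h x
  exact S2821.result _

theorem factorial_of_smooth (k : Type u) [Field k] [X.Over (Spec (CommRingCat.of k))]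
    [Smooth (X ↘ (Spec (CommRingCat.of k)))] : Factorial X :=
  factorial_of_regular fun x => S1535.result k X x

theorem isEff_of_integral [IsLocallyNoetherian X] (h : Factorial X) (I : X.IdealSheafData) [IsIntegral I.subscheme]
    (hI : ringKrullDim (X.presheaf.stalk (I.subschemeι (genericPoint I.subscheme))) = 1) :
    BlowUp.IsEffCartierIdeal I :=
  S1684.result X I hI fun x _ => h x

theorem isEff_pt [IsLocallyNoetherian X] (h : Factorial X) (y : X)
    (hy : ringKrullDim (X.presheaf.stalk y) = 1) : BlowUp.IsEffCartierIdeal (pt y) := by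
  refine isEff_of_integral h (pt y) ?_
  rw [genericPoint_pt]
  exact hy

/-- The generic points of a closed subscheme of a noetherian scheme. -/
theorem exists_gens [IsNoetherian X] (D : X.IdealSheafData) :
    ∃ G : Set X, G.Finite ∧ (∀ ξ ∈ G, ξ ∈ (D.support : Set X) ∧ ∀ y ∈ (D.support : Set X), y ⤳ ξ → y = ξ) ∧
      (D.support : Set X) ⊆ ⋃ ξ ∈ G, closure {ξ} := by
  have hemb := D.subschemeι.isClosedEmbedding
  have hN : NoetherianSpace D.subscheme := hemb.isInducing.noetherianSpace
  have hrange : Set.range D.subschemeι = (D.support : Set X) := Scheme.IdealSheafData.range_subschemeι D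
  refine ⟨D.subschemeι '' genericPoints D.subscheme,
    (genericPoints.finite NoetherianSpace.finite_irreducibleComponents).image _, ?_, ?_⟩
  · rintro _ ⟨t, ht, rfl⟩
    refine ⟨by rw [← hrange]; exact ⟨t, rfl⟩, fun y hy hyt => ?_⟩
    rw [← hrange] at hy
    obtain ⟨s, rfl⟩ := hy
    have hst : s ⤳ t := hemb.isInducing.specializes_iff.1 hyt
    have h1 : closure {t} ⊆ closure {s} := specializes_iff_closure_subset.1 hst
    have h2 : closure {s} ⊆ closure {t} := ht.2 isIrreducible_singleton.closure h1
    have h3 : s = t := (isGenericPoint_closure (x := s)).eq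
      (show IsGenericPoint t (closure {s}) from (h1.antisymm h2))
    rw [h3]
  · intro x hx
    rw [← hrange] at hx
    obtain ⟨t, rfl⟩ := hx
    let c : irreducibleComponents D.subscheme :=
      ⟨irreducibleComponent t, irreducibleComponent_mem_irreducibleComponents t⟩
    let g := genericPoints.ofComponent c
    have hg : IsGenericPoint g.1 (irreducibleComponent t) := genericPoints.isGenericPoint_ofComponent c
    refine Set.mem_iUnion₂.2 ⟨D.subschemeι g.1, ⟨g.1, g.2, rfl⟩, ?_⟩
    have h1 : g.1 ⤳ t := hg.specializes mem_irreducibleComponent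
    exact (h1.map D.subschemeι.continuous).mem_closure

theorem exists_multiset_of_prod {r : ℕ} (y : Fin r → X) (a : Fin r → ℕ) (t : Finset (Fin r)) :
    ∃ s : Multiset X, ∏ i ∈ t, pt (y i) ^ a i = (s.map pt).prod ∧ ∀ z ∈ s, ∃ i, z = y i := by
  classical
  induction t using Finset.induction_on with
  | empty => exact ⟨0, by simp, by simp⟩
  | insert i t hi ih =>
    obtain ⟨s, hs, hs'⟩ := ih
    refine ⟨Multiset.replicate (a i) (y i) + s, ?_, ?_⟩
    · rw [Finset.prod_insert hi, hs, Multiset.map_add, Multiset.prod_add, Multiset.map_replicate,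
        Multiset.prod_replicate]
    · intro z hz
      rcases Multiset.mem_add.1 hz with h | h
      · exact ⟨i, Multiset.eq_of_mem_replicate h⟩
      · exact hs' z h

/-- Every effective Cartier ideal on a noetherian factorial scheme is a product of integral ones. -/
theorem exists_multiset [IsNoetherian X] (h : Factorial X) (D : X.IdealSheafData)
    (hD : BlowUp.IsEffCartierIdeal D) :
    ∃ s : Multiset X, D = (s.map pt).prod ∧
      ∀ y ∈ s, y ∈ (D.support : Set X) ∧ ringKrullDim (X.presheaf.stalk y) = 1 := by
  obtain ⟨G, hGf, hG, hsub⟩ := exists_gens D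
  have hdim : ∀ ξ ∈ G, ringKrullDim (X.presheaf.stalk ξ) = 1 := fun ξ hξ =>
    S1568.result X D hD ξ (hG ξ hξ).1 (hG ξ hξ).2
  have hfin : Finite G := hGf.to_subtype
  let e := Finite.equivFin G
  obtain ⟨a, ha⟩ := S1659.result X D hD (Nat.card G) (fun i => pt (e.symm i).1)
    (fun i => isEff_pt h _ (hdim _ (e.symm i).2)) (fun i => isIntegral_pt _) (by
      intro x hx
      obtain ⟨ξ, hξ, hx'⟩ := Set.mem_iUnion₂.1 (hsub hx)
      refine Set.mem_iUnion.2 ⟨e ⟨ξ, hξ⟩, ?_⟩
      rw [support_pt, Equiv.symm_apply_apply]
      exact hx')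
  obtain ⟨s, hs, hs'⟩ := exists_multiset_of_prod (fun i => (e.symm i).1) a Finset.univ
  refine ⟨s, by rw [ha, hs], fun y hy => ?_⟩
  obtain ⟨i, rfl⟩ := hs' y hy
  exact ⟨(hG _ (e.symm i).2).1, hdim _ (e.symm i).2⟩

/-- On an integral surface over a field a point of codimension one has one-dimensional closure. -/
theorem dim_pt (k : Type u) [Field k] [X.Over (Spec (CommRingCat.of k))] [IsIntegral X]
    [LocallyOfFiniteType (X ↘ (Spec (CommRingCat.of k)))] (hdim : topologicalKrullDim X = 2) (y : X)
    (hy : ringKrullDim (X.presheaf.stalk y) = 1) : topologicalKrullDim ((pt y).support : Set X) = 1 := by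
  obtain ⟨a, t, n, h1, -, h3, h4, h5⟩ := CycA.IntLocal.exists_dims (X ↘ (Spec (CommRingCat.of k))) y
  rw [support_pt, h3]
  rw [hy] at h1
  rw [hdim] at h4
  have h1' : a = 1 := by exact_mod_cast h1.symm
  have h4' : n = 2 := by exact_mod_cast h4.symm
  have : t = 1 := by omega
  rw [this]
  rfl

/-- Decomposition of an effective Cartier divisor on a smooth surface into integral curves. -/
theorem exists_curves (k : Type u) [Field k] [X.Over (Spec (CommRingCat.of k))] [IsIntegral X]
    [IsProper (X ↘ (Spec (CommRingCat.of k)))] [Smooth (X ↘ (Spec (CommRingCat.of k)))]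
    (hdim : topologicalKrullDim X = 2) (D : X.IdealSheafData) (hD : BlowUp.IsEffCartierIdeal D) :
    ∃ s : Multiset X.IdealSheafData, D = s.prod ∧ ∀ C ∈ s, IsIntegral C.subscheme ∧
      topologicalKrullDim (C.support : Set X) = 1 ∧ BlowUp.IsEffCartierIdeal C ∧
      (C.support : Set X) ⊆ D.support := by
  have hN : IsLocallyNoetherian X := LocallyOfFiniteType.isLocallyNoetherian (X ↘ (Spec (CommRingCat.of k)))
  have hc : CompactSpace X := QuasiCompact.compactSpace_of_compactSpace (X ↘ (Spec (CommRingCat.of k)))
  have hN' : IsNoetherian X := {}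
  have hf : Factorial X := factorial_of_smooth k
  obtain ⟨s, hs, hs'⟩ := exists_multiset hf D hD
  refine ⟨s.map pt, hs, fun C hC => ?_⟩
  obtain ⟨y, hy, rfl⟩ := Multiset.mem_map.1 hC
  refine ⟨isIntegral_pt y, dim_pt k hdim y (hs' y hy).2, isEff_pt hf y (hs' y hy).2, ?_⟩
  rw [support_pt]
  exact closure_minimal (Set.singleton_subset_iff.2 (hs' y hy).1) (D.support.isClosed)

end K458.Decomp
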