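import Groth.Agent.Surf.K458.KerMul
import Groth.Agent.Divis.CartierStalk

/-!
# `A'/A'B' ≅ O/B' ⊗ i^*A` on a closed subscheme `i : Y ⟶ X` contained in `AB` (K458)

`kernel_iso` : `ker (O_Y/A'B' → O_Y/A') ≅ O_Y/B' ⊗ i^* A` for `A' = A.comap i`, `B' = B.comap i`, `ker i ≤ AB`.
-/

set_option autoImplicit false
universe u

open CategoryTheory CategoryTheory.Limits AlgebraicGeometry TopologicalSpace Opposite

namespace K458.KerMul2

open Groth.Agent.Fdesc.LocGen Groth.Agent.Sga2.HomGens Groth.Agent.Dix.IdealModCartier Groth.Agent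
open Groth.Agent.Sga2 Groth.Agent.Sga2.ThickKer Groth.Agent.Divis.CartierBasic Groth.Agent.Divis.CartierStalk

variable {X Y : Scheme.{u}}

theorem germ_ores {U V : X.Opens} (h : V ≤ U) (x : X) (hx : x ∈ V) (a : Γ(X, U)) :
    X.presheaf.germ V x hx (ores h a) = X.presheaf.germ U x (h hx) a :=
  congr($(X.presheaf.germ_res (homOfLE h) x hx) a)

theorem stalkIdeal_genOn {A : X.IdealSheafData} {U : X.Opens} {t : Γ(X, U)} (ht : GenOn A t) (x : X) (hx : x ∈ U) :
    stalkIdeal A x = Ideal.span {X.presheaf.germ U x hx t} := by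
  obtain ⟨V, hxV, hV⟩ := exists_affine_mem_le U x hx
  rw [stalkIdeal_eq A V hxV, (ht V hV).2, Ideal.map_span, Set.image_singleton]
  congr 2
  exact germ_ores hV x hxV t

theorem germ_mem_nonZeroDivisors {A : X.IdealSheafData} (hA : BlowUp.IsEffCartierIdeal A) {U : X.Opens}
    {t : Γ(X, U)} (ht : GenOn A t) (x : X) (hx : x ∈ U) :
    X.presheaf.germ U x hx t ∈ nonZeroDivisors (X.presheaf.stalk x) := by
  obtain ⟨g, hg, h⟩ := exists_stalkIdeal_eq_span hA x
  have h1 : g ∈ Ideal.span {X.presheaf.germ U x hx t} := by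
    rw [← stalkIdeal_genOn ht x hx, h]; exact Ideal.mem_span_singleton_self _
  rw [Ideal.mem_span_singleton] at h1
  obtain ⟨c, hc⟩ := h1
  rw [hc, mul_mem_nonZeroDivisors] at hg
  exact hg.1

variable (i : Y ⟶ X)

/-- The pullback of a local generator generates the inverse image ideal. -/
theorem ideal_comap_genOn {A : X.IdealSheafData} {U : X.Opens} {t : Γ(X, U)} (ht : GenOn A t) (V : Y.affineOpens)
    (hV : V.1 ≤ i ⁻¹ᵁ U) :
    (A.comap i).ideal V = Ideal.span {ores hV (i.app U t : Γ(Y, i ⁻¹ᵁ U))} := by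
  have key : ∀ (y : Y) (hy : y ∈ V.1), ((A.comap i).ideal V).map (Y.presheaf.germ V.1 y hy).hom =
      (Ideal.span {ores hV (i.app U t : Γ(Y, i ⁻¹ᵁ U))}).map (Y.presheaf.germ V.1 y hy).hom := by
    intro y hy
    rw [← stalkIdeal_eq (A.comap i) V hy, stalkIdeal_comap, stalkIdeal_genOn ht (i y) (hV hy), Ideal.map_span,
      Ideal.map_span, Set.image_singleton, Set.image_singleton]
    congr 2
    have h1 : (Y.presheaf.germ V.1 y hy).hom (ores hV (i.app U t : Γ(Y, i ⁻¹ᵁ U))) =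
        Y.presheaf.germ (i ⁻¹ᵁ U) y (hV hy) (i.app U t) := germ_ores hV y hy _
    rw [h1]
    exact Scheme.Hom.germ_stalkMap_apply i U y (hV hy) t
  apply le_antisymm
  · rw [V.2.ideal_le_iff]; exact fun x hx => (key x hx).le
  · rw [V.2.ideal_le_iff]; exact fun x hx => (key x hx).ge

theorem mem_iff {A : X.IdealSheafData} {U : X.Opens} {t : Γ(X, U)} (ht : GenOn A t) (V : Y.affineOpens)
    (hV : V.1 ≤ i ⁻¹ᵁ U) (a : Γ(Y, V.1)) :
    a ∈ (A.comap i).ideal V ↔ ∃ b, a = b * ores hV (i.app U t : Γ(Y, i ⁻¹ᵁ U)) := by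
  rw [ideal_comap_genOn i ht V hV, Ideal.mem_span_singleton']
  exact ⟨fun ⟨b, hb⟩ => ⟨b, hb.symm⟩, fun ⟨b, hb⟩ => ⟨b, hb.symm⟩⟩

theorem mul_mem_iff [IsClosedImmersion i] {A : X.IdealSheafData} (hA : BlowUp.IsEffCartierIdeal A)
    (B : X.IdealSheafData) (hi : i.ker ≤ A * B) {U : X.Opens} {t : Γ(X, U)} (ht : GenOn A t)
    (V : Y.affineOpens) (hV : V.1 ≤ i ⁻¹ᵁ U) (a : Γ(Y, V.1)) :
    a * ores hV (i.app U t : Γ(Y, i ⁻¹ᵁ U)) ∈ (A.comap i * B.comap i).ideal V ↔ a ∈ (B.comap i).ideal V := by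
  constructor
  · intro h
    rw [← Ideal.span_singleton_le_iff_mem, V.2.ideal_le_iff]
    intro y hy
    rw [← stalkIdeal_eq (B.comap i) V hy, Ideal.map_span, Set.image_singleton, Ideal.span_singleton_le_iff_mem]
    have h1 := Ideal.mem_map_of_mem (Y.presheaf.germ V.1 y hy).hom h
    rw [← stalkIdeal_eq _ V hy, map_mul, stalkIdeal_mul, stalkIdeal_comap, stalkIdeal_comap, ← Ideal.map_mul,
      ← stalkIdeal_mul] at h1
    obtain ⟨α, hα⟩ := i.stalkMap_surjective y ((Y.presheaf.germ V.1 y hy).hom a)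
    have h2 : (Y.presheaf.germ V.1 y hy).hom (ores hV (i.app U t : Γ(Y, i ⁻¹ᵁ U))) =
        (i.stalkMap y).hom (X.presheaf.germ U (i y) (hV hy) t) :=
      (germ_ores hV y hy _).trans (Scheme.Hom.germ_stalkMap_apply i U y (hV hy) t).symm
    have hα' : (i.stalkMap y).hom α = (Y.presheaf.germ V.1 y hy).hom a := hα
    rw [h2, ← hα', ← map_mul] at h1
    have hsurj : Function.Surjective (i.stalkMap y).hom := i.stalkMap_surjective y
    rw [Ideal.mem_map_iff_of_surjective _ hsurj] at h1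
    obtain ⟨z, hz, hz'⟩ := h1
    have h3 : α * X.presheaf.germ U (i y) (hV hy) t ∈ stalkIdeal (A * B) (i y) := by
      have h4 : α * X.presheaf.germ U (i y) (hV hy) t - z ∈ RingHom.ker (i.stalkMap y).hom := by
        rw [RingHom.mem_ker, map_sub, hz', sub_self]
      rw [ker_stalkMap] at h4
      have h5 := stalkIdeal_mono hi (i y) h4
      have h6 := Ideal.add_mem _ h5 hz
      rwa [sub_add_cancel] at h6
    rw [stalkIdeal_mul, stalkIdeal_genOn ht (i y) (hV hy), Ideal.mem_span_singleton_mul] at h3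
    obtain ⟨β, hβ, h4⟩ := h3
    rw [mul_comm] at h4
    have h5 : β = α := (mul_cancel_right_mem_nonZeroDivisors (germ_mem_nonZeroDivisors hA ht (i y) (hV hy))).1 h4
    rw [← hα', stalkIdeal_comap]
    exact Ideal.mem_map_of_mem _ (h5 ▸ hβ)
  · intro h
    have h1 : (A.comap i * B.comap i).ideal V = (A.comap i).ideal V * (B.comap i).ideal V := rfl
    rw [h1, mul_comm a]
    exact Ideal.mul_mem_mul ((mem_iff i ht V hV _).2 ⟨1, (one_mul _).symm⟩) h

theorem kernel_iso [IsClosedImmersion i] {A : X.IdealSheafData} (hA : BlowUp.IsEffCartierIdeal A)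
    (B : X.IdealSheafData) (hi : i.ker ≤ A * B) (h : A.comap i * B.comap i ≤ A.comap i) :
    Nonempty (CohB1.tensorMod (ClSub.quotMod (B.comap i)) ((Scheme.Modules.pullback i).obj (ClSub.idealMod A)) ≅
      kernel (Lef.quotMap h)) := by
  obtain ⟨U, t, p, hx, ht, hp, hpt⟩ := exists_cover hA
  have hcov : ⨆ x, i ⁻¹ᵁ (U x) = ⊤ := by
    rw [eq_top_iff]
    intro x _
    exact Opens.mem_iSup.2 ⟨i x, hx (i x)⟩
  have hmono : Mono (kernel.ι (Lef.quotMap h)) := equalizer.ι_mono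
  have hinj := fun V => @Smoothlim.ModKer.app_injective_of_mono _ _ _ (kernel.ι (Lef.quotMap h)) hmono V
  have hmem : ∀ x, cls (A.comap i) (i.app (U x) (t x) : Γ(Y, i ⁻¹ᵁ (U x))) = 0 := by
    intro x
    refine HomGens.eq_of_affine_cover (ClSub.quotMod (A.comap i)) (ι := Unit) (U := fun _ => ⊤) (by simp)
      fun j W hW _ => ?_
    rw [res_cls, map_zero, cls_eq_zero_iff, mem_iff i (ht x) W hW]
    exact ⟨1, (one_mul _).symm⟩
  have hk : ∀ x, ∃ k : Γ(kernel (Lef.quotMap h), i ⁻¹ᵁ (U x)), (kernel.ι (Lef.quotMap h)).app (i ⁻¹ᵁ (U x)) k =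
      cls (A.comap i * B.comap i) (i.app (U x) (t x) : Γ(Y, i ⁻¹ᵁ (U x))) := by
    intro x
    apply Smoothlim.ModKer.exists_of_app_eq_zero
    rw [quotMap_cls]
    exact hmem x
  choose k hk using hk
  have hkr : ∀ x (V : Y.Opens) (hV : V ≤ i ⁻¹ᵁ (U x)) (r : Γ(Y, V)),
      (kernel.ι (Lef.quotMap h)).app V (r • res _ hV (k x)) =
        cls (A.comap i * B.comap i) (r * ores hV (i.app (U x) (t x) : Γ(Y, i ⁻¹ᵁ (U x)))) := by
    intro x V hV r
    rw [Scheme.Modules.Hom.app_smul, app_res, hk, res_cls, smul_cls]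
  have hgk : ∀ x, Gen (k x) := by
    intro x V hV s
    obtain ⟨r, hr⟩ := cls_surjective (A.comap i * B.comap i) V ((kernel.ι (Lef.quotMap h)).app V.1 s)
    have h1 : (Lef.quotMap h).app V.1 (cls (A.comap i * B.comap i) r) = 0 := by
      rw [hr]
      exact congr(($(kernel.condition (Lef.quotMap h))).app V.1 s)
    rw [quotMap_cls, cls_eq_zero_iff, mem_iff i (ht x) V hV] at h1
    obtain ⟨r', rfl⟩ := h1
    refine ⟨r', hinj V.1 ?_⟩
    rw [hkr, hr]
  obtain ⟨φ, -⟩ := exists_iso hcov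
    (M := CohB1.tensorMod (ClSub.quotMod (B.comap i)) ((Scheme.Modules.pullback i).obj (ClSub.idealMod A)))
    (N := kernel (Lef.quotMap h)) (e := fun x => tmul (cls (B.comap i) (1 : Γ(Y, i ⁻¹ᵁ (U x)))) (pullSec i (p x)))
    (n := k) (fun x => gen_tmul (gen_cls_one _ _) ((hp x).pullSec i)) (fun x y V hi' hj => by
      obtain ⟨c, h1, h2⟩ := exists_trans (D := A) (p := p x) (hp y) (U x ⊓ U y) inf_le_left inf_le_right
      rw [hpt, hpt] at h2
      have hVi : V.1 ≤ i ⁻¹ᵁ (U x ⊓ U y) := le_inf hi' hj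
      have h3 := congr(pullSec i $h1)
      rw [pullSec_smul, ← res_pullSec, ← res_pullSec] at h3
      have h4 : ∀ (V' : X.Opens) (h : (U x) ⊓ (U y) ≤ V') (z : Γ(X, V')),
          (i.app ((U x) ⊓ (U y)) (ores h z) : Γ(Y, i ⁻¹ᵁ ((U x) ⊓ (U y)))) =
            ores (i.preimage_mono h) (i.app V' z : Γ(Y, i ⁻¹ᵁ V')) := by
        intro V' h z
        exact congr($(i.naturality (homOfLE h).op) z)
      have h5 := congr((i.app (U x ⊓ U y)) $h2)
      rw [map_mul, h4, h4] at h5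
      refine ⟨ores hVi (i.app _ c : Γ(Y, i ⁻¹ᵁ (U x ⊓ U y))), ?_, ?_⟩
      · have h6 := congr(res _ hVi $h3)
        rw [res_smul, res_res, res_res] at h6
        rw [res_tmul, res_tmul, res_cls, res_cls, map_one, map_one, h6, tmul_smul]
      · apply hinj V.1
        have h6 := hkr x V.1 hi' 1
        rw [one_smul, one_mul] at h6
        have h7 := congr(ores hVi $h5)
        rw [map_mul, ores_ores, ores_ores] at h7
        rw [h6, hkr, h7]) hgk (fun x V hV r => by
      rw [res_tmul, res_cls, map_one, smul_tmul_eq_zero_iff _ (((hp x).pullSec i).res hV),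
        smul_cls, mul_one, cls_eq_zero_iff]
      constructor
      · intro h1
        apply hinj V.1
        rw [hkr]
        refine ((cls_eq_zero_iff (A.comap i * B.comap i) V _).2 ?_).trans (map_zero _).symm
        rw [mul_mem_iff i hA B hi (ht x)]
        exact h1
      · intro h1
        have h2 := hkr x V.1 hV r
        rw [h1, map_zero] at h2
        have h3 := (cls_eq_zero_iff (A.comap i * B.comap i) V _).1 h2.symm
        rwa [mul_mem_iff i hA B hi (ht x)] at h3)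
  exact ⟨φ⟩

end K458.KerMul2
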