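import Groth.Agent.Surf.K458.Ram
import Groth.Agent.Surf.K458.KerMul2
import Groth.Agent.Surf.K464.RatConf
import Groth.Agent.VarietyB.ClosedInter

/-!
# Ramanujam's argument on a divisor `j : Y ⟶ X` (K458)

`N` invertible on a closed subscheme `Y` of `X` contained in the cycle `cyc C n`.
-/

set_option autoImplicit false
universe u

open CategoryTheory CategoryTheory.Limits AlgebraicGeometry TopologicalSpace Opposite

namespace K458.Ram2

open Groth.Agent Groth.Agent.VarietyA.EulerLES Groth.Agent.Dix.IdealModCartier Groth.Agent.Ega2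
open Groth.Agent.Fga.PicMon Groth.Agent.Grpsch.PicGrp
open K458.Ram K464.Base K464.Curves K464.DivLat

variable {X Y : Scheme.{u}} (j : Y ⟶ X) [IsClosedImmersion j]

/-- A nonzero section of `N ⊗ O/A'B'` which dies in `N ⊗ O/A'` gives a nonzero section of `(N ⊗ j^*A) ⊗ O/B'`. -/
theorem step {N : Y.Modules} (hN : PicF.IsInvertible N) {A : X.IdealSheafData} (hA : BlowUp.IsEffCartierIdeal A)
    (B : X.IdealSheafData) (hj : j.ker ≤ A * B) {D : Y.IdealSheafData} (hD : D = A.comap j * B.comap j)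
    (hle : D ≤ A.comap j) (x : Coh.HH Y (CohB1.tensorMod N (ClSub.quotMod D)) 0) (hx : x ≠ 0)
    (h0 : mapΓ (restr N hle) 0 x = 0) :
    HasSec (CohB1.tensorMod (CohB1.tensorMod N ((Scheme.Modules.pullback j).obj (ClSub.idealMod A)))
      (ClSub.quotMod (B.comap j))) := by
  subst hD
  obtain ⟨y, hy⟩ := (exact₂ _ (shortExact_seq hN hle) 0 x).1 h0
  have h1 : HasSec (seq N hle).X₁ := by
    refine ⟨y, 0, ?_⟩
    rintro rfl
    exact hx (hy.symm.trans (map_zero _))
  refine (hasSec_congr ?_).1 h1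
  obtain ⟨e⟩ := KerMul2.kernel_iso j hA B hj hle
  have h2 : mc (seq N hle).X₁ = mc N * mc (kernel (Lef.quotMap hle)) := mc_tensor _ _
  rw [h2, ← mc_eq e, mc_tensor, mc_tensor, mc_tensor, mul_comm (mc (ClSub.quotMod (B.comap j))), mul_assoc]

/-- **Ramanujam's argument** on a divisor. -/
theorem ram {ι : Type*} [Fintype ι] {C : ι → X.IdealSheafData}
    (hE : ∀ i, BlowUp.IsEffCartierIdeal (C i)) (n : ι → ℕ) (hj : j.ker ≤ cyc C n) (N : Y.Modules)
    (hN : PicF.IsInvertible N) (h : HasSec (CohB1.tensorMod N (ClSub.quotMod ((cyc C n).comap j)))) :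
    ∃ a b : ι → ℕ, a + b = n ∧ b ≠ 0 ∧ ∀ i, b i ≠ 0 → ∃ (L : Y.Modules) (hL : PicF.IsInvertible L),
      mk L hL = mk N hN * pull j (ic (cyc C a) (isEff_cyc hE a)) ∧
        HasSec (CohB1.tensorMod L (ClSub.quotMod ((C i).comap j))) := by
  classical
  induction hm : ∑ i, n i using Nat.strong_induction_on generalizing n N with
  | _ m ih =>
  have hne : n ≠ 0 := by
    rintro rfl
    rw [cyc_zero, Scheme.IdealSheafData.comap_top] at h
    exact not_hasSec_of_isZero (isZero_tensor_quotMod_top N) h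
  have h' : Nontrivial (Coh.HH Y (CohB1.tensorMod N (ClSub.quotMod ((cyc C n).comap j))) 0) := h
  obtain ⟨x, hx⟩ := exists_ne (0 : Coh.HH Y (CohB1.tensorMod N (ClSub.quotMod ((cyc C n).comap j))) 0)
  have hdec : ∀ i, n i ≠ 0 → Pi.single i 1 + (n - Pi.single i 1) = n := by
    intro i hi
    funext l
    by_cases hl : l = i
    · subst hl; simp; omega
    · simp [Pi.single_apply, hl]
  have hcyc : ∀ i, n i ≠ 0 → cyc C n = C i * cyc C (n - Pi.single i 1) := by
    intro i hi
    conv_lhs => rw [← hdec i hi]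
    rw [cyc_add, cyc_single]
  by_cases H : ∀ i, n i ≠ 0 → ∀ hle : (cyc C n).comap j ≤ (C i).comap j, mapΓ (restr N hle) 0 x ≠ 0
  · refine ⟨0, n, zero_add n, hne, fun i hi => ⟨N, hN, ?_, ?_⟩⟩
    · rw [ic_congr (isEff_cyc hE 0) Divis.EffCartier.isEff_top (cyc_zero C), ic_top, map_one, mul_one]
    · have hle : (cyc C n).comap j ≤ (C i).comap j := by
        refine Scheme.IdealSheafData.comap_mono j ?_
        rw [hcyc i hi]
        exact K464.DivLat.mul_le_left _ _
      exact ⟨mapΓ (restr N hle) 0 x, 0, H i hi hle⟩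
  · push Not at H
    obtain ⟨i, hi, hle, h0⟩ := H
    set n' : ι → ℕ := n - Pi.single i 1 with hn'
    have hcn := hcyc i hi
    rw [← hn'] at hcn
    have hj1 : j.ker ≤ C i * cyc C n' := by rw [← hcn]; exact hj
    have hN' : PicF.IsInvertible (CohB1.tensorMod N ((Scheme.Modules.pullback j).obj (ClSub.idealMod (C i)))) :=
      Fdesc.LocGen.isInvertible_tensorMod hN (Fdesc.LocGen.isInvertible_pullback j (isInvertible_idealMod (hE i)))
    have key := step j hN (hE i) (cyc C n') hj1 (D := (cyc C n).comap j)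
      (by rw [hcn]; exact Divis.IdealComap.comap_mul _ _ _) hle x hx h0
    have hsum : ∑ l, n' l < m := by
      rw [← hm]
      refine Finset.sum_lt_sum (fun l _ => ?_) ⟨i, Finset.mem_univ i, ?_⟩
      · simp [hn']
      · simp [hn']; omega
    obtain ⟨a, b, hab, hb, hL⟩ := ih _ hsum n' (hj1.trans (K464.DivLat.mul_le_right' _ _)) _ hN' key rfl
    refine ⟨Pi.single i 1 + a, b, by rw [add_assoc, hab]; exact hdec i hi, hb, fun l hl => ?_⟩
    obtain ⟨L, hL1, hL2, hL3⟩ := hL l hl
    refine ⟨L, hL1, ?_, hL3⟩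
    have h1 : ic (cyc C (Pi.single i 1 + a)) (isEff_cyc hE _) = ic (C i) (hE i) * ic (cyc C a) (isEff_cyc hE a) := by
      rw [← ic_mul (hE i) (isEff_cyc hE a)]
      exact ic_congr _ _ (by rw [cyc_add, cyc_single])
    rw [hL2, h1, map_mul, ← mul_assoc]
    rfl

section deg

variable (k : Type u) [Field k] [X.Over (Spec (CommRingCat.of k))] [Y.Over (Spec (CommRingCat.of k))]
  (hj : j ≫ (X ↘ Spec (CommRingCat.of k)) = Y ↘ Spec (CommRingCat.of k))

omit [X.Over (Spec (CommRingCat.of k))] [Y.Over (Spec (CommRingCat.of k))] in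
theorem isCurve_comap {C : X.IdealSheafData} (hC : IsCurve C) (h : j.ker ≤ C) : IsCurve (C.comap j) := by
  have := hC.integral
  have e := VarietyB.ClosedInter.comapIsoOfLe j C h
  have hne : Nonempty (C.comap j).subscheme := ⟨e.inv (genericPoint _)⟩
  refine ⟨isIntegral_of_isOpenImmersion e.hom, ?_⟩
  rw [← dim_sub, ← hC.dim, ← dim_sub]
  exact IsHomeomorph.topologicalKrullDim_eq _ (Scheme.homeoOfIso e).isHomeomorph

include hj in
/-- Degrees on a curve in `Y` and on its image in `X`. -/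
theorem degOn_comap {C : X.IdealSheafData} (h : j.ker ≤ C) (a : Pic X) :
    degOn k Y (C.comap j) (pull j a) = degOn k X C a := by
  obtain ⟨L, hL, rfl⟩ := exists_mk a
  rw [pull_mk, degOn_eq_deg, degOn_eq_deg]
  let _ := overC k X C
  let _ := overC k Y (C.comap j)
  rw [CurvesC.DegIso.deg_restrict_restrict k j (C.comap j).subschemeι L 1]
  exact CurvesC.DegIso.deg_restrict k ((C.comap j).subschemeι ≫ j) C.subschemeι
    (by rw [Category.assoc, hj]; rfl) rfl (VarietyB.ClosedInter.comapIsoOfLe j C h)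
    (VarietyB.ClosedInter.comapIsoOfLe_hom j C h) L 1

omit [X.Over (Spec (CommRingCat.of k))] [IsClosedImmersion j] in
/-- An invertible module on a curve with a nonzero section has nonnegative degree. -/
theorem degOn_nonneg_of_hasSec [IsProper (Y ↘ Spec (CommRingCat.of k))] {C : Y.IdealSheafData} (hC : IsCurve C)
    {L : Y.Modules} (hL : PicF.IsInvertible L) (h : HasSec (CohB1.tensorMod L (ClSub.quotMod C))) :
    0 ≤ degOn k Y C (mk L hL) := by
  by_contra hcon
  push Not at hcon
  have h1 := K464.Cohom.subsingleton_H0_of_neg k hC hL hcon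
  have h2 : HasSec (CohB1.tensorMod (ClSub.quotMod C) L) := h.of_iso (Ega2.Tens.swap _ _)
  exact (not_subsingleton_iff_nontrivial.2 h2) h1

end deg

end K458.Ram2
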