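import Groth.Agent.Surf.K458.FibZar
import Groth.Agent.Surf.K458.Ram2
import Groth.Agent.Variety.K432.NefBasic

/-!
# Sections on multiples of a fibre (K458)

`h0_of_neg`: an invertible module on `D = rF` of nonpositive degree on every curve and of negative total degree has no
section.
-/

set_option autoImplicit false
universe u
open CategoryTheory CategoryTheory.Limits AlgebraicGeometry Opposite TopologicalSpace

namespace K458.FibDiv

open Groth.Agent Groth.Agent.Grpsch.PicGrp Groth.Agent.Fga.PicMon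
open K464.Base K464.Curves K464.PtCurve K464.FibCurve K464.DivLat K464.NegDef K458.Ram

/-- The degree on a proper scheme of dimension one is nonnegative if it is nonnegative on all curves. -/
theorem deg_nonneg (k : Type u) [Field k] {Y : Scheme.{u}} [Y.Over (Spec (CommRingCat.of k))]
    [IsProper (Y ↘ Spec (CommRingCat.of k))] (hdim : topologicalKrullDim Y ≤ 1) {N : Y.Modules}
    (hN : PicF.IsInvertible N) (h : ∀ Γ : Y.IdealSheafData, IsCurve Γ → 0 ≤ degOn k Y Γ (mk N hN)) :
    0 ≤ Curv2.deg k Y N 1 := by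
  have h1 : K432.NefBasic.Nef (Y ↘ (Spec (CommRingCat.of k))) N :=
    (K432.NefBasic.nef_iff_hyp N hN).1 fun Γ h1 h2 => h Γ ⟨h1, h2⟩
  exact K432.NefBasic.dg_nonneg_of_dim_one (Y ↘ (Spec (CommRingCat.of k))) hdim N hN h1

/-- The numerical part. -/
theorem numeric {ι : Type*} [Fintype ι] [DecidableEq ι] {G : ι → ι → ℤ} (hsymm : ∀ i j, G i j = G j i)
    (hoff : ∀ i j, i ≠ j → 0 ≤ G i j) (hconn : IsConn G) (n : ι → ℕ) (hn : ∀ i, 0 < n i)
    (hrow : ∀ j, ∑ i, (n i : ℤ) * G i j = 0) (r : ℕ) (a b : ι → ℕ) (hab : a + b = r • n) (hb : b ≠ 0)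
    (d : ι → ℤ) (hd : ∀ i, d i ≤ 0) (h : ∀ i, b i ≠ 0 → ∑ l, (a l : ℤ) * G l i ≤ d i) (i : ι) : d i = 0 := by
  have hz : ∀ i, (0 : ℤ) < (n i : ℤ) := fun i => by exact_mod_cast hn i
  have hterm : ∀ i, (b i : ℤ) * ∑ l, (a l : ℤ) * G l i ≤ 0 := by
    intro i
    by_cases hi : b i = 0
    · rw [hi]; simp
    · exact mul_nonpos_of_nonneg_of_nonpos (by positivity) ((h i hi).trans (hd i))
  have h1 : ∑ i, (b i : ℤ) * ∑ l, (a l : ℤ) * G l i = - ∑ i, ∑ j, (a i : ℤ) * a j * G i j := by
    have h2 : ∑ i, (b i : ℤ) * ∑ l, (a l : ℤ) * G l i + ∑ i, (a i : ℤ) * ∑ l, (a l : ℤ) * G l i =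
        ∑ i, ((r : ℤ) * n i) * ∑ l, (a l : ℤ) * G l i := by
      rw [← Finset.sum_add_distrib]
      refine Finset.sum_congr rfl fun i _ => ?_
      have h3 : a i + b i = r * n i := congrFun hab i
      have h4 : (a i : ℤ) + b i = r * n i := by exact_mod_cast h3
      rw [← h4]; ring
    have h3 : ∑ i, ((r : ℤ) * n i) * ∑ l, (a l : ℤ) * G l i = 0 := by
      have h4 : ∑ i, ((r : ℤ) * n i) * ∑ l, (a l : ℤ) * G l i =
          ∑ l, ((r : ℤ) * a l) * ∑ i, (n i : ℤ) * G i l := by
        simp only [Finset.mul_sum]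
        rw [Finset.sum_comm]
        refine Finset.sum_congr rfl fun l _ => Finset.sum_congr rfl fun i _ => ?_
        rw [hsymm i l]; ring
      rw [h4]
      exact Finset.sum_eq_zero fun l _ => by rw [hrow l, mul_zero]
    have h4 : ∑ i, (a i : ℤ) * ∑ l, (a l : ℤ) * G l i = ∑ i, ∑ j, (a i : ℤ) * a j * G i j := by
      refine Finset.sum_congr rfl fun i _ => ?_
      rw [Finset.mul_sum]
      refine Finset.sum_congr rfl fun l _ => ?_
      rw [hsymm l i]; ring
    rw [h3, h4] at h2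
    linarith
  have hq := ZarLem.quad_nonpos hsymm hoff (fun i => (n i : ℤ)) hz hrow (fun i => (a i : ℤ))
  have hs : ∑ i, (b i : ℤ) * ∑ l, (a l : ℤ) * G l i ≤ 0 := Finset.sum_nonpos fun i _ => hterm i
  have hq0 : ∑ i, ∑ j, (a i : ℤ) * a j * G i j = 0 := by
    rw [h1] at hs
    beta_reduce at hq
    linarith
  have hprop := ZarLem.proportional hsymm hoff hconn (fun i => (n i : ℤ)) hz hrow (fun i => (a i : ℤ)) hq0
  have hbprop : ∀ i j, (b i : ℤ) * n j = b j * n i := by
    intro i j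
    have h2 := hprop i j
    have h3 : (a i : ℤ) + b i = r * n i := by exact_mod_cast congrFun hab i
    have h4 : (a j : ℤ) + b j = r * n j := by exact_mod_cast congrFun hab j
    beta_reduce at h2
    have h5 : (b i : ℤ) = r * n i - a i := by linarith
    have h6 : (b j : ℤ) = r * n j - a j := by linarith
    rw [h5, h6]
    linarith
  obtain ⟨i₀, hi₀⟩ := Function.ne_iff.1 hb
  have hbpos : ∀ i, b i ≠ 0 := by
    intro i hi
    have h2 := hbprop i i₀
    rw [hi] at h2
    have h3 : (0 : ℤ) < b i₀ := by exact_mod_cast Nat.pos_of_ne_zero hi₀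
    have h4 := mul_pos h3 (hz i)
    push_cast at h2
    linarith
  rw [h1, hq0, neg_zero] at hs
  have hs0 : ∑ i, (b i : ℤ) * ∑ l, (a l : ℤ) * G l i = 0 := by rw [h1, hq0, neg_zero]
  have h2 := (Finset.sum_eq_zero_iff_of_nonpos fun i _ => hterm i).1 hs0 i (Finset.mem_univ i)
  have h3 : ∑ l, (a l : ℤ) * G l i = 0 := by
    rcases mul_eq_zero.1 h2 with h | h
    · exact absurd (by exact_mod_cast h) (hbpos i)
    · exact h
  have h4 := h i (hbpos i)
  rw [h3] at h4
  exact le_antisymm (hd i) h4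

section main

variable (k : Type u) [Field k] [IsAlgClosed k] {X B : Scheme.{u}} [X.Over (Spec (CommRingCat.of k))]
  [B.Over (Spec (CommRingCat.of k))] [IsProper (X ↘ Spec (CommRingCat.of k))] [IsProper (B ↘ Spec (CommRingCat.of k))]
  (f : X ⟶ B) (hf : f ≫ (B ↘ Spec (CommRingCat.of k)) = X ↘ Spec (CommRingCat.of k))
  [Smooth (X ↘ Spec (CommRingCat.of k))] [IsIntegral X] (hdim : topologicalKrullDim X = 2)
  [Smooth (B ↘ Spec (CommRingCat.of k))] [IsIntegral B] (hdimB : topologicalKrullDim B = 1)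

include hf hdim hdimB in
theorem h0_of_neg [IsDominant f] (hconn : IsIso (ClSub.unitToPush f)) {b : B} (hb : IsClosed ({b} : Set B)) (r : ℕ)
    {Y : Scheme.{u}} [Y.Over (Spec (CommRingCat.of k))] [IsProper (Y ↘ Spec (CommRingCat.of k))]
    (j : Y ⟶ X) [IsClosedImmersion j] (hj : j ≫ (X ↘ Spec (CommRingCat.of k)) = Y ↘ Spec (CommRingCat.of k))
    (hker : j.ker = ((pt hb).comap f) ^ r) {N : Y.Modules} (hN : PicF.IsInvertible N)
    (hneg : Curv2.deg k Y N 1 < 0) (hcomp : ∀ Γ : Y.IdealSheafData, IsCurve Γ → degOn k Y Γ (mk N hN) ≤ 0) :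
    Subsingleton (Coh.HH Y N 0) := by
  by_contra hns
  rw [not_subsingleton_iff_nontrivial] at hns
  obtain ⟨m, C, n, hE, hC, hinj, hn, hF, hG, hrow⟩ := FibZar.exists_decomp k f hf hdim hdimB hconn hb
  rw [hF, ← cyc_nsmul] at hker
  have hbot : (cyc C (r • n)).comap j = ⊥ := by rw [← hker]; exact VarietyB.ClosedInter.comap_ker j
  have hsec : HasSec (CohB1.tensorMod N (ClSub.quotMod ((cyc C (r • n)).comap j))) := by
    rw [hbot]
    have h0 : HasSec N := hns
    have e : Coh.structureModule Y ≅ ClSub.quotMod (⊥ : Y.IdealSheafData) :=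
      CurvesC.DegIso.unitIso (asIso (⊥ : Y.IdealSheafData).subschemeι) (Coh.structureModule Y) ≪≫
        (Scheme.Modules.pushforward _).mapIso (CurvesA.HHMap.pullbackUnit _)
    exact h0.of_iso ((Ega2.Tens.runit N).symm ≪≫ Ega2.Tens.mapTIso (Iso.refl _) e)
  obtain ⟨a, c, hac, hc, H⟩ := Ram2.ram j hE (r • n) hker.le N hN hsec
  have hle : ∀ i, c i ≠ 0 → j.ker ≤ C i := by
    intro i hi
    rw [hker, le_iff_gp_mem (hC i), gp_mem_support_cyc_iff hC hinj]
    have h1 : a i + c i = r * n i := congrFun hac i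
    change r * n i ≠ 0
    omega
  have hr : r ≠ 0 := by
    rintro rfl
    obtain ⟨i, hi⟩ := Function.ne_iff.1 hc
    have h1 : a i + c i = 0 * n i := congrFun hac i
    rw [zero_mul] at h1
    exact hi (by simp; omega)
  have hle' : ∀ i, j.ker ≤ C i := by
    intro i
    rw [hker, le_iff_gp_mem (hC i), gp_mem_support_cyc_iff hC hinj]
    change r * n i ≠ 0
    exact mul_ne_zero hr (hn i).ne'
  have hd := numeric (gram_comm k hE) (gram_nonneg k hE hC hinj) hG n hn hrow r a c hac hc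
    (fun i => degOn k Y ((C i).comap j) (mk N hN)) (fun i => hcomp _ (Ram2.isCurve_comap j (hC i) (hle' i)))
    (fun i hi => by
      obtain ⟨L, hL, h1, h2⟩ := H i hi
      have hcu := Ram2.isCurve_comap j (hC i) (hle' i)
      have h3 := Ram2.degOn_nonneg_of_hasSec k hcu hL h2
      rw [h1, degOn_mul k hcu, Ram2.degOn_comap j k hj (hle' i), degOn_cyc k hE hdim.le] at h3
      linarith)
  refine absurd (deg_nonneg k ?_ hN fun Γ hΓ => ?_) (not_le.2 hneg)
  · have h1 : topologicalKrullDim Y = topologicalKrullDim ((j.ker).support : Set X) := by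
      rw [Scheme.Hom.support_ker, j.isClosedEmbedding.isClosed_range.closure_eq,
        VarietyB.DegComp.topologicalKrullDim_range_eq]
    rw [h1, hker]
    exact K464.RatConf.dim_support_cyc hC _
  · -- `Γ` is one of the `C i`
    have h1 : ∃ i, gp hΓ ∈ ((C i).comap j).support := by
      have h2 : j (gp hΓ) ∈ ((cyc C (r • n)).support : Set X) := by
        rw [← hker]
        exact j.range_subset_ker_support (Set.mem_range_self _)
      obtain ⟨i, hi⟩ := Set.mem_iUnion.1 (support_cyc_subset _ h2)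
      refine ⟨i, ?_⟩
      rw [Scheme.IdealSheafData.support_comap]
      exact hi
    obtain ⟨i, hi⟩ := h1
    have h2 : Γ = (C i).comap j := eq_of_gp_mem hΓ (Ram2.isCurve_comap j (hC i) (hle' i)) hi
    subst h2
    exact (hd i).ge

end main

end K458.FibDiv
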