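import Groth.Agent.Surf.K461.DualInv
import Groth.Agent.Surf.K461.SerreDual
import Groth.Agent.Sga7.H745.ExtReal
import Groth.Agent.VarietyA.EulerLES

/-!
# Vanishing of cohomology classes through the duality pairing

`τ` a perfect form on `Hom_D(O_X, W[2])`. A class `x ∈ H^1(X, F)` is zero if for every extension
`0 → W → E → F → 0` there is a morphism `a : F' → F` which lifts to `E` and such that `x` comes from `H^1(X, F')`.
-/

set_option autoImplicit false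

universe u

open CategoryTheory CategoryTheory.Limits AlgebraicGeometry CategoryTheory.Abelian

attribute [local instance] HasDerivedCategory.standard

namespace K458.DualZero

open Groth.Agent Groth.Agent.CurvesC Groth.Agent.CurvesC.RepX Groth.Agent.CurvesC.DualLin K461.DualAbs

variable (k : Type u) [Field k] {X : Scheme.{u}} [X.Over (Spec (CommRingCat.of k))]

attribute [local instance] LinMod.linearModules

/-- A morphism `F ⟶ W[1]` in the derived category, an extension realising it and a map `a` which lifts. -/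
theorem exists_ext {F W : X.Modules} (φ : DCoh.inD X F ⟶ (DCoh.inD X W)⟦((1 : ℕ) : ℤ)⟧) :
    ∃ (E : X.Modules) (i : W ⟶ E) (p : E ⟶ F) (w : i ≫ p = 0), (ShortComplex.mk i p w).ShortExact ∧
      ∀ {F' : X.Modules} (a : F' ⟶ F) (σ : F' ⟶ E), σ ≫ p = a →
        (DerivedCategory.singleFunctor X.Modules 0).map a ≫ φ = 0 := by
  have : HasExt.{u + 1} X.Modules := HasExt.standard _
  let e : Ext F W 1 := (Ext.homAddEquiv (X := F) (Y := W) (n := 1)).symm φ
  obtain ⟨E, i, p, w, hS, he⟩ := Sga7.H745.ExtReal.exists_extClass e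
  refine ⟨E, i, p, w, hS, fun {F'} a σ ha => ?_⟩
  have h1 : (Ext.mk₀ a).comp e (zero_add 1) = 0 := by
    rw [← he, ← ha, ← Ext.mk₀_comp_mk₀, Ext.comp_assoc_of_second_deg_zero]
    have h2 := hS.comp_extClass
    dsimp at h2
    rw [h2, Ext.comp_zero]
  have h3 := congrArg Ext.hom h1
  rw [Ext.comp_hom, Ext.mk₀_hom, ShiftedHom.mk₀_comp, Ext.zero_hom] at h3
  have h4 : e.hom = φ := (Ext.homAddEquiv (X := F) (Y := W) (n := 1)).apply_symm_apply φ
  rw [h4] at h3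
  exact h3

theorem eq_zero_of_forall_ext {W : X.Modules} (τ : (P X ⟶ (DCoh.inD X W)⟦((2 : ℕ) : ℤ)⟧) →ₗ[k] k)
    (hτ : ∀ K : DCoh.D X, DCoh.IsQCohD K → Function.Bijective (pairing k X τ K))
    {F : X.Modules} (hF : Coh.IsQCoh F) (x : HV X F 1)
    (h : ∀ (E : X.Modules) (i : W ⟶ E) (p : E ⟶ F) (w : i ≫ p = 0), (ShortComplex.mk i p w).ShortExact →
      ∃ (F' : X.Modules) (a : F' ⟶ F) (σ : F' ⟶ E), σ ≫ p = a ∧ ∃ y : HV X F' 1, HV.map k a 1 y = x) : x = 0 := by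
  obtain ⟨s, rfl⟩ := (homHVₗ k X F 1).surjective x
  suffices hs : s = 0 by rw [hs, map_zero]
  have hq := hτ _ (PerfA.QCohD.isQCohD_shift (PerfA.QCohD.isQCohD_inD F hF) ((1 : ℕ) : ℤ))
  rw [← Module.forall_dual_apply_eq_zero_iff k]
  intro ψ
  obtain ⟨φ, rfl⟩ := hq.2 ψ
  obtain ⟨φ₀, rfl⟩ := (homShiftE k F W ((1 : ℕ) : ℤ) ((1 : ℕ) : ℤ) ((2 : ℕ) : ℤ) (by lia)).surjective φ
  obtain ⟨E, i, p, w, hS, hE⟩ := exists_ext φ₀
  obtain ⟨F', a, σ, ha, y, hy⟩ := h E i p w hS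
  obtain ⟨t, rfl⟩ := (homHVₗ k X F' 1).surjective y
  rw [← homHVₗ_map] at hy
  have hy' := (homHVₗ k X F 1).injective hy
  rw [pairing_apply, ← hy', Category.assoc]
  have key : ((DerivedCategory.singleFunctor X.Modules 0).map a)⟦((1 : ℕ) : ℤ)⟧' ≫
      homShiftE k F W ((1 : ℕ) : ℤ) ((1 : ℕ) : ℤ) ((2 : ℕ) : ℤ) (by lia) φ₀ = 0 := by
    change (shiftFunctor (DCoh.D X) ((1 : ℕ) : ℤ)).map ((DerivedCategory.singleFunctor X.Modules 0).map a) ≫
      (((Iso.refl _).inv ≫ (shiftFunctor (DCoh.D X) ((1 : ℕ) : ℤ)).map φ₀) ≫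
        ((shiftFunctorAdd' (DCoh.D X) ((1 : ℕ) : ℤ) ((1 : ℕ) : ℤ) ((2 : ℕ) : ℤ) (by lia)).symm.app _).hom) = 0
    rw [Iso.refl_inv, Category.id_comp, ← Category.assoc, ← Functor.map_comp, hE a σ ha, Functor.map_zero, zero_comp]
  rw [key, comp_zero, map_zero]

/-- On a smooth proper surface. -/
theorem main [IsProper (X ↘ Spec (CommRingCat.of k))] [SmoothOfRelativeDimension 2 (X ↘ Spec (CommRingCat.of k))]
    {W : X.Modules} (hW : ExtPow.IsExtPow 2 (Omega.sheaf (X ↘ Spec (CommRingCat.of k))) W)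
    {F : X.Modules} (hF : Coh.IsQCoh F) (x : Coh.HH X F 1)
    (h : ∀ (E : X.Modules) (i : W ⟶ E) (p : E ⟶ F) (w : i ≫ p = 0), (ShortComplex.mk i p w).ShortExact →
      ∃ (F' : X.Modules) (a : F' ⟶ F) (σ : F' ⟶ E), σ ≫ p = a ∧
        ∃ y : Coh.HH X F' 1, VarietyA.EulerLES.mapA k a 1 y = x) : x = 0 := by
  obtain ⟨τ, hτ⟩ := K461.SerreDual.exists_form k X 2 W hW
  exact eq_zero_of_forall_ext k τ hτ hF x h

end K458.DualZero
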