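import Groth.Agent.PerfC.CartierExtend
import Groth.Agent.Dix.IdealModCartier
import Groth.Agent.Picfga.LineHom
import Groth.Agent.PerfA.QCohExt
import Groth.Agent.S2384
import Groth.Agent.CohtopB.CechSite
import Groth.Agent.CohqB.ToSheafExact
import Groth.Agent.CurvesC.UnitCoh
import Groth.Agent.Divis.EffCartier
import Groth.Agent.Ega2.QCohLocal

/-!
# Extensions of `O` by an invertible module split after multiplication by the equation of a divisor with affine
complement

`D` an effective Cartier ideal with affine complement on a noetherian scheme, `0 → W → E → O → 0` exact with `W`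
invertible: for `n ≫ 0` the inclusion `I_{nD} → O` lifts to `E`.
-/

set_option autoImplicit false
universe u

open CategoryTheory CategoryTheory.Limits AlgebraicGeometry Opposite TopologicalSpace

namespace K458.SplitExt

open Groth.Agent Groth.Agent.Fdesc.LocGen Groth.Agent.Dix.IdealModCartier

variable {X : Scheme.{u}}

theorem app_injective_of_mono {M N : X.Modules} (φ : M ⟶ N) [Mono φ] (U : X.Opens) :
    Function.Injective (φ.app U) := by
  have h1 : Mono ((Scheme.Modules.toPresheaf X).map φ) := inferInstance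
  have h2 : Mono (((Scheme.Modules.toPresheaf X).map φ).app (op U)) := inferInstance
  exact (AddCommGrpCat.mono_iff_injective _).1 h2

theorem sec_exact {S : ShortComplex X.Modules} (hS : S.ShortExact) (V : X.Opens) (x : Γ(S.X₂, V))
    (hx : S.g.app V x = 0) : ∃ y : Γ(S.X₁, V), S.f.app V y = x :=
  CohtopB.CechSite.exists_section_of_app_eq_zero (CohqB.ToSheafExact.shortExact_toAb hS) V x hx

/-- `M` has no sections killed by the equation of `D`. -/
def TF (D : X.IdealSheafData) (M : X.Modules) : Prop :=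
  ∀ x : X, ∃ (U : X.Opens) (a : Γ(X, U)), x ∈ U ∧ GenOn D a ∧
    ∀ (V : X.Opens) (h : V ≤ U) (s : Γ(M, V)), ores h a • s = 0 → s = 0

/-- Invertible modules are torsion free along an effective Cartier divisor. -/
theorem tf_of_isInvertible {D : X.IdealSheafData} (hD : BlowUp.IsEffCartierIdeal D) {M : X.Modules}
    (hM : PicF.IsInvertible M) : TF D M := by
  intro x
  obtain ⟨U, a, hx, ha⟩ := exists_genOn hD x
  obtain ⟨V, e, hx', he⟩ := (isInvertible_iff M).1 hM x
  refine ⟨U.1 ⊓ V, ores inf_le_left a, ⟨hx, hx'⟩, ha.res _, fun W hW s hs => ?_⟩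
  obtain ⟨b, rfl⟩ := (he.res (hW.trans inf_le_right)).exists_eq s
  rw [smul_smul] at hs
  have h1 : ores hW (ores (inf_le_left : U.1 ⊓ V ≤ U.1) a) * b = 0 :=
    (he.res (hW.trans inf_le_right)).ext (by rw [hs, zero_smul])
  have h2 : b * ores hW (ores (inf_le_left : U.1 ⊓ V ≤ U.1) a) = 0 * ores hW (ores (inf_le_left : U.1 ⊓ V ≤ U.1) a) := by
    rw [mul_comm, h1, zero_mul]
  have h3 : b = 0 := ((ha.res (inf_le_left : U.1 ⊓ V ≤ U.1)).res hW).cancel h2
  rw [h3, zero_smul]

/-- Extensions of torsion free modules are torsion free. -/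
theorem tf_ext {D : X.IdealSheafData} {S : ShortComplex X.Modules} (hS : S.ShortExact) (h1 : TF D S.X₁)
    (h3 : ∀ (U : X.Opens) (a : Γ(X, U)), GenOn D a → ∀ (V : X.Opens) (h : V ≤ U) (s : Γ(S.X₃, V)),
      ores h a • s = 0 → s = 0) : TF D S.X₂ := by
  have hmono := hS.mono_f
  intro x
  obtain ⟨U, a, hx, ha, H⟩ := h1 x
  refine ⟨U, a, hx, ha, fun V h s hs => ?_⟩
  have h4 : S.g.app V s = 0 := by
    refine h3 U a ha V h _ ?_
    rw [← Scheme.Modules.Hom.app_smul, hs, map_zero]
  obtain ⟨w, rfl⟩ := sec_exact hS V s h4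
  rw [← Scheme.Modules.Hom.app_smul] at hs
  have h5 : ores h a • w = 0 := app_injective_of_mono S.f V (by rw [hs, map_zero])
  rw [H V h w h5, map_zero]

theorem tf_structure_aux {D : X.IdealSheafData} (U : X.Opens) (a : Γ(X, U)) (ha : GenOn D a) (V : X.Opens) (h : V ≤ U)
    (s : Γ(Coh.structureModule X, V)) (hs : ores h a • s = 0) : s = 0 := by
  obtain ⟨b, rfl⟩ := (isGen_one (X := X) V).exists_eq s
  rw [smul_smul] at hs
  have h1 : ores h a * b = 0 := (isGen_one (X := X) V).ext (by rw [hs, zero_smul])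
  have h3 : b = 0 := (ha.res h).cancel (by rw [mul_comm, h1, zero_mul])
  rw [h3, zero_smul]

variable {D : X.IdealSheafData} {U : X.Opens} (hU : (D.support : Set X) = (U : Set X)ᶜ)

include hU in
/-- A section of a torsion free quasi-coherent module which vanishes off `D` is zero. -/
theorem eq_zero_of_res {M : X.Modules} (hM : Coh.IsQCoh M) (htf : TF D M) (V : X.Opens) (s : Γ(M, V))
    (hs : res M (inf_le_left : V ⊓ U ≤ V) s = 0) : s = 0 := by
  have key : ∀ x ∈ V, ∃ (A : X.Opens) (hA : A ≤ V), x ∈ A ∧ res M hA s = 0 := by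
    intro x hx
    obtain ⟨B, a, hxB, ha, H⟩ := htf x
    obtain ⟨A, hxA, hA⟩ := exists_affine_mem_le (V ⊓ B) x ⟨hx, hxB⟩
    have hAV : A.1 ≤ V := hA.trans inf_le_left
    have hAB : A.1 ≤ B := hA.trans inf_le_right
    refine ⟨A.1, hAV, hxA, ?_⟩
    have hI := (ha A hAB).2
    have hb := PerfC.CartierExtend.basicOpen_eq hU hI
    have h1 : res M (X.basicOpen_le (ores hAB a)) (res M hAV s) = 0 := by
      have h2 := congrArg (res M (show X.basicOpen (ores hAB a) ≤ V ⊓ U from by
        rw [hb]; exact inf_le_inf_right _ hAV)) hs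
      rw [map_zero, res_res] at h2
      rw [res_res]
      exact h2
    obtain ⟨n, hn⟩ := Fdesc.QCohStalk.exists_pow_smul_eq_zero (hU := A.2) M hM (ores hAB a) (res M hAV s) h1
    induction n with
    | zero =>
      rwa [pow_zero, one_smul] at hn
    | succ n ih =>
      rw [pow_succ', mul_smul] at hn
      exact ih (H A.1 hAB _ hn)
  choose A hA hxA hz using fun x : V => key x.1 x.2
  refine res_ext M A hA (fun x hx => Opens.mem_iSup.2 ⟨⟨x, hx⟩, hxA _⟩) fun x => ?_
  rw [hz, map_zero]

/-- powers of generators -/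
theorem genOn_pow {V : X.Opens} {a : Γ(X, V)} (ha : GenOn D a) (n : ℕ) : GenOn (D ^ n) (a ^ n) := by
  induction n with
  | zero =>
    intro W hW
    rw [pow_zero, pow_zero, map_one, Ideal.span_singleton_one]
    exact ⟨one_mem _, by rw [Scheme.IdealSheafData.one_eq_top]; rfl⟩
  | succ n ih =>
    rw [pow_succ, pow_succ]
    exact ih.mul ha

theorem isQCoh_structureModule : Coh.IsQCoh (Coh.structureModule X) := (CurvesC.UnitCoh.isCoh_unit X).1

include hU in
/-- **Main theorem.** -/
theorem exists_lift [CompactSpace X] (hD : BlowUp.IsEffCartierIdeal D) (hUa : IsAffineOpen U) {W E : X.Modules}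
    (hW : PicF.IsInvertible W) {i : W ⟶ E} {p : E ⟶ Coh.structureModule X} {w : i ≫ p = 0}
    (hS : (ShortComplex.mk i p w).ShortExact) :
    ∃ n₀ : ℕ, ∀ n, n₀ ≤ n → ∃ σ : ClSub.idealMod (D ^ n) ⟶ E, σ ≫ p = ClSub.idealModι (D ^ n) := by
  classical
  have hOq : Coh.IsQCoh (Coh.structureModule X) := isQCoh_structureModule
  have hWq : Coh.IsQCoh W := Ega2.QCohLocal.isQCoh_of_isInvertible hW
  have hEq : Coh.IsQCoh E := S2384.result _ hS hWq hOq
  have htf : TF D E := tf_ext hS (tf_of_isInvertible hD hW) tf_structure_aux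
  have htfO : TF D (Coh.structureModule X) := tf_of_isInvertible hD isInvertible_structureModule
  obtain ⟨t, ht⟩ : ∃ t : Γ(E, U), p.app U t = one U := PerfA.QCohExt.app_surjective hS hWq U hUa (one U)
  choose A a hxA ha using exists_genOn hD
  obtain ⟨I, hI⟩ := (isCompact_univ (X := X)).elim_finite_subcover (fun x => ((A x).1 : Set X))
    (fun x => (A x).1.2) (fun x _ => Set.mem_iUnion.mpr ⟨x, hxA x⟩)
  have hcov : ⨆ k : I, (A k).1 = ⊤ := by
    refine top_le_iff.1 fun x _ => ?_
    obtain ⟨i, hi, hx⟩ := Set.mem_iUnion₂.mp (hI (Set.mem_univ x))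
    exact Opens.mem_iSup.2 ⟨⟨i, hi⟩, hx⟩
  have hext : ∀ k : I, ∃ p₀ : ℕ, ∀ q : ℕ, p₀ ≤ q → ∃ m : Γ(E, (A k).1),
      res E (inf_le_left : (A k).1 ⊓ U ≤ (A k).1) m =
        ores (inf_le_left : (A k).1 ⊓ U ≤ (A k).1) (a k) ^ q • res E (inf_le_right : (A k).1 ⊓ U ≤ U) t := by
    intro k
    have hI' := (ha k (A k) le_rfl).2
    rw [ores_refl] at hI'
    exact PerfC.CartierExtend.exists_extend hEq hU hI' t
  choose p₀ hp₀ using hext
  refine ⟨Finset.univ.sup p₀, fun n hn => ?_⟩
  choose m hm using fun k => hp₀ k n ((Finset.le_sup (Finset.mem_univ k)).trans hn)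
  have hg : ∀ k : I, ∃ s : Γ(ClSub.idealMod (D ^ n), (A k).1), val (D ^ n) s = a k ^ n := by
    intro k
    refine exists_val_eq (D ^ n) (A k) ?_
    have h1 := (genOn_pow (ha k) n (A k) le_rfl).2
    rw [ores_refl] at h1
    rw [h1]
    exact Ideal.mem_span_singleton_self _
  choose e he using hg
  have hgen : ∀ k, IsGen (e k) := fun k => isGen_of_genOn (by rw [he k]; exact genOn_pow (ha k) n)
  -- restrictions of the `m k`
  have hmr : ∀ (k : I) (V : X.Opens) (h : V ≤ (A k).1) (h' : V ≤ U),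
      res E h (m k) = ores h (a k) ^ n • res E h' t := by
    intro k V h h'
    have h1 := congrArg (res E (le_inf h h' : V ≤ (A k).1 ⊓ U)) (hm k)
    rw [res_res, res_smul, res_res, map_pow, ores_ores] at h1
    exact h1
  obtain ⟨σ, hσ⟩ := Picfga.LineHom.exists_hom hcov hgen (n := m) (Picfga.LineHom.trans_of_inf hgen (by
    intro k l
    obtain ⟨b, hb⟩ := ((hgen l).res (inf_le_right : (A k).1 ⊓ (A l).1 ≤ _)).exists_eq
      (res _ (inf_le_left : (A k).1 ⊓ (A l).1 ≤ _) (e k))
    refine ⟨b, hb, ?_⟩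
    have hv := congrArg (val (D ^ n)) hb
    rw [val_smul, val_res, val_res, he, he, map_pow, map_pow] at hv
    apply sub_eq_zero.1
    apply eq_zero_of_res hU hEq htf
    rw [map_sub, res_res, res_smul, res_res, hmr k _ _ inf_le_right, hmr l _ _ inf_le_right, smul_smul, ← sub_smul]
    have h2 := congrArg (ores (inf_le_left : (A k).1 ⊓ (A l).1 ⊓ U ≤ (A k).1 ⊓ (A l).1)) hv
    rw [map_mul, map_pow, map_pow, ores_ores, ores_ores] at h2
    rw [h2, sub_self, zero_smul]))
  refine ⟨σ, Picfga.LineHom.hom_ext_of_isGen hcov hgen fun k => ?_⟩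
  change p.app (A k).1 (σ.app (A k).1 (e k)) = val (D ^ n) (e k)
  rw [hσ k, he k]
  apply sub_eq_zero.1
  refine eq_zero_of_res hU hOq htfO (A k).1 (p.app (A k).1 (m k) - ofFun (a k ^ n)) ?_
  rw [map_sub, ← app_res, hmr k _ inf_le_left inf_le_right, Scheme.Modules.Hom.app_smul, app_res, ht, res_one,
    res_ofFun, ofFun_eq_smul, map_pow, sub_self]

end K458.SplitExt
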