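import Groth.Agent.Surf.K458.NefBig
import Groth.Agent.Surf.K458.SplitExt
import Groth.Agent.Surf.K458.DualZero
import Groth.Agent.S1571
import Groth.Agent.S1572

/-!
# `H¹(X, L⁻ⁿ) = 0` for `n ≫ 0`, `L` nef and big on a smooth proper surface
-/

set_option autoImplicit false
universe u

open CategoryTheory CategoryTheory.Limits AlgebraicGeometry TopologicalSpace Opposite

namespace K458.Van

open Groth.Agent Groth.Agent.VarietyA.EulerLES Groth.Agent.Dix.IdealModCartier Groth.Agent.Fga.PicMon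
open K458.Ram K458.Ip K458.Curve K458.NumConn K458.Pos K458.Hodge K458.BigSec K458.NefBig Groth.Agent.Fdesc.LocGen

theorem exists_incl {X : Scheme.{u}} {I J : X.IdealSheafData} (h : I ≤ J) :
    ∃ φ : ClSub.idealMod I ⟶ ClSub.idealMod J, φ ≫ ClSub.idealModι J = ClSub.idealModι I := by
  have h1 : ClSub.idealModι I ≫ ClSub.toSubscheme J = 0 := by
    have h2 : ClSub.idealModι I ≫ ClSub.toSubscheme I = 0 := kernel.condition _
    rw [← Sga2.LefPow644.toSubscheme_quotMap h, ← Category.assoc, h2, zero_comp]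
  exact ⟨kernel.lift _ _ h1, kernel.lift_ι _ _ _⟩

theorem mc_idealMod_pow {X : Scheme.{u}} {D : X.IdealSheafData} (hD : BlowUp.IsEffCartierIdeal D) (n : ℕ) :
    BlowUp.IsEffCartierIdeal (D ^ n) ∧ mc (ClSub.idealMod (D ^ n)) = mc (ClSub.idealMod D) ^ n := by
  induction n with
  | zero =>
    rw [pow_zero, pow_zero, Scheme.IdealSheafData.one_eq_top]
    exact ⟨Divis.EffCartier.isEff_top, mc_idealMod_top⟩
  | succ n ih =>
    rw [pow_succ, pow_succ]
    exact ⟨isEff_mul ih.1 hD, by rw [mc_idealMod_mul ih.1 hD, ih.2]⟩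

theorem pow_le_pow' {X : Scheme.{u}} (D : X.IdealSheafData) {m n : ℕ} (h : m ≤ n) : D ^ n ≤ D ^ m := by
  obtain ⟨r, rfl⟩ := Nat.exists_eq_add_of_le h
  rw [pow_add]
  exact mul_le_left _ _

set_option linter.unusedSectionVars false

variable {X : Scheme.{u}} (k : Type u) [Field k] [X.Over (Spec (CommRingCat.of k))]
  [IsProper (X ↘ Spec (CommRingCat.of k))] [IsAlgClosed k] [IsIntegral X]
  [Smooth (X ↘ Spec (CommRingCat.of k))] (hdim : topologicalKrullDim X = 2)
  {L : X.Modules} (hL : PicF.IsInvertible L) (hnef : Nef k L) (hpos : 0 < ip k X L L)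

include hdim hL hnef hpos

/-- Some power of `L` has a divisor with affine complement. -/
theorem exists_affine_compl : ∃ (m : ℕ) (D : X.IdealSheafData) (U : X.Opens), 0 < m ∧
    BlowUp.IsEffCartierIdeal D ∧ mc L ^ m * mc (ClSub.idealMod D) = 1 ∧
      (D.support : Set X) = (U : Set X)ᶜ ∧ IsAffineOpen U := by
  have hN : IsNoetherian X := Fga.IntAdd.isNoetherian k X
  have hsep : X.IsSeparated := ⟨by
    rw [← terminal.comp_from (X ↘ Spec (CommRingCat.of k))]
    infer_instance⟩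
  obtain ⟨V, hV, hxV, -⟩ := exists_isAffineOpen_mem_and_subset (U := ⊤) (x := genericPoint X) trivial
  have hdense : Dense (V : Set X) := V.2.dense ⟨_, hxV⟩
  obtain ⟨D₀, hD₀, hs₀⟩ := S1572.result X V hV hdense fun x _ => Decomp.factorial_of_smooth k x
  obtain ⟨N, hNs⟩ := exists_hasSec k hdim hL hnef hpos (isInvertible_idealMod hD₀)
  obtain ⟨E, hE, he⟩ := exists_divisor (isInvertible_tensorMod (isInvertible_tensorPow hL (N + 1))
    (isInvertible_idealMod hD₀)) (hNs (N + 1) (Nat.le_succ N))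
  have hD := isEff_mul hD₀ hE
  refine ⟨N + 1, D₀ * E, (D₀ * E).support.compl, Nat.succ_pos N, hD, ?_, ?_, ?_⟩
  · rw [mc_idealMod_mul hD₀ hE, ← he, mc_tensor, mc_tensorPow, mul_assoc]
  · rw [Closeds.coe_compl, compl_compl]
  · have haff := (S1571.result X (D₀ * E) hD).1
    have hle : (D₀ * E).support.compl ≤ V := by
      intro x hx
      by_contra hxV'
      have h1 : x ∈ (D₀.support : Set X) := by
        rw [hs₀]
        exact hxV'
      refine hx ?_
      have h2 : x ∈ ((D₀ * E).support : Set X) := by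
        rw [Scheme.IdealSheafData.support_mul]
        exact Or.inl h1
      exact h2
    have h2 : IsAffineOpen (Scheme.Opens.ι (X := X) (D₀ * E).support.compl ⁻¹ᵁ V) := hV.preimage _
    have h3 : Scheme.Opens.ι (X := X) (D₀ * E).support.compl ⁻¹ᵁ V = ⊤ := by
      rw [eq_top_iff]
      intro x _
      exact hle x.2
    rw [h3] at h2
    have h4 := h2.image_of_isOpenImmersion (Scheme.Opens.ι (X := X) (D₀ * E).support.compl)
    rwa [Scheme.Opens.ι_image_top] at h4

/-- `H¹(O(-B)) = 0` for some divisor `B` of a positive power of `L`. -/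
theorem exists_h1_zero : ∃ (N : ℕ) (B : X.IdealSheafData), 0 < N ∧ BlowUp.IsEffCartierIdeal B ∧
    mc L ^ N * mc (ClSub.idealMod B) = 1 ∧ Subsingleton (Coh.HH X (ClSub.idealMod B) 1) := by
  obtain ⟨m, C, U, hm, hC, e, hU, hUa⟩ := exists_affine_compl k hdim hL hnef hpos
  have hN : IsNoetherian X := Fga.IntAdd.isNoetherian k X
  have hsm := smoothRel k hdim
  have hfin : Module.Finite k (Coh.HH X (Coh.structureModule X) 1) :=
    VarietyA.CurveFin.finite_HH_structure k X 1
  have hmc : ∀ n, mc L ^ (m * n) * mc (ClSub.idealMod (C ^ n)) = 1 := fun n => by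
    rw [(mc_idealMod_pow hC n).2, pow_mul, ← mul_pow, e, one_pow]
  have hnb : ∀ n, 0 < n → NB k (C ^ n) := fun n hn =>
    nb_of_mc k hdim.le hL hnef hpos (mc_idealMod_pow hC n).1 (Nat.mul_pos hm hn) (hmc n)
  let V : ℕ → Submodule k (Coh.HH X (Coh.structureModule X) 1) := fun n =>
    LinearMap.range (mapA k (ClSub.idealModι (C ^ n)) 1)
  have hV : ∀ {a b : ℕ}, a ≤ b → V b ≤ V a := by
    intro a b h
    obtain ⟨φ, hφ⟩ := exists_incl (pow_le_pow' C h)
    rintro _ ⟨y, rfl⟩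
    refine ⟨mapA k φ 1 y, ?_⟩
    rw [← LinearMap.comp_apply, ← mapA_comp, hφ]
  obtain ⟨n₁, hn₁⟩ := IsArtinian.monotone_stabilizes (R := k) (M := Coh.HH X (Coh.structureModule X) 1)
    ⟨fun n => OrderDual.toDual (V n), fun a b h => hV h⟩
  obtain ⟨W, hW, hWi⟩ := K455.Canon.exists_canonical (X ↘ Spec (CommRingCat.of k)) 2
  have hbot : ∀ x ∈ V (n₁ + 1), x = 0 := by
    intro x hx
    have hx' : ∀ n, n₁ ≤ n → x ∈ V n := fun n hn => by
      have h1 : V n₁ = V n := hn₁ n hn
      have h2 : V n₁ = V (n₁ + 1) := hn₁ (n₁ + 1) (Nat.le_succ _)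
      rw [← h1, h2]
      exact hx
    refine DualZero.main k hW SplitExt.isQCoh_structureModule x fun E i p w hS => ?_
    obtain ⟨n₀, h0⟩ := SplitExt.exists_lift hU hC hUa hWi hS
    obtain ⟨σ, hσ⟩ := h0 (n₀ + n₁) (Nat.le_add_right _ _)
    obtain ⟨y, hy⟩ := hx' (n₀ + n₁) (Nat.le_add_left _ _)
    exact ⟨_, _, σ, hσ, y, hy⟩
  refine ⟨m * (n₁ + 1), C ^ (n₁ + 1), Nat.mul_pos hm (Nat.succ_pos _), (mc_idealMod_pow hC _).1, hmc _, ?_⟩
  have hinj := (hnb (n₁ + 1) (Nat.succ_pos _)).injective_h1 k hdim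
  refine ⟨fun a b => hinj ?_⟩
  rw [hbot (mapΓ (ClSub.idealModι (C ^ (n₁ + 1))) 1 a) ⟨a, rfl⟩,
    hbot (mapΓ (ClSub.idealModι (C ^ (n₁ + 1))) 1 b) ⟨b, rfl⟩]

/-- **Vanishing.** -/
theorem main : ∃ n₀ : ℕ, ∀ n : ℕ, n₀ ≤ n → ∀ M : X.Modules, mc L ^ n * mc M = 1 → Subsingleton (Coh.HH X M 1) := by
  obtain ⟨N, B, hN, hB, eB, hB1⟩ := exists_h1_zero k hdim hL hnef hpos
  obtain ⟨N₂, hN₂⟩ := exists_hasSec k hdim hL hnef hpos (A := Coh.structureModule X) isInvertible_structureModule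
  refine ⟨N + N₂ + 1, fun n hn M hM => ?_⟩
  obtain ⟨r, rfl⟩ : ∃ r, n = N + r := ⟨n - N, by omega⟩
  have hLr := isInvertible_tensorPow hL r
  obtain ⟨D, hD, eD'⟩ := exists_divisor (isInvertible_tensorMod hLr isInvertible_structureModule) (hN₂ r (by omega))
  have eD : mc L ^ r * mc (ClSub.idealMod D) = 1 := by
    rw [mc_tensor, mc_tensorPow, mc_one, mul_one] at eD'
    exact eD'
  have nbB : NB k B := nb_of_mc k hdim.le hL hnef hpos hB hN eB
  have nbD : NB k D := nb_of_mc k hdim.le hL hnef hpos hD (by omega) eD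
  have hIB := isInvertible_idealMod hB
  have hID := isInvertible_idealMod hD
  have hBD : 0 < ip k X (ClSub.idealMod B) (ClSub.idealMod D) := by
    rw [ip_inv_left k hdim.le (isInvertible_tensorPow hL N) hIB (by rw [mc_tensorPow, eB]) hID,
      ip_pow_left k hdim.le hL hID, ip_symm,
      ip_inv_left k hdim.le hLr hID (by rw [mc_tensorPow, eD]) hL, ip_pow_left k hdim.le hL hL]
    have h1 : (0 : ℤ) < N := by exact_mod_cast hN
    have h2 : (0 : ℤ) < r := by
      have : 0 < r := by omega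
      exact_mod_cast this
    nlinarith [mul_pos h1 (mul_pos h2 hpos)]
  have h0 := not_hasSec k hdim nbD hIB nbB.nef hBD
  have hS := Fga.TwistCoh.shortExact_tensorBi hIB _ (VarietyB.DegCartier.idealSeq_shortExact D)
  have hsub : Subsingleton (Coh.HH X (CohB1.tensorMod (ClSub.idealMod B) (ClSub.quotMod D)) 0) :=
    not_nontrivial_iff_subsingleton.1 h0
  have hsub1 : Subsingleton (Coh.HH X (CohB1.tensorMod (ClSub.idealMod B) (Coh.structureModule X)) 1) :=
    (equivΓ (Ega2.Tens.runit (ClSub.idealMod B)) 1).toEquiv.subsingleton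
  have key : ∀ x : Coh.HH X (CohB1.tensorMod (ClSub.idealMod B) (ClSub.idealMod D)) 1, x = 0 := by
    intro x
    obtain ⟨y, hy⟩ := (exact₁ _ hS 0 1 rfl x).1 (hsub1.elim _ _)
    have hy0 : y = 0 := hsub.elim _ _
    rw [← hy, hy0]
    exact map_zero _
  have hsub2 : Subsingleton (Coh.HH X (CohB1.tensorMod (ClSub.idealMod B) (ClSub.idealMod D)) 1) :=
    ⟨fun a b => (key a).trans (key b).symm⟩
  have hmc : mc M = mc (CohB1.tensorMod (ClSub.idealMod B) (ClSub.idealMod D)) := by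
    rw [mc_tensor]
    have h1 : mc L ^ (N + r) * (mc (ClSub.idealMod B) * mc (ClSub.idealMod D)) = 1 := by
      rw [pow_add, mul_mul_mul_comm, eB, eD, one_mul]
    calc mc M = mc M * (mc L ^ (N + r) * (mc (ClSub.idealMod B) * mc (ClSub.idealMod D))) := by rw [h1, mul_one]
      _ = (mc L ^ (N + r) * mc M) * (mc (ClSub.idealMod B) * mc (ClSub.idealMod D)) := by
        rw [← mul_assoc, mul_comm (mc M)]
      _ = _ := by rw [hM, one_mul]
  obtain ⟨f⟩ := (mc_eq_iff _ _).1 hmc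
  exact (equivΓ f 1).toEquiv.subsingleton

end K458.Van
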