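import Groth.Agent.Surf.K458.BigSec
import Groth.Agent.Models.H55.PtDeg
import Groth.Agent.CycB.FiberKer
import Groth.Agent.S8862
import Groth.Agent.S1561
import Groth.Agent.VarietyA.RegSmoothSch

/-!
# A smooth curve of self-intersection zero in a smooth fibre

`f : X → C` a surjective morphism from a smooth proper surface to a smooth proper curve with a smooth closed fibre:
a component `Γ` of that fibre is a smooth curve with `Γ² = 0` and `f^*B · Γ = 0` for all invertible `B` on `C`.
-/

set_option autoImplicit false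
universe u

open CategoryTheory CategoryTheory.Limits AlgebraicGeometry TopologicalSpace Opposite IsLocalRing

namespace K458.FibCurve

open Groth.Agent Groth.Agent.Fga.PicMon Groth.Agent.Fdesc.LocGen Groth.Agent.Dix.IdealModCartier
open Groth.Agent.Divis.CartierBasic Groth.Agent.Divis.CartierStalk
open K458.Ram K458.Ip K458.Curve K458.NumConn K458.BigSec

theorem isDiscreteValuationRing (R : Type*) [CommRing R] [IsDomain R]
    [IsRegularLocalRing R] (h : ringKrullDim R = 1) : IsDiscreteValuationRing R := by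
  have hf : ¬ IsField R := by
    intro hf
    let _ := hf.toField
    rw [ringKrullDim_eq_zero_of_field] at h
    exact zero_ne_one h
  refine ((IsDiscreteValuationRing.TFAE R hf).out 0 5).2 ?_
  have h1 := (IsRegularLocalRing.iff_finrank_cotangentSpace (R := R)).1 inferInstance
  rw [h] at h1
  exact_mod_cast h1

/-- The inverse image of an invertible module under a constant morphism is trivial. -/
theorem nonempty_pullback_iso_of_const {X Y : Scheme.{u}} (f : X ⟶ Y) (y : Y) (hf : ∀ x, f x = y) (L : Y.Modules)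
    (hL : PicF.IsInvertible L) : Nonempty ((Scheme.Modules.pullback f).obj L ≅ Coh.structureModule X) := by
  obtain ⟨U, hyU, ⟨e⟩⟩ := hL y
  have hrange : Set.range f ⊆ Set.range U.ι := by
    rintro _ ⟨x, rfl⟩
    rw [hf, Scheme.Opens.range_ι]
    exact hyU
  let g : X ⟶ U := IsOpenImmersion.lift U.ι f hrange
  have hg : g ≫ U.ι = f := IsOpenImmersion.lift_fac U.ι f hrange
  have e1 : (Scheme.Modules.pullback f).obj L ≅ (Scheme.Modules.pullback g).obj ((Scheme.Modules.pullback U.ι).obj L) :=
    (Scheme.Modules.pullbackCongr hg).symm.app L ≪≫ ((Scheme.Modules.pullbackComp g U.ι).app L).symm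
  have e2 : (Scheme.Modules.pullback U.ι).obj L ≅ L.restrict U.ι :=
    (Scheme.Modules.restrictFunctorIsoPullback U.ι).symm.app L
  obtain ⟨e3⟩ := Ega3B.PullTensor.nonempty_pullUnitIso g
  exact ⟨e1 ≪≫ (Scheme.Modules.pullback g).mapIso (e2 ≪≫ e) ≪≫ e3⟩

/-- A line bundle trivial on `D` has degree zero on `D`. -/
theorem ip_eq_zero_of_iso {X : Scheme.{u}} (k : Type u) [Field k] [X.Over (Spec (CommRingCat.of k))]
    [IsProper (X ↘ Spec (CommRingCat.of k))] (hd : topologicalKrullDim X ≤ (2 : ℕ)) {A : X.Modules}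
    (hA : PicF.IsInvertible A) (D : X.IdealSheafData)
    (h : Nonempty ((Scheme.Modules.pullback D.subschemeι).obj A ≅ Coh.structureModule D.subscheme)) :
    ip k X A (ClSub.idealMod D) = 0 := by
  obtain ⟨e⟩ := h
  rw [ip_idealMod k X hd hA, euler_tensor_quotMod_eq k D hA, euler_quotMod_eq]
  let := subOver k D
  rw [VarietyA.EulerAdd.euler_congr (k := k) e, sub_self]

/-- Disjoint divisors do not meet. -/
theorem ip_eq_zero_of_disjoint {X : Scheme.{u}} (k : Type u) [Field k] [X.Over (Spec (CommRingCat.of k))]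
    [IsProper (X ↘ Spec (CommRingCat.of k))] (hd : topologicalKrullDim X ≤ (2 : ℕ)) {R D : X.IdealSheafData}
    (hR : BlowUp.IsEffCartierIdeal R) (h : ∀ x ∈ (D.support : Set X), x ∉ (R.support : Set X)) :
    ip k X (ClSub.idealMod R) (ClSub.idealMod D) = 0 := by
  refine ip_eq_zero_of_iso k hd (isInvertible_idealMod hR) D ?_
  have h1 : R.comap D.subschemeι = ⊤ := by
    rw [← Scheme.IdealSheafData.support_eq_bot_iff]
    ext x
    refine ⟨fun hx => ?_, fun hx => hx.elim⟩
    rw [Scheme.IdealSheafData.support_comap] at hx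
    exact (h _ (subschemeι_mem_support D x) hx).elim
  have h2 : BlowUp.IsEffCartierIdeal (R.comap D.subschemeι) := by
    rw [h1]
    exact Divis.EffCartier.isEff_top
  obtain ⟨e⟩ := pullback_idealMod D.subschemeι hR h2
  have h3 : mc (ClSub.idealMod (R.comap D.subschemeι)) = mc (Coh.structureModule D.subscheme) := by
    rw [h1, mc_idealMod_top, mc_one]
  obtain ⟨e'⟩ := (mc_eq_iff _ _).1 h3
  exact ⟨e ≪≫ e'⟩

section Alg

/-- If `(g) * R` is prime, `g` a nonunit and `R` principal generated by a nonzerodivisor then `R = 1`. -/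
theorem eq_top_of_prime {A : Type*} [CommRing A] [IsLocalRing A] {G R : Ideal A} {g r : A} (hg : g ∈ nonZeroDivisors A)
    (hr : r ∈ nonZeroDivisors A) (hG : G = Ideal.span {g}) (hR : R = Ideal.span {r}) (hGt : G ≠ ⊤)
    (hp : (G * R).IsPrime) : R = ⊤ := by
  have key : ∀ {P Q : Ideal A} {s : A}, s ∈ nonZeroDivisors A → P = Ideal.span {s} → P ≤ P * Q → Q = ⊤ := by
    intro P Q s hs hP hle
    have h1 : s ∈ P * Q := hle (by rw [hP]; exact Ideal.mem_span_singleton_self s)
    rw [hP, Ideal.mem_span_singleton_mul] at h1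
    obtain ⟨z, hz, h2⟩ := h1
    have h3 : z = 1 := by
      have h4 : s * (z - 1) = 0 := by rw [mul_sub, h2, mul_one, sub_self]
      have h5 := (mem_nonZeroDivisors_iff.1 hs).1 _ h4
      exact sub_eq_zero.1 h5
    rw [h3] at hz
    exact (Ideal.eq_top_iff_one _).2 hz
  rcases (Ideal.IsPrime.mul_le hp).1 le_rfl with h | h
  · exact key hg hG h
  · exact absurd (key hr hR (by rwa [mul_comm] at h)) hGt

end Alg

section Fib

variable {X C : Scheme.{u}} (k : Type u) [Field k] [IsAlgClosed k] [X.Over (Spec (CommRingCat.of k))]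
  [IsProper (X ↘ Spec (CommRingCat.of k))] [Smooth (X ↘ Spec (CommRingCat.of k))] [IsIntegral X]
  (hdim : topologicalKrullDim X = 2)
  [C.Over (Spec (CommRingCat.of k))] [IsProper (C ↘ Spec (CommRingCat.of k))]
  [Smooth (C ↘ Spec (CommRingCat.of k))] [IsIntegral C] (hdimC : topologicalKrullDim C = 1)
  (f : X ⟶ C) [Surjective f]

include k hdimC in
/-- The ideal of a closed point of a smooth curve. -/
theorem isEff_pt (c : C) (hc : IsClosed ({c} : Set C)) (hcl : IsClosedImmersion (C.fromSpecResidueField c)) :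
    BlowUp.IsEffCartierIdeal (C.fromSpecResidueField c).ker := by
  have hN : IsLocallyNoetherian C := LocallyOfFiniteType.isLocallyNoetherian (C ↘ (Spec (CommRingCat.of k)))
  have hreg : IsRegularLocalRing (C.presheaf.stalk c) := S1535.result k C c
  have hd1 : ringKrullDim (C.presheaf.stalk c) = 1 := (Fga.DimCut.ringKrullDim_stalk_eq k C c hc).trans hdimC
  have hdvr := isDiscreteValuationRing _ hd1
  obtain ⟨ϖ, hϖ⟩ := IsDiscreteValuationRing.exists_irreducible (C.presheaf.stalk c)
  exact Models.H55.PtDeg.isEff_ker_fromSpecResidueField c ϖ hϖ.maximalIdeal_eq hϖ.ne_zero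

theorem mem_support_ker (c : C) [IsClosedImmersion (C.fromSpecResidueField c)] (y : C) :
    y ∈ ((C.fromSpecResidueField c).ker.support : Set C) ↔ y = c := by
  refine (Dix.VertGeom.mem_support_ker_iff (C.fromSpecResidueField c) y).trans ?_
  rw [Scheme.range_fromSpecResidueField]
  exact Iff.rfl

omit [IsAlgClosed k] [X.Over (Spec (CommRingCat.of k))] [IsProper (X ↘ Spec (CommRingCat.of k))]
  [Smooth (X ↘ Spec (CommRingCat.of k))] [IsIntegral X] [Surjective f] [IsProper (C ↘ Spec (CommRingCat.of k))]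
  [Smooth (C ↘ Spec (CommRingCat.of k))] [IsIntegral C] [C.Over (Spec (CommRingCat.of k))] in
/-- The local rings of a smooth fibre, as quotients of the local rings of `X`. -/
theorem regular_quot (c : C) [IsClosedImmersion (C.fromSpecResidueField c)]
    (hsm : Smooth (f.fiberToSpecResidueField c)) (x : X) (hx : f x = c) :
    IsRegularLocalRing (X.presheaf.stalk x ⧸ stalkIdeal ((C.fromSpecResidueField c).ker.comap f) x) := by
  obtain ⟨z, rfl⟩ : x ∈ Set.range (f.fiberι c) := by
    rw [Scheme.Hom.range_fiberι]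
    exact hx
  have h1 : stalkIdeal ((C.fromSpecResidueField c).ker.comap f) (f.fiberι c z) =
      RingHom.ker ((f.fiberι c).stalkMap z).hom := by
    rw [stalkIdeal_comap, CycB.FiberKer.ker_stalkMap_fiberι]
    congr 1
    have key : ∀ y, y = c → stalkIdeal (C.fromSpecResidueField c).ker y = maximalIdeal (C.presheaf.stalk y) := by
      rintro _ rfl
      exact Models.H55.PtDeg.stalkIdeal_ker_fromSpecResidueField _
    exact key _ hx
  have h2 : IsRegularLocalRing ((f.fiber c).presheaf.stalk z) :=
    VarietyA.RegSmoothSch.isRegularLocalRing_stalk_of_mem_smoothLocus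
      (k := C.residueField c) (f.fiberToSpecResidueField c) z
      (by rw [Scheme.Hom.smoothLocus_eq_top]; trivial)
  rw [h1]
  exact IsRegularLocalRing.of_ringEquiv
    (RingHom.quotientKerEquivOfSurjective ((f.fiberι c).stalkMap_surjective z)).symm

include hdim hdimC in
/-- **The curve.** -/
theorem exists_curve (c : C) (hc : IsClosed ({c} : Set C)) (hsm : Smooth (f.fiberToSpecResidueField c)) :
    ∃ Γ : X.IdealSheafData, IsCurve Γ ∧ Smooth (Γ.subschemeι ≫ (X ↘ Spec (CommRingCat.of k))) ∧
      ip k X (ClSub.idealMod Γ) (ClSub.idealMod Γ) = 0 ∧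
      ∀ B : C.Modules, PicF.IsInvertible B →
        ip k X ((Scheme.Modules.pullback f).obj B) (ClSub.idealMod Γ) = 0 := by
  have hcl : IsClosedImmersion (C.fromSpecResidueField c) := isClosed_singleton_iff_isClosedImmersion.1 hc
  have hI := isEff_pt k hdimC c hc hcl
  have hNX := Fga.IntAdd.isNoetherian k X
  set I := (C.fromSpecResidueField c).ker with hIdef
  set F := I.comap f with hF
  have hsuppF : ∀ x : X, x ∈ (F.support : Set X) ↔ f x = c := by
    intro x
    rw [hF, Scheme.IdealSheafData.support_comap]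
    exact mem_support_ker c (f x)
  have hgen : genericPoint C ≠ c := by
    intro h
    have h1 : ringKrullDim (C.presheaf.stalk c) = 1 := (Fga.DimCut.ringKrullDim_stalk_eq k C c hc).trans hdimC
    rw [← h] at h1
    have h2 : ringKrullDim (C.presheaf.stalk (genericPoint C)) = 0 :=
      ringKrullDim_eq_zero_of_field C.functionField
    rw [h2] at h1
    exact zero_ne_one h1
  have hFE : BlowUp.IsEffCartierIdeal F := by
    refine S8862.result f I hI fun ξ hξ => ?_
    have h1 : ξ = genericPoint X := (hξ _ (genericPoint_specializes ξ)).symm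
    rw [h1]
    intro h2
    have h3 : f (genericPoint X) = c := (mem_support_ker c _).1 h2
    obtain ⟨z, hz⟩ := f.surjective (genericPoint C)
    have h4 : f (genericPoint X) ⤳ f z := (genericPoint_specializes z).map f.continuous
    rw [h3, hz] at h4
    have h5 := h4.mem_closed hc rfl
    exact hgen h5
  have hFne : F ≠ ⊤ := by
    intro h
    obtain ⟨z, hz⟩ := f.surjective c
    have h1 := (hsuppF z).2 hz
    rw [h, Scheme.IdealSheafData.support_top] at h1
    exact h1
  obtain ⟨s, hs, hs'⟩ := Decomp.exists_curves k hdim F hFE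
  have hs0 : s ≠ 0 := by
    rintro rfl
    rw [Multiset.prod_zero, Scheme.IdealSheafData.one_eq_top] at hs
    exact hFne hs
  obtain ⟨Γ, hΓ⟩ := Multiset.exists_mem_of_ne_zero hs0
  obtain ⟨t, rfl⟩ := Multiset.exists_cons_of_mem hΓ
  have hΓ' := hs' Γ hΓ
  have hcurve : IsCurve Γ := ⟨hΓ'.1, hΓ'.2.1, hΓ'.2.2.1⟩
  have hR : BlowUp.IsEffCartierIdeal t.prod :=
    isEff_prod t fun A hA => (hs' A (Multiset.mem_cons_of_mem hA)).2.2.1
  rw [Multiset.prod_cons] at hs
  have hfx : ∀ x ∈ (Γ.support : Set X), f x = c := fun x hx => (hsuppF x).1 (hΓ'.2.2.2 hx)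
  have hRx : ∀ x ∈ (Γ.support : Set X), stalkIdeal t.prod x = ⊤ := by
    intro x hx
    obtain ⟨g, hg, hg'⟩ := exists_stalkIdeal_eq_span hcurve.eff x
    obtain ⟨r, hr, hr'⟩ := exists_stalkIdeal_eq_span hR x
    have hreg := regular_quot f c hsm x (hfx x hx)
    have hdom : IsDomain (X.presheaf.stalk x ⧸ stalkIdeal F x) := (S2821.result _).1
    have hpr : (stalkIdeal F x).IsPrime := (Ideal.Quotient.isDomain_iff_prime _).1 hdom
    rw [hs, stalkIdeal_mul] at hpr
    exact eq_top_of_prime hg hr hg' hr' ((mem_support_iff_stalkIdeal_ne_top Γ x).1 hx) hpr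
  have hint : IsIntegral Γ.subscheme := hcurve.int
  refine ⟨Γ, hcurve, ?_, ?_, ?_⟩
  · letI := subOver k Γ
    have hred : IsReduced Γ.subscheme := inferInstance
    have hlfp : LocallyOfFinitePresentation (Γ.subscheme ↘ Spec (CommRingCat.of k)) := by
      have h1 : LocallyOfFiniteType (Γ.subscheme ↘ Spec (CommRingCat.of k)) := by
        rw [subOver_hom]
        infer_instance
      exact LocallyOfFinitePresentation.iff_locallyOfFiniteType.2 h1
    have hall := (S1561.result k Γ.subscheme).1
    have htop : (Γ.subscheme ↘ Spec (CommRingCat.of k)).smoothLocus = ⊤ := by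
      rw [eq_top_iff]
      intro d _
      rw [hall d]
      have hd := subschemeι_mem_support Γ d
      have e1 : stalkIdeal Γ (Γ.subschemeι d) = stalkIdeal F (Γ.subschemeι d) := by
        rw [hs, stalkIdeal_mul, hRx _ hd, Ideal.mul_top]
      have h2 := regular_quot f c hsm (Γ.subschemeι d) (hfx _ hd)
      have h3 : IsRegularLocalRing (X.presheaf.stalk (Γ.subschemeι d) ⧸ stalkIdeal Γ (Γ.subschemeι d)) := by
        rw [e1]
        exact h2
      exact IsRegularLocalRing.of_ringEquiv (stalkQuotEquiv Γ d)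
    exact Scheme.Hom.smoothLocus_eq_top_iff.1 htop
  · have hpull : ip k X (ClSub.idealMod F) (ClSub.idealMod Γ) = 0 := by
      obtain ⟨e⟩ := pullback_idealMod f hI hFE
      refine ip_eq_zero_of_iso k hdim.le (isInvertible_idealMod hFE) Γ ?_
      obtain ⟨e'⟩ := nonempty_pullback_iso_of_const (Γ.subschemeι ≫ f) c
        (fun x => hfx _ (subschemeι_mem_support Γ x)) (ClSub.idealMod I) (isInvertible_idealMod hI)
      exact ⟨(Scheme.Modules.pullback Γ.subschemeι).mapIso e.symm ≪≫
        (Scheme.Modules.pullbackComp Γ.subschemeι f).app _ ≪≫ e'⟩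
    have h1 : ip k X (ClSub.idealMod F) (ClSub.idealMod Γ) =
        ip k X (ClSub.idealMod Γ) (ClSub.idealMod Γ) + ip k X (ClSub.idealMod t.prod) (ClSub.idealMod Γ) := by
      rw [ip_symm, hs, ip_idealMod_mul k X hdim.le (isInvertible_idealMod hcurve.eff) hcurve.eff hR,
        ip_symm k X _ (ClSub.idealMod t.prod)]
    have h2 : ip k X (ClSub.idealMod t.prod) (ClSub.idealMod Γ) = 0 :=
      ip_eq_zero_of_disjoint k hdim.le hR fun x hx =>
        (notMem_support_iff_stalkIdeal_eq_top _ x).2 (hRx x hx)
    linarith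
  · intro B hB
    refine ip_eq_zero_of_iso k hdim.le (isInvertible_pullback f hB) Γ ?_
    obtain ⟨e'⟩ := nonempty_pullback_iso_of_const (Γ.subschemeι ≫ f) c
      (fun x => hfx _ (subschemeι_mem_support Γ x)) B hB
    exact ⟨(Scheme.Modules.pullbackComp Γ.subschemeι f).app _ ≪≫ e'⟩

end Fib

end K458.FibCurve
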