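import Groth.Agent.Surf.K458.CurveOmega
import Groth.Agent.Surf.K458.FibCurve

/-!
# Numerical part of the vanishing theorem for fibrations
-/

set_option autoImplicit false
universe u

open CategoryTheory CategoryTheory.Limits AlgebraicGeometry TopologicalSpace Opposite

namespace K458.Neg97

open Groth.Agent Groth.Agent.Fga.PicMon Groth.Agent.Fdesc.LocGen Groth.Agent.Dix.IdealModCartier
open K458.Ram K458.Ip K458.Curve K458.NumConn K458.BigSec K458.Hodge

theorem isInvertible_omega (k : Type u) [Field k] (C : Scheme.{u}) [C.Over (Spec (CommRingCat.of k))]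
    [IsProper (C ↘ Spec (CommRingCat.of k))] [Smooth (C ↘ Spec (CommRingCat.of k))] [IsIntegral C]
    (hdimC : topologicalKrullDim C = 1) : PicF.IsInvertible (Omega.sheaf (C ↘ Spec (CommRingCat.of k))) := by
  have h1 : SmoothOfRelativeDimension 1 (C ↘ Spec (CommRingCat.of k)) :=
    Picfga.CurveRelDim.smoothOfRelativeDimension_of_topologicalKrullDim_eq k C _ 1 hdimC
  rw [← Ega2.QCohLocal.isFinLocFreeOfRank_one_iff]
  exact Vancyc.H878.OmegaRank.isFinLocFreeOfRank_omega 1 _

variable {X : Scheme.{u}} (k : Type u) [Field k] [X.Over (Spec (CommRingCat.of k))]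
  [IsProper (X ↘ Spec (CommRingCat.of k))]

theorem nef_of (hd : topologicalKrullDim X ≤ (2 : ℕ)) {L : X.Modules} (hL : PicF.IsInvertible L)
    (hnef : ∀ Γ : X.IdealSheafData, IsIntegral Γ.subscheme → topologicalKrullDim (Γ.support : Set X) = 1 →
      0 ≤ Curv2.euler k X (CohB1.tensorMod (ClSub.quotMod Γ) L) - Curv2.euler k X (ClSub.quotMod Γ)) : Nef k L := by
  intro C hC
  rw [ip_idealMod k X hd hL]
  have h := hnef C hC.int hC.dim
  have e : Curv2.euler k X (CohB1.tensorMod (ClSub.quotMod C) L) =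
      Curv2.euler k X (CohB1.tensorMod L (ClSub.quotMod C)) :=
    VarietyA.EulerAdd.euler_congr (k := k) (Ega2.Tens.swap _ _)
  rw [e] at h
  linarith

theorem ip_inverse (hd : topologicalKrullDim X ≤ (2 : ℕ)) {M P : X.Modules} (hM : PicF.IsInvertible M)
    (hP : PicF.IsInvertible P) (h : ClSub.IsInverseOf M P) {Γ : X.IdealSheafData} (hΓ : IsCurve Γ)
    (h0 : ip k X P (ClSub.idealMod Γ) = 0) : ip k X M (ClSub.idealMod Γ) = 0 := by
  have e : mc P * mc M = 1 := by
    rw [mul_comm, ← mc_tensor, ← mc_one, mc_eq_iff]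
    exact h
  rw [ip_inv_left k hd hP hM e (isInvertible_idealMod hΓ.eff), h0, neg_zero]

theorem ip_L (hd : topologicalKrullDim X ≤ (2 : ℕ)) {W M B : X.Modules} (hW : PicF.IsInvertible W)
    (hM : PicF.IsInvertible M) (hB : PicF.IsInvertible B) (m : ℕ) {Γ : X.IdealSheafData} (hΓ : IsCurve Γ)
    (h0 : ip k X M (ClSub.idealMod Γ) = 0) (h1 : ip k X B (ClSub.idealMod Γ) = 0) :
    ip k X (CohB1.tensorMod (CohB1.tensorPow (CohB1.tensorMod W M) m) B) (ClSub.idealMod Γ) =
      m * ip k X W (ClSub.idealMod Γ) := by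
  have hI := isInvertible_idealMod hΓ.eff
  have hWM := isInvertible_tensorMod hW hM
  rw [ip_mul_left k X hd (isInvertible_tensorPow hWM m) hB hI, ip_pow_left k hd hWM hI,
    ip_mul_left k X hd hW hM hI, h0, h1, add_zero, add_zero]

variable [IsIntegral X] [Smooth (X ↘ Spec (CommRingCat.of k))] (hdim : topologicalKrullDim X = 2)

include hdim in
/-- A nef and big module is positive on curves of self-intersection zero. -/
theorem ip_neg {L : X.Modules} (hL : PicF.IsInvertible L) (hnef : Nef k L) (hpos : 0 < ip k X L L)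
    {Γ : X.IdealSheafData} (hΓ : IsCurve Γ) (h0 : ip k X (ClSub.idealMod Γ) (ClSub.idealMod Γ) = 0) :
    ip k X L (ClSub.idealMod Γ) < 0 := by
  refine lt_of_le_of_ne (hnef Γ hΓ) fun h => ?_
  obtain ⟨N, hN⟩ := exists_hasSec k hdim hL hnef hpos (A := Coh.structureModule X) isInvertible_structureModule
  have hLn := isInvertible_tensorPow hL (N + 1)
  obtain ⟨D, hD, eD'⟩ := exists_divisor (isInvertible_tensorMod hLn isInvertible_structureModule)
    (hN (N + 1) (Nat.le_succ N))
  have eD : mc (CohB1.tensorPow L (N + 1)) * mc (ClSub.idealMod D) = 1 := by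
    rw [mc_tensor, mc_one, mul_one] at eD'
    exact eD'
  have hID := isInvertible_idealMod hD
  have key : ∀ {B : X.Modules}, PicF.IsInvertible B → ip k X (ClSub.idealMod D) B = - ((N + 1 : ℕ) * ip k X L B) := by
    intro B hB
    rw [ip_inv_left k hdim.le hLn hID eD hB, ip_pow_left k hdim.le hL hB]
  refine no_isotropic k hdim hD hΓ.eff hΓ.ne_top ?_ ?_ h0
  · rw [key hID, ip_symm, key hL]
    have h1 : (0 : ℤ) < (N + 1 : ℕ) := by positivity
    nlinarith [mul_pos h1 (mul_pos h1 hpos)]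
  · rw [key (isInvertible_idealMod hΓ.eff), h]
    ring

include hdim in
theorem main [IsAlgClosed k] (p : ℕ) [Fact p.Prime] {Γ : X.IdealSheafData} (hΓ : IsCurve Γ)
    [Smooth (Γ.subschemeι ≫ (X ↘ Spec (CommRingCat.of k)))]
    (h0 : ip k X (ClSub.idealMod Γ) (ClSub.idealMod Γ) = 0) {W : X.Modules}
    (hW : ExtPow.IsExtPow 2 (Omega.sheaf (X ↘ Spec (CommRingCat.of k))) W)
    {L Linv : X.Modules} (hL : PicF.IsInvertible L) (hLinv : ClSub.IsInverseOf Linv L) {m : ℕ} (hm : 1 ≤ m)
    (hLΓ : ip k X L (ClSub.idealMod Γ) = m * ip k X W (ClSub.idealMod Γ))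
    (hneg : ip k X L (ClSub.idealMod Γ) < 0) (n : ℕ) (hn : 1 ≤ n) :
    Subsingleton (Coh.HH X (CohB1.tensorMod (CohB1.tensorPow Linv (p ^ n))
      (Omega.sheaf (X ↘ Spec (CommRingCat.of k)))) 0) := by
  have hI := isInvertible_idealMod hΓ.eff
  have hLi : PicF.IsInvertible Linv := K882.Divisor.inv_of_mul hL (K882.IsoMon.isInverseOf_iff.1 hLinv)
  have e : mc L * mc Linv = 1 := by
    rw [mul_comm, ← mc_tensor, ← mc_one, mc_eq_iff]
    exact hLinv
  have h1 : ip k X (CohB1.tensorPow Linv (p ^ n)) (ClSub.idealMod Γ) =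
      ((p ^ n : ℕ) : ℤ) * - ip k X L (ClSub.idealMod Γ) := by
    rw [ip_pow_left k hdim.le hLi hI, ip_inv_left k hdim.le hL hLi e hI]
  have hp2 : (2 : ℤ) ≤ ((p ^ n : ℕ) : ℤ) := by
    have h2 : 2 ≤ p := (Fact.out : p.Prime).two_le
    have h3 : p ^ 1 ≤ p ^ n := Nat.pow_le_pow_right (by omega) hn
    exact_mod_cast (by rw [pow_one] at h3; omega : 2 ≤ p ^ n)
  have hm' : (1 : ℤ) ≤ m := by exact_mod_cast hm
  have hWneg : ip k X W (ClSub.idealMod Γ) < 0 := by
    by_contra hc
    rw [not_lt] at hc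
    have : 0 ≤ (m : ℤ) * ip k X W (ClSub.idealMod Γ) := mul_nonneg (by linarith) hc
    linarith
  have hle : ip k X L (ClSub.idealMod Γ) ≤ ip k X W (ClSub.idealMod Γ) := by
    rw [hLΓ]
    nlinarith
  refine CurveOmega.main k hdim hΓ h0 hW (isInvertible_tensorPow hLi _) ?_ ?_
  · rw [h1]
    nlinarith
  · rw [h1]
    nlinarith

end K458.Neg97
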