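import Groth.Agent.Surf.K458.Curve
import Groth.Agent.Surf.K458.Decomp
import Groth.Agent.CurvesB.HZero

/-!
# Numerically connected divisors have `h^0(O_D) = 1`
-/

set_option autoImplicit false
universe u

open CategoryTheory CategoryTheory.Limits AlgebraicGeometry TopologicalSpace Opposite

namespace K458.NumConn

open Groth.Agent Groth.Agent.VarietyA.EulerLES Groth.Agent.Dix.IdealModCartier Groth.Agent.Fga.PicMon
open K458.Ram K458.Ip K458.Curve

variable {X : Scheme.{u}}

/-- An integral curve which is an effective Cartier divisor. -/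
structure IsCurve (C : X.IdealSheafData) : Prop where
  int : IsIntegral C.subscheme
  dim : topologicalKrullDim (C.support : Set X) = 1
  eff : BlowUp.IsEffCartierIdeal C

theorem nonempty_subscheme {D : X.IdealSheafData} (h : D ≠ ⊤) : Nonempty D.subscheme := by
  by_contra hc
  rw [not_nonempty_iff] at hc
  apply h
  rw [← Scheme.IdealSheafData.support_eq_bot_iff]
  ext x
  refine ⟨fun hx => ?_, fun hx => hx.elim⟩
  have hx' : x ∈ Set.range D.subschemeι := by
    rw [Scheme.IdealSheafData.range_subschemeι]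
    exact hx
  obtain ⟨y, -⟩ := hx'
  exact hc.elim y

theorem ne_top_of_nonempty {D : X.IdealSheafData} (h : Nonempty D.subscheme) : D ≠ ⊤ := by
  rintro rfl
  obtain ⟨y⟩ := h
  have h : (⊤ : X.IdealSheafData).subschemeι y ∈ ((⊤ : X.IdealSheafData).support : Set X) := by
    rw [← Scheme.IdealSheafData.range_subschemeι]
    exact ⟨y, rfl⟩
  rw [Scheme.IdealSheafData.support_top] at h
  exact h

theorem IsCurve.ne_top {C : X.IdealSheafData} (hC : IsCurve C) : C ≠ ⊤ := by
  have := hC.int
  exact ne_top_of_nonempty inferInstance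

theorem hasSec_quotMod {D : X.IdealSheafData} (h : D ≠ ⊤) : HasSec (ClSub.quotMod D) := by
  have h1 := nonempty_subscheme h
  have h2 : Nontrivial Γ(D.subscheme, D.subschemeι ⁻¹ᵁ ⊤) := by
    have hne : Nonempty (⊤ : D.subscheme.Opens) := ⟨⟨h1.some, trivial⟩⟩
    exact Scheme.component_nontrivial D.subscheme ⊤
  have h3 : Nontrivial Γ(ClSub.quotMod D, ⊤) := h2
  exact (CurvesB.HZero.equivAdd (ClSub.quotMod D)).toEquiv.nontrivial

theorem prod_ne_top {s : Multiset X.IdealSheafData} (hs : ∀ C ∈ s, IsCurve C) (h : s ≠ 0) : s.prod ≠ ⊤ := by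
  obtain ⟨A, hA⟩ := Multiset.exists_mem_of_ne_zero h
  obtain ⟨t, rfl⟩ := Multiset.exists_cons_of_mem hA
  rw [Multiset.prod_cons]
  intro h1
  refine (hs A hA).ne_top (top_le_iff.1 ?_)
  rw [← h1]
  exact mul_le_left A t.prod

variable (k : Type u) [Field k] [IsAlgClosed k] [X.Over (Spec (CommRingCat.of k))]
  [IsProper (X ↘ Spec (CommRingCat.of k))]

theorem ip_nonpos_of_hasSec (hd : topologicalKrullDim X ≤ (2 : ℕ)) {C : X.IdealSheafData} (hC : IsCurve C)
    {M : X.Modules} (hM : PicF.IsInvertible M) (h : HasSec (CohB1.tensorMod M (ClSub.quotMod C))) :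
    ip k X M (ClSub.idealMod C) ≤ 0 := by
  have := hC.int
  rw [ip_idealMod k X hd hM]
  have := euler_le_of_hasSec k C hC.dim hM h
  omega

/-- Ramanujam's argument, numerical form. -/
theorem exists_of_hasSec (hd : topologicalKrullDim X ≤ (2 : ℕ)) (s : Multiset X.IdealSheafData)
    (hs : ∀ C ∈ s, IsCurve C) {N : X.Modules} (hN : PicF.IsInvertible N)
    (h : HasSec (CohB1.tensorMod N (ClSub.quotMod s.prod))) :
    ∃ t u : Multiset X.IdealSheafData, s = t + u ∧ u ≠ 0 ∧
      ip k X (CohB1.tensorMod N (ClSub.idealMod t.prod)) (ClSub.idealMod u.prod) ≤ 0 := by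
  obtain ⟨t, u, rfl, hu, H⟩ := ram s (fun C hC => (hs C hC).eff) N hN h
  refine ⟨t, u, rfl, hu, ?_⟩
  have ht : PicF.IsInvertible (CohB1.tensorMod N (ClSub.idealMod t.prod)) :=
    Fdesc.LocGen.isInvertible_tensorMod hN (isInvertible_idealMod
      (isEff_prod t fun C hC => (hs C (Multiset.mem_add.2 (Or.inl hC))).eff))
  rw [ip_idealMod_prod k X hd ht u fun C hC => (hs C (Multiset.mem_add.2 (Or.inr hC))).eff]
  refine Multiset.sum_induction (fun z : ℤ => z ≤ 0) _ (fun a b ha hb => add_nonpos ha hb) le_rfl fun z hz => ?_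
  obtain ⟨C, hC, rfl⟩ := Multiset.mem_map.1 hz
  exact ip_nonpos_of_hasSec k hd (hs C (Multiset.mem_add.2 (Or.inr hC))) ht (H C hC)

theorem finrank_le_one (hd : topologicalKrullDim X ≤ (2 : ℕ)) (A : X.IdealSheafData) (hA : IsCurve A)
    (s : Multiset X.IdealSheafData) (hs : ∀ C ∈ s, IsCurve C)
    (hnc : ∀ t u : Multiset X.IdealSheafData, s = t + u → u ≠ 0 →
      0 < ip k X (ClSub.idealMod (A ::ₘ t).prod) (ClSub.idealMod u.prod)) :
    Module.finrank k (Coh.HH X (ClSub.quotMod (A * s.prod)) 0) ≤ 1 := by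
  have hle := mul_le_left A s.prod
  have hO : PicF.IsInvertible (Coh.structureModule X) := Fdesc.LocGen.isInvertible_structureModule (X := X)
  have hinj : Function.Injective (mapA k (restr (Coh.structureModule X) hle) 0) := by
    rw [injective_iff_map_eq_zero]
    intro x hx
    by_contra hne
    have h1 := nontrivial_step hO hA.eff s.prod x hne hx
    obtain ⟨t, u, h, hu, h2⟩ := exists_of_hasSec k hd s hs
      (Fdesc.LocGen.isInvertible_tensorMod hO (isInvertible_idealMod hA.eff)) h1
    have h3 := hnc t u h hu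
    have ht : BlowUp.IsEffCartierIdeal t.prod := isEff_prod t fun C hC =>
      (hs C (by rw [h]; exact Multiset.mem_add.2 (Or.inl hC))).eff
    rw [ip_congr k X (A' := ClSub.idealMod (A ::ₘ t).prod) (B' := ClSub.idealMod u.prod) (by
      rw [mc_tensor, mc_tensor, mc_one, one_mul, Multiset.prod_cons, mc_idealMod_mul hA.eff ht]) rfl] at h2
    omega
  have := hA.int
  have h2 : Module.finrank k (Coh.HH X (CohB1.tensorMod (Coh.structureModule X) (ClSub.quotMod A)) 0) = 1 := by
    rw [(equivA k (Ega2.Tens.lunit (ClSub.quotMod A)) 0).finrank_eq, finrank_h0_quotMod]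
  have h4 : Module.Finite k (Coh.HH X (CohB1.tensorMod (Coh.structureModule X) (ClSub.quotMod A)) 0) :=
    Module.finite_of_finrank_pos (by rw [h2]; exact one_pos)
  have h3 := LinearMap.finrank_le_finrank_of_injective hinj
  rw [h2, (equivA k (Ega2.Tens.lunit (ClSub.quotMod (A * s.prod))) 0).finrank_eq] at h3
  exact h3

omit [IsAlgClosed k] in
theorem finite_h0_quotMod (D : X.IdealSheafData) : Module.Finite k (Coh.HH X (ClSub.quotMod D) 0) := by
  have := Fga.IntAdd.isNoetherian k X
  exact S0002.result k X _ (VarietyB.DegCartier.isCoh_quotMod D) 0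

omit [IsAlgClosed k] in
theorem finrank_pos {D : X.IdealSheafData} (h : D ≠ ⊤) : 0 < Module.finrank k (Coh.HH X (ClSub.quotMod D) 0) := by
  have h1 := finite_h0_quotMod k D
  have h2 : Nontrivial (Coh.HH X (ClSub.quotMod D) 0) := hasSec_quotMod h
  exact Module.finrank_pos

/-- **S15099** for a sum of integral curves. -/
theorem finrank_eq_one (hd : topologicalKrullDim X ≤ (2 : ℕ)) (s : Multiset X.IdealSheafData)
    (hs : ∀ C ∈ s, IsCurve C) (hne : s ≠ 0)
    (hnc : ∀ t u : Multiset X.IdealSheafData, s = t + u → t ≠ 0 → u ≠ 0 →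
      0 < ip k X (ClSub.idealMod t.prod) (ClSub.idealMod u.prod)) :
    Module.finrank k (Coh.HH X (ClSub.quotMod s.prod) 0) = 1 := by
  have h1 := finrank_pos k (prod_ne_top hs hne)
  obtain ⟨A, hA⟩ := Multiset.exists_mem_of_ne_zero hne
  obtain ⟨t, rfl⟩ := Multiset.exists_cons_of_mem hA
  have h2 := finrank_le_one k hd A (hs A hA) t (fun C hC => hs C (Multiset.mem_cons_of_mem hC))
    (fun t' u h hu => hnc (A ::ₘ t') u (by rw [h, Multiset.cons_add]) (Multiset.cons_ne_zero) hu)
  rw [← Multiset.prod_cons] at h2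
  omega

end K458.NumConn
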