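import Groth.Agent.Surf.K458.Ip
import Groth.Agent.VarietyB.ProjForm
import Groth.Agent.CurvesC.CurveNum
import Groth.Agent.VarietyA.CurveFin
import Groth.Agent.Fga.MultInt
import Groth.Agent.S1564

/-!
# Modules on a closed subscheme, seen on the ambient scheme

`M ⊗ O_Γ = i_* i^* M`; if `Γ` is an integral curve over an algebraically closed field and `M ⊗ O_Γ` has a
nonzero section then `χ(O_Γ) ≤ χ(M ⊗ O_Γ)`.
-/

set_option autoImplicit false
universe u

open CategoryTheory CategoryTheory.Limits AlgebraicGeometry TopologicalSpace Opposite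

namespace K458.Curve

open Groth.Agent Groth.Agent.Dix.IdealModCartier Groth.Agent.Fga.PicMon K458.Ram K458.Ip

variable (k : Type u) [Field k] {X : Scheme.{u}} [X.Over (Spec (CommRingCat.of k))]

/-- The structure of `k`-scheme on a closed subscheme. -/
noncomputable abbrev subOver (Γ : X.IdealSheafData) : Γ.subscheme.Over (Spec (CommRingCat.of k)) :=
  ⟨Γ.subschemeι ≫ (X ↘ Spec (CommRingCat.of k))⟩

attribute [local instance] subOver

theorem subOver_hom (Γ : X.IdealSheafData) : (Γ.subscheme ↘ Spec (CommRingCat.of k)) =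
    Γ.subschemeι ≫ (X ↘ Spec (CommRingCat.of k)) := rfl

instance isProper_sub [IsProper (X ↘ Spec (CommRingCat.of k))] (Γ : X.IdealSheafData) :
    IsProper (Γ.subscheme ↘ Spec (CommRingCat.of k)) := by
  rw [subOver_hom]
  infer_instance

/-- `M ⊗ O_Γ ≅ i_* i^* M`. -/
noncomputable def isoPush (Γ : X.IdealSheafData) {M : X.Modules} (hM : PicF.IsInvertible M) :
    CohB1.tensorMod M (ClSub.quotMod Γ) ≅
      (Scheme.Modules.pushforward Γ.subschemeι).obj ((Scheme.Modules.pullback Γ.subschemeι).obj M) :=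
  VarietyB.ProjForm.projIsoUnit Γ.subschemeι (Fga.MultInt.hasBases hM)

/-- `H^n(X, M ⊗ O_Γ) ≃ H^n(Γ, M|_Γ)`. -/
noncomputable def hhEquiv (Γ : X.IdealSheafData) {M : X.Modules} (hM : PicF.IsInvertible M) (n : ℕ) :
    Coh.HH X (CohB1.tensorMod M (ClSub.quotMod Γ)) n ≃ₗ[k]
      Coh.HH Γ.subscheme ((Scheme.Modules.pullback Γ.subschemeι).obj M) n :=
  (VarietyA.EulerLES.equivA k (isoPush Γ hM) n).trans
    (CurvesC.CurveNum.hhPushₗ k Γ.subschemeι rfl _ n).symm

noncomputable def hhEquivO (Γ : X.IdealSheafData) (n : ℕ) :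
    Coh.HH X (ClSub.quotMod Γ) n ≃ₗ[k] Coh.HH Γ.subscheme (Coh.structureModule Γ.subscheme) n :=
  (CurvesC.CurveNum.hhPushₗ k Γ.subschemeι rfl _ n).symm

theorem euler_tensor_quotMod_eq (Γ : X.IdealSheafData) {M : X.Modules} (hM : PicF.IsInvertible M) :
    Curv2.euler k X (CohB1.tensorMod M (ClSub.quotMod Γ)) =
      Curv2.euler k Γ.subscheme ((Scheme.Modules.pullback Γ.subschemeι).obj M) := by
  unfold Curv2.euler
  exact finsum_congr fun i => by rw [(hhEquiv k Γ hM i).finrank_eq]

theorem euler_quotMod_eq (Γ : X.IdealSheafData) :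
    Curv2.euler k X (ClSub.quotMod Γ) = Curv2.euler k Γ.subscheme (Coh.structureModule Γ.subscheme) := by
  unfold Curv2.euler
  exact finsum_congr fun i => by rw [(hhEquivO k Γ i).finrank_eq]

theorem dim_subscheme (Γ : X.IdealSheafData) :
    topologicalKrullDim (Γ.subscheme : Type u) = topologicalKrullDim (Γ.support : Set X) := by
  have h1 : Set.range Γ.subschemeι = (Γ.support : Set X) := Scheme.IdealSheafData.range_subschemeι Γ
  rw [← h1]
  exact IsHomeomorph.topologicalKrullDim_eq _
    (Homeomorph.isHomeomorph (Γ.subschemeι.isClosedEmbedding.isEmbedding.toHomeomorph))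

/-- `h^0(O_Γ) = 1` for an integral closed subscheme. -/
theorem finrank_h0_quotMod [IsAlgClosed k] [IsProper (X ↘ Spec (CommRingCat.of k))] (Γ : X.IdealSheafData)
    [IsIntegral Γ.subscheme] : Module.finrank k (Coh.HH X (ClSub.quotMod Γ) 0) = 1 := by
  rw [(hhEquivO k Γ 0).finrank_eq]
  exact VarietyA.CurveFin.finrank_h0_structure k Γ.subscheme

/-- On an integral curve a line bundle with a nonzero section has degree `≥ 0`. -/
theorem euler_le_of_hasSec [IsAlgClosed k] [IsProper (X ↘ Spec (CommRingCat.of k))] (Γ : X.IdealSheafData)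
    [IsIntegral Γ.subscheme] (hd : topologicalKrullDim (Γ.support : Set X) = 1)
    {M : X.Modules} (hM : PicF.IsInvertible M) (h : HasSec (CohB1.tensorMod M (ClSub.quotMod Γ))) :
    Curv2.euler k X (ClSub.quotMod Γ) ≤ Curv2.euler k X (CohB1.tensorMod M (ClSub.quotMod Γ)) := by
  have h' : Nontrivial (Coh.HH X (CohB1.tensorMod M (ClSub.quotMod Γ)) 0) := h
  have hnt : Nontrivial (Coh.HH Γ.subscheme ((Scheme.Modules.pullback Γ.subschemeι).obj M) 0) :=
    (hhEquiv k Γ hM 0).symm.toEquiv.nontrivial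
  have hM' : PicF.IsInvertible ((Scheme.Modules.pullback Γ.subschemeι).obj M) :=
    Fdesc.LocGen.isInvertible_pullback _ hM
  have h1 := (S1564.result k Γ.subscheme ((dim_subscheme Γ).trans hd)
    (VarietyA.CurveFin.finrank_h0_structure k Γ.subscheme) _ hM' hnt).1
  have hf : Module.Finite k (Coh.HH Γ.subscheme ((Scheme.Modules.pullback Γ.subschemeι).obj M) 0) :=
    VarietyA.CurveFin.finite_HH k Γ.subscheme hM' 0
  have h2 : 0 < Module.finrank k (Coh.HH Γ.subscheme ((Scheme.Modules.pullback Γ.subschemeι).obj M) 0) :=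
    Module.finrank_pos
  rw [euler_tensor_quotMod_eq k Γ hM, euler_quotMod_eq k Γ]
  unfold Curv2.deg at h1
  push_cast at h1
  omega

end K458.Curve
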