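import Groth.Agent.Surf.K455.Growth
import Groth.Agent.Surf.K458.Hodge

/-!
# Sections of large powers of a nef and big module

`X` smooth proper integral surface, `L` nef with `L² > 0`, `A` invertible: `L^n ⊗ A` has a nonzero section for `n ≫ 0`.
-/

set_option autoImplicit false
universe u

open CategoryTheory CategoryTheory.Limits AlgebraicGeometry TopologicalSpace Opposite

namespace K458.BigSec

open Groth.Agent Groth.Agent.VarietyA.EulerLES Groth.Agent.Dix.IdealModCartier Groth.Agent.Fga.PicMon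
open K458.Ram K458.Ip K458.Curve K458.NumConn K458.Pos K458.Hodge Groth.Agent.Fdesc.LocGen

variable {X : Scheme.{u}} (k : Type u) [Field k] [X.Over (Spec (CommRingCat.of k))]
  [IsProper (X ↘ Spec (CommRingCat.of k))]

/-- `L` has nonnegative degree on all integral curves. -/
def Nef (L : X.Modules) : Prop := ∀ C : X.IdealSheafData, IsCurve C → ip k X L (ClSub.idealMod C) ≤ 0

omit [IsProper (X ↘ Spec (CommRingCat.of k))] in
theorem ip_one_left [IsProper (X ↘ Spec (CommRingCat.of k))] (hd : topologicalKrullDim X ≤ (2 : ℕ)) (A : X.Modules) :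
    ip k X (Coh.structureModule X) A = 0 := by
  rw [ip_symm, ip_one_right k X hd]

theorem ip_inv_left (hd : topologicalKrullDim X ≤ (2 : ℕ)) {L L' B : X.Modules} (hL : PicF.IsInvertible L)
    (hL' : PicF.IsInvertible L') (h : mc L * mc L' = 1) (hB : PicF.IsInvertible B) :
    ip k X L' B = - ip k X L B := by
  have h1 := ip_mul_left k X hd hL hL' hB
  rw [ip_congr k X (A' := Coh.structureModule X) (B' := B) (by rw [mc_tensor, h, mc_one]) rfl,
    ip_one_left k hd] at h1
  linarith

theorem ip_pow_left (hd : topologicalKrullDim X ≤ (2 : ℕ)) {L B : X.Modules} (hL : PicF.IsInvertible L)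
    (hB : PicF.IsInvertible B) (n : ℕ) : ip k X (CohB1.tensorPow L n) B = n * ip k X L B := by
  induction n with
  | zero =>
    rw [ip_congr k X (A' := Coh.structureModule X) (B' := B) (by rw [mc_tensorPow, pow_zero, mc_one]) rfl,
      ip_one_left k hd]
    simp
  | succ n ih =>
    rw [ip_congr k X (A' := CohB1.tensorMod (CohB1.tensorPow L n) L) (B' := B)
      (by rw [mc_tensor, mc_tensorPow, mc_tensorPow, pow_succ]) rfl,
      ip_mul_left k X hd (isInvertible_tensorPow hL n) hL hB, ih]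
    push_cast
    ring

/-- The Euler characteristic of `L^n ⊗ A`. -/
theorem two_mul_euler (hd : topologicalKrullDim X ≤ (2 : ℕ)) {L A : X.Modules} (hL : PicF.IsInvertible L)
    (hA : PicF.IsInvertible A) (n : ℕ) :
    2 * Curv2.euler k X (CohB1.tensorMod (CohB1.tensorPow L n) A) = 2 * Curv2.euler k X A +
      2 * n * (Curv2.euler k X L - Curv2.euler k X (Coh.structureModule X) + ip k X A L) +
      n * (n - 1) * ip k X L L := by
  induction n with
  | zero =>
    rw [euler_congr (k := k) (B := A) (by rw [mc_tensor, mc_tensorPow, pow_zero, one_mul])]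
    simp
  | succ n ih =>
    have hLn := isInvertible_tensorPow hL n
    have h1 := ip_eq k X hd (CohB1.tensorMod (CohB1.tensorPow L n) A) L
    have e2 : Curv2.euler k X (CohB1.tensorMod (CohB1.tensorMod (CohB1.tensorPow L n) A) L) =
        Curv2.euler k X (CohB1.tensorMod (CohB1.tensorPow L (n + 1)) A) :=
      euler_congr (k := k) (by
        rw [mc_tensor, mc_tensor, mc_tensor, mc_tensorPow, mc_tensorPow, pow_succ, mul_assoc, mul_assoc,
          mul_comm (mc L)])
    rw [ip_mul_left k X hd hLn hA hL, ip_pow_left k hd hL hL, e2] at h1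
    push_cast
    linarith

theorem arith_euler (a b q : ℤ) (hq : 0 < q) : ∃ N : ℕ, ∀ n : ℕ, N ≤ n → 0 < 2 * a + 2 * n * b + n * (n - 1) * q := by
  refine ⟨(2 * |a| + 2 * |b| + 2).toNat, fun n hn => ?_⟩
  have hn' : 2 * |a| + 2 * |b| + 2 ≤ (n : ℤ) := by
    have h2 := Int.self_le_toNat (2 * |a| + 2 * |b| + 2)
    have h3 : ((2 * |a| + 2 * |b| + 2).toNat : ℤ) ≤ n := by exact_mod_cast hn
    linarith
  have ha := abs_nonneg a
  have hb := abs_nonneg b
  have ha' := neg_abs_le a
  have hb' := neg_abs_le b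
  have hn0 : (0 : ℤ) ≤ n := by positivity
  have h3 : (n : ℤ) * (n - 1) ≤ n * (n - 1) * q := by
    have h4 : (0 : ℤ) ≤ n * (n - 1) := mul_nonneg hn0 (by linarith)
    nlinarith
  have h5 : -(n * |b|) ≤ n * b := by nlinarith
  have h8 : (n : ℤ) * (2 * |a| + 2 * |b| + 1) ≤ n * (n - 1) := mul_le_mul_of_nonneg_left (by linarith) hn0
  have h9 : (2 * |a| + 1) ≤ (n : ℤ) * (2 * |a| + 1) := by nlinarith
  nlinarith

theorem arith_neg (c q : ℤ) (hq : 0 < q) : ∃ N : ℕ, ∀ n : ℕ, N ≤ n → c - n * q < 0 := by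
  refine ⟨(|c| + 1).toNat, fun n hn => ?_⟩
  have h2 := Int.self_le_toNat (|c| + 1)
  have h3 : ((|c| + 1).toNat : ℤ) ≤ n := by exact_mod_cast hn
  have h4 := le_abs_self c
  have h5 := abs_nonneg c
  nlinarith

section Smooth

variable [IsIntegral X] [Smooth (X ↘ Spec (CommRingCat.of k))] (hdim : topologicalKrullDim X = 2)

include hdim in
/-- A nef module has nonnegative degree on effective divisors. -/
theorem Nef.ip_nonpos {L : X.Modules} (hL : PicF.IsInvertible L) (h : Nef k L) {E : X.IdealSheafData}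
    (hE : BlowUp.IsEffCartierIdeal E) : ip k X L (ClSub.idealMod E) ≤ 0 := by
  obtain ⟨s, rfl, hs⟩ := Decomp.exists_curves k hdim E hE
  rw [ip_idealMod_prod k X hdim.le hL s fun C hC => (hs C hC).2.2.1]
  refine Multiset.sum_induction (fun z : ℤ => z ≤ 0) _ (fun a b ha hb => add_nonpos ha hb) le_rfl fun z hz => ?_
  obtain ⟨C, hC, rfl⟩ := Multiset.mem_map.1 hz
  exact h C ⟨(hs C hC).1, (hs C hC).2.1, (hs C hC).2.2.1⟩

/-- The divisor of a section. -/
theorem exists_divisor {M : X.Modules} (hM : PicF.IsInvertible M) (h : HasSec M) :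
    ∃ D : X.IdealSheafData, BlowUp.IsEffCartierIdeal D ∧ mc M * mc (ClSub.idealMod D) = 1 := by
  obtain ⟨s, hs⟩ := K456.SecTriv.exists_ne_zero_of_nontrivial h
  exact K455.Pos.exists_divisor hM s hs

include hdim in
theorem Nef.ip_nonneg_of_hasSec {L M : X.Modules} (hL : PicF.IsInvertible L) (h : Nef k L)
    (hM : PicF.IsInvertible M) (hs : HasSec M) : 0 ≤ ip k X M L := by
  obtain ⟨D, hD, e⟩ := exists_divisor hM hs
  have hI := isInvertible_idealMod hD
  have h1 := ip_inv_left k hdim.le hM hI e hL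
  have h2 := h.ip_nonpos k hdim hL hD
  rw [ip_symm] at h2
  linarith

include hdim in
omit [IsProper (X ↘ Spec (CommRingCat.of k))] in
theorem smoothRel :
    SmoothOfRelativeDimension 2 (X ↘ Spec (CommRingCat.of k)) :=
  Picfga.CurveRelDim.smoothOfRelativeDimension_of_topologicalKrullDim_eq k X _ 2 hdim

include hdim in
/-- Vanishing of `H²(L^n ⊗ A)` for `n ≫ 0`. -/
theorem exists_h2_zero {L A : X.Modules} (hL : PicF.IsInvertible L) (h : Nef k L) (hpos : 0 < ip k X L L)
    (hA : PicF.IsInvertible A) :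
    ∃ N : ℕ, ∀ n : ℕ, N ≤ n → Module.finrank k (Coh.HH X (CohB1.tensorMod (CohB1.tensorPow L n) A) 2) = 0 := by
  have := smoothRel k hdim
  obtain ⟨W, hW, hWi⟩ := K455.Canon.exists_canonical (X ↘ Spec (CommRingCat.of k)) 2
  obtain ⟨N, hN⟩ := arith_neg (ip k X W L - ip k X A L) (ip k X L L) hpos
  refine ⟨N, fun n hn => ?_⟩
  have hLn := isInvertible_tensorPow hL n
  have hM := isInvertible_tensorMod hLn hA
  obtain ⟨M', hM', e⟩ := Grpsch.PicGrp.exists_inverse hM
  rw [K455.SmoothRR.finrank_dual k hW hM e 0 2 rfl]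
  by_contra hne
  have hfin : Module.Finite k (Coh.HH X (CohB1.tensorMod W M') 0) :=
    VarietyA.CurveFin.finite_HH k X (isInvertible_tensorMod hWi hM') 0
  have hs : HasSec (CohB1.tensorMod W M') := Module.nontrivial_of_finrank_pos (R := k) (Nat.pos_of_ne_zero hne)
  have h1 := h.ip_nonneg_of_hasSec k hdim hL (isInvertible_tensorMod hWi hM') hs
  have e' : mc (CohB1.tensorMod (CohB1.tensorPow L n) A) * mc M' = 1 := by
    rw [← mc_tensor, ← mc_one, mc_eq_iff]
    exact e
  rw [ip_mul_left k X hdim.le hWi hM' hL, ip_inv_left k hdim.le hM hM' e' hL,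
    ip_mul_left k X hdim.le hLn hA hL, ip_pow_left k hdim.le hL hL] at h1
  have h2 := hN n hn
  linarith

include hdim in
/-- **Sections of `L^n ⊗ A`.** -/
theorem exists_hasSec {L A : X.Modules} (hL : PicF.IsInvertible L) (h : Nef k L) (hpos : 0 < ip k X L L)
    (hA : PicF.IsInvertible A) :
    ∃ N : ℕ, ∀ n : ℕ, N ≤ n → HasSec (CohB1.tensorMod (CohB1.tensorPow L n) A) := by
  obtain ⟨N₁, h₁⟩ := exists_h2_zero k hdim hL h hpos hA
  obtain ⟨N₂, h₂⟩ := arith_euler (Curv2.euler k X A)
    (Curv2.euler k X L - Curv2.euler k X (Coh.structureModule X) + ip k X A L) (ip k X L L) hpos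
  refine ⟨N₁ + N₂, fun n hn => ?_⟩
  have h1 := h₁ n (by omega)
  have h2 := h₂ n (by omega)
  rw [← two_mul_euler k hdim.le hL hA] at h2
  have h3 := Fga.HodgeSec.euler_le (Z := X) k (CohB1.tensorMod (CohB1.tensorPow L n) A)
  rw [h1, Fga.IntAdd.eulerCharLE_eq k X 2 hdim.le] at h3
  push_cast at h3
  exact Module.nontrivial_of_finrank_pos (R := k) (by
    have : (0 : ℤ) < Module.finrank k (Coh.HH X (CohB1.tensorMod (CohB1.tensorPow L n) A) 0) := by linarith
    exact_mod_cast this)

end Smooth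

end K458.BigSec
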