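import Groth.Agent.Surf.K458.RelMin

/-!
# `H¹(F, L^h) = 0` on the fibres of a relatively minimal fibration (K458)
-/

set_option autoImplicit false
universe u
open CategoryTheory CategoryTheory.Limits AlgebraicGeometry Opposite TopologicalSpace

namespace K458.Fib1

open Groth.Agent Groth.Agent.Grpsch.PicGrp Groth.Agent.Fga.PicMon
open K464.Base K464.Curves K464.PtCurve K464.FibCurve K464.DivLat K464.NegDef K458.Ram

/-- The curves in a divisor. -/
theorem exists_eq_comap {X Y : Scheme.{u}} (j : Y ⟶ X) [IsClosedImmersion j] {ι : Type*} [Fintype ι]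
    {C : ι → X.IdealSheafData} (hC : ∀ i, IsCurve (C i)) {n : ι → ℕ} (hker : j.ker = cyc C n)
    (hle : ∀ i, j.ker ≤ C i) {Γ : Y.IdealSheafData} (hΓ : IsCurve Γ) : ∃ i, Γ = (C i).comap j := by
  have h1 : ∃ i, gp hΓ ∈ ((C i).comap j).support := by
    have h2 : j (gp hΓ) ∈ ((cyc C n).support : Set X) := by
      rw [← hker]
      exact j.range_subset_ker_support (Set.mem_range_self _)
    obtain ⟨i, hi⟩ := Set.mem_iUnion.1 (support_cyc_subset _ h2)
    refine ⟨i, ?_⟩
    rw [Scheme.IdealSheafData.support_comap]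
    exact hi
  obtain ⟨i, hi⟩ := h1
  exact ⟨i, eq_of_gp_mem hΓ (Ram2.isCurve_comap j (hC i) (hle i)) hi⟩

section eff

variable (k : Type u) [Field k] {X : Scheme.{u}} [X.Over (Spec (CommRingCat.of k))]
  [IsProper (X ↘ Spec (CommRingCat.of k))] (hdim : topologicalKrullDim X ≤ (2 : ℕ)) {D : X.IdealSheafData}
  (hD : BlowUp.IsEffCartierIdeal D)

include hdim hD

theorem degOn_mul' (a b : Pic X) : degOn k X D (a * b) = degOn k X D a + degOn k X D b := by
  rw [degOn_eq_neg_dot k X hD, degOn_eq_neg_dot k X hD, degOn_eq_neg_dot k X hD, dot_mul_right k X hdim]; ring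

theorem degOn_inv' (a : Pic X) : degOn k X D a⁻¹ = - degOn k X D a := by
  rw [degOn_eq_neg_dot k X hD, degOn_eq_neg_dot k X hD, dot_inv_right k X hdim]

theorem degOn_pow' (a : Pic X) (n : ℕ) : degOn k X D (a ^ n) = n * degOn k X D a := by
  rw [degOn_eq_neg_dot k X hD, degOn_eq_neg_dot k X hD, dot_pow_right k X hdim]; ring

end eff

section main

variable (k : Type u) [Field k] [IsAlgClosed k] {X B : Scheme.{u}} [X.Over (Spec (CommRingCat.of k))]
  [B.Over (Spec (CommRingCat.of k))] [IsProper (X ↘ Spec (CommRingCat.of k))] [IsProper (B ↘ Spec (CommRingCat.of k))]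
  (f : X ⟶ B) (hf : f ≫ (B ↘ Spec (CommRingCat.of k)) = X ↘ Spec (CommRingCat.of k))
  [Smooth (X ↘ Spec (CommRingCat.of k))] [IsIntegral X] (hdim : topologicalKrullDim X = 2)
  [Smooth (B ↘ Spec (CommRingCat.of k))] [IsIntegral B] (hdimB : topologicalKrullDim B = 1)
  [SmoothOfRelativeDimension 2 (X ↘ Spec (CommRingCat.of k))]
  {W : X.Modules} (hW : ExtPow.IsExtPow 2 (Omega.sheaf (X ↘ Spec (CommRingCat.of k))) W) (hWi : PicF.IsInvertible W)

include hf hdim hdimB hW in
theorem h1_fibre [IsDominant f] (hconn : IsIso (ClSub.unitToPush f)) {b : B} (hb : IsClosed ({b} : Set B))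
    (hg : Curv2.euler k X (ClSub.quotMod ((pt hb).comap f)) < 0)
    (hmin : ∀ C : X.IdealSheafData, IsCurve C → (pt hb).comap f ≤ C →
      (∀ e : C.subscheme, IsRegularLocalRing (C.subscheme.presheaf.stalk e)) →
      Curv2.euler k X (ClSub.quotMod C) = 1 → ∀ hC : BlowUp.IsEffCartierIdeal C,
      dot k X (ic C hC) (ic C hC) ≠ -1)
    {L : X.Modules} (hL : PicF.IsInvertible L) (hpos : 0 < degOn k X ((pt hb).comap f) (mk L hL))
    (hcomp : ∀ C : X.IdealSheafData, IsCurve C → (pt hb).comap f ≤ C → 0 ≤ degOn k X C (mk L hL) ∧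
      (degOn k X C (mk L hL) = 0 → Curv2.euler k X (ClSub.quotMod C) = 1 ∧
        ∀ hC : BlowUp.IsEffCartierIdeal C, dot k X (ic C hC) (ic C hC) = -2))
    (h : ℕ) (hh : degOn k X ((pt hb).comap f) (mk W hWi) < h) :
    Subsingleton (Coh.HH X (CohB1.tensorMod (CohB1.tensorPow L h) (ClSub.quotMod ((pt hb).comap f))) 1) := by
  have : AlgebraicGeometry.IsNoetherian X := CurvesB.CurveRR.isNoetherian_of_proper k X
  have : AlgebraicGeometry.IsNoetherian B := CurvesB.CurveRR.isNoetherian_of_proper k B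
  have := K464.FibCurve.isProper k f hf
  have hregB : ∀ b : B, IsRegularLocalRing (B.presheaf.stalk b) := fun b => S1535.result k B b
  have hptE : BlowUp.IsEffCartierIdeal (pt hb) := isEff_pt k (B ↘ Spec (CommRingCat.of k)) hdimB hregB hb
  have hFE : BlowUp.IsEffCartierIdeal ((pt hb).comap f) := isEff_fibre f hdimB hb hptE
  obtain ⟨r, C, n, hE, hC, hinj, hn, hF, hG, hrow⟩ := FibZar.exists_decomp k f hf hdim hdimB hconn hb
  have hle : ∀ i, (pt hb).comap f ≤ C i := by
    intro i
    rw [hF, le_iff_gp_mem (hC i), gp_mem_support_cyc_iff hC hinj]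
    exact (hn i).ne'
  set w : Pic X := mk W hWi with hw
  set l : Pic X := mk L hL with hl
  -- `degOn F = ∑ n_i degOn C_i`
  have hsum : ∀ a : Pic X, degOn k X ((pt hb).comap f) a = ∑ i, (n i : ℤ) * degOn k X (C i) a := by
    intro a
    rw [degOn_eq_neg_dot k X hFE, ic_congr hFE (isEff_cyc hE n) hF, dot_cyc_left k hE hdim.le, ← Finset.sum_neg_distrib]
    refine Finset.sum_congr rfl fun i _ => ?_
    rw [degOn_eq_neg_dot k X (hE i)]; ring
  have hFF : degOn k X ((pt hb).comap f) (ic ((pt hb).comap f) hFE) = 0 := by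
    have h1 := FibZar.degOn_pull_eq_zero k f hf hb (le_refl ((pt hb).comap f)) (ic (pt hb) hptE)
    rwa [K464.DegCurve.pull_ic f hptE hFE] at h1
  have hFC : ∀ i, degOn k X (C i) (ic ((pt hb).comap f) hFE) = 0 := by
    intro i
    have h1 := FibZar.degOn_pull_eq_zero k f hf hb (hle i) (ic (pt hb) hptE)
    rwa [K464.DegCurve.pull_ic f hptE hFE] at h1
  -- `K.F > 0`
  have hKF : degOn k X ((pt hb).comap f) w = -2 * Curv2.euler k X (ClSub.quotMod ((pt hb).comap f)) := by
    have h1 := RelMin.adj k hW hWi hdim.le hFE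
    rw [dot_ic_eq, hFF] at h1
    linarith
  have hκ : ∀ i, 0 ≤ degOn k X (C i) w := by
    refine RelMin.kappa_nonneg (gram_comm k hE) (gram_nonneg k hE hC hinj) hG n hn hrow
      (fun i => degOn k X (C i) w) (fun i => Curv2.euler k X (ClSub.quotMod (C i)))
      (fun i => RelMin.adj k hW hWi hdim.le (hE i)) (fun i => (RelMin.euler_curve k (hC i)).1) ?_ ?_
    · rw [← hsum, hKF]; linarith
    · intro i hi
      exact hmin (C i) (hC i) (hle i) ((RelMin.euler_curve k (hC i)).2 hi) hi (hE i)
  -- `K.C_i ≤ h (L.C_i)`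
  have hCi : ∀ i, degOn k X (C i) w - h * degOn k X (C i) l ≤ 0 := by
    intro i
    obtain ⟨h1, h2⟩ := hcomp (C i) (hC i) (hle i)
    rcases h1.eq_or_lt with h3 | h3
    · obtain ⟨h4, h5⟩ := h2 h3.symm
      have h6 := RelMin.adj k hW hWi hdim.le (hE i)
      rw [h4, h5 (hE i)] at h6
      rw [← h3]
      change -2 + degOn k X (C i) w = _ at h6
      linarith
    · have h4 : degOn k X (C i) w ≤ degOn k X ((pt hb).comap f) w := by
        rw [hsum]
        have h5 : (n i : ℤ) * degOn k X (C i) w ≤ ∑ j, (n j : ℤ) * degOn k X (C j) w :=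
          Finset.single_le_sum (f := fun j => (n j : ℤ) * degOn k X (C j) w)
            (fun j _ => mul_nonneg (by positivity) (hκ j)) (Finset.mem_univ i)
        have h6 : degOn k X (C i) w ≤ (n i : ℤ) * degOn k X (C i) w := by
          have h7 : (1 : ℤ) ≤ n i := by exact_mod_cast hn i
          nlinarith [hκ i]
        linarith
      have h5 : (h : ℤ) * 1 ≤ h * degOn k X (C i) l := mul_le_mul_of_nonneg_left h3 (by positivity)
      linarith
  -- the twist
  obtain ⟨V, hV, hVcl⟩ := exists_mk (w * (ic ((pt hb).comap f) hFE)⁻¹ * (l ^ h)⁻¹)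
  have hM : PicF.IsInvertible (CohB1.tensorPow L h) := Fdesc.LocGen.isInvertible_tensorPow hL h
  refine DivDual.h1_zero k hW hWi hFE hM hV ?_ ?_
  · rw [← hVcl, mk_tensorPow hL h]
    rw [mul_assoc (w * _), inv_mul_cancel, mul_one, inv_mul_cancel_right]
  · have hcalc : ∀ (a b c : ℤ), b = 0 → a + -b + -c = a - c := by intro a b c hb; rw [hb]; ring
    letI := overC k X ((pt hb).comap f)
    have hP := isProper_sub k X ((pt hb).comap f)
    have h0 : Subsingleton (Coh.HH ((pt hb).comap f).subscheme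
        ((Scheme.Modules.pullback ((pt hb).comap f).subschemeι).obj V) 0) := by
      refine FibDiv.h0_of_neg k f hf hdim hdimB hconn hb 1 ((pt hb).comap f).subschemeι rfl
        (by rw [pow_one, Scheme.IdealSheafData.ker_subschemeι])
        (Fdesc.LocGen.isInvertible_pullback _ hV) ?_ ?_
      · rw [← degOn_eq_deg k X _ hV, ← hVcl, degOn_mul' k hdim.le hFE, degOn_mul' k hdim.le hFE,
          degOn_inv' k hdim.le hFE, degOn_inv' k hdim.le hFE, degOn_pow' k hdim.le hFE, hcalc _ _ _ hFF]
        have h5 : (h : ℤ) * 1 ≤ h * degOn k X ((pt hb).comap f) l := mul_le_mul_of_nonneg_left hpos (by positivity)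
        linarith
      · intro Γ hΓ
        have hker : ((pt hb).comap f).subschemeι.ker = cyc C n := by
          rw [Scheme.IdealSheafData.ker_subschemeι, hF]
        have hle' : ∀ i, ((pt hb).comap f).subschemeι.ker ≤ C i := by
          intro i; rw [Scheme.IdealSheafData.ker_subschemeι]; exact hle i
        obtain ⟨i, rfl⟩ := exists_eq_comap ((pt hb).comap f).subschemeι hC hker hle' hΓ
        have h1 : degOn k ((pt hb).comap f).subscheme ((C i).comap ((pt hb).comap f).subschemeι)
            (pull ((pt hb).comap f).subschemeι (mk V hV)) = degOn k X (C i) (mk V hV) :=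
          Ram2.degOn_comap ((pt hb).comap f).subschemeι k rfl (hle' i) (mk V hV)
        change degOn k ((pt hb).comap f).subscheme ((C i).comap ((pt hb).comap f).subschemeι)
            (pull ((pt hb).comap f).subschemeι (mk V hV)) ≤ 0
        rw [h1, ← hVcl, degOn_mul k (hC i), degOn_mul k (hC i), degOn_inv k (hC i), degOn_inv k (hC i),
          degOn_pow k (hC i), hcalc _ _ _ (hFC i)]
        exact hCi i
    exact (K464.Cohom.hhSub k ((pt hb).comap f) hV 0).toEquiv.subsingleton

end main

end K458.Fib1
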