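import Groth.Agent.Surf.K458.ZarLem
import Groth.Agent.Surf.K464.FibCurve
import Groth.Agent.Surf.K464.NegDef
import Groth.Agent.S2431
import Groth.Agent.PosLin.K931.UnitInv

/-!
# Zariski's lemma for the fibres of a fibration (K458)

`f : X ⟶ B` a fibration of a smooth proper surface onto a smooth proper curve over an algebraically closed field.
-/

set_option autoImplicit false
universe u
open CategoryTheory CategoryTheory.Limits AlgebraicGeometry Opposite TopologicalSpace

namespace K458.FibZar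

open Groth.Agent Groth.Agent.Grpsch.PicGrp Groth.Agent.Fga.PicMon
open K464.Base K464.Curves K464.DegCurve K464.Cohom K464.PtCurve K464.FibCurve K464.DivLat K464.NegDef

section conn

variable (k : Type u) [Field k] {X : Scheme.{u}} [X.Over (Spec (CommRingCat.of k))]
  [IsProper (X ↘ Spec (CommRingCat.of k))] {ι : Type*} [Fintype ι] [DecidableEq ι]
  {C : ι → X.IdealSheafData} (hE : ∀ i, BlowUp.IsEffCartierIdeal (C i))

/-- Curves whose union is connected have a connected intersection graph. -/
theorem isConn_of_connected (hC : ∀ i, IsCurve (C i)) (hinj : Function.Injective C)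
    (hconn : _root_.IsPreconnected (⋃ i, ((C i).support : Set X))) : IsConn (gram k hE) := by
  intro S hS hSc
  by_contra hcon
  push Not at hcon
  have h1 : ∀ i ∈ S, ∀ j ∈ Sᶜ, Disjoint ((C i).support : Set X) (C j).support := fun i hi j hj => by
    have hij : i ≠ j := by
      rintro rfl
      exact (Finset.mem_compl.1 hj) hi
    exact (gram_eq_zero_iff k hE hC hinj i j hij).1 (hcon i hi j hj)
  have hcl1 : IsClosed (⋃ i ∈ S, ((C i).support : Set X)) :=
    S.finite_toSet.isClosed_biUnion fun i _ => (C i).support.isClosed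
  have hcl2 : IsClosed (⋃ i ∈ Sᶜ, ((C i).support : Set X)) :=
    (Sᶜ).finite_toSet.isClosed_biUnion fun i _ => (C i).support.isClosed
  have hcov : (⋃ i, ((C i).support : Set X)) ⊆ (⋃ i ∈ S, ((C i).support : Set X)) ∪ (⋃ i ∈ Sᶜ, ((C i).support : Set X)) := by
    intro x hx
    obtain ⟨i, hi⟩ := Set.mem_iUnion.1 hx
    by_cases his : i ∈ S
    · exact Or.inl (Set.mem_iUnion₂.2 ⟨i, his, hi⟩)
    · exact Or.inr (Set.mem_iUnion₂.2 ⟨i, Finset.mem_compl.2 his, hi⟩)
  obtain ⟨i, hi⟩ := hS
  obtain ⟨j, hj⟩ := hSc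
  have hne1 : ((⋃ i, ((C i).support : Set X)) ∩ (⋃ i ∈ S, ((C i).support : Set X))).Nonempty :=
    ⟨gp (hC i), Set.mem_iUnion.2 ⟨i, gp_mem (hC i)⟩, Set.mem_iUnion₂.2 ⟨i, hi, gp_mem (hC i)⟩⟩
  have hne2 : ((⋃ i, ((C i).support : Set X)) ∩ (⋃ i ∈ Sᶜ, ((C i).support : Set X))).Nonempty :=
    ⟨gp (hC j), Set.mem_iUnion.2 ⟨j, gp_mem (hC j)⟩, Set.mem_iUnion₂.2 ⟨j, hj, gp_mem (hC j)⟩⟩
  obtain ⟨x, -, hx1, hx2⟩ := isPreconnected_closed_iff.1 hconn _ _ hcl1 hcl2 hcov hne1 hne2
  obtain ⟨a, ha, hxa⟩ := Set.mem_iUnion₂.1 hx1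
  obtain ⟨b, hb, hxb⟩ := Set.mem_iUnion₂.1 hx2
  exact Set.disjoint_left.1 (h1 a ha b hb) hxa hxb

end conn

section fib

variable (k : Type u) [Field k] [IsAlgClosed k] {X B : Scheme.{u}} [X.Over (Spec (CommRingCat.of k))]
  [B.Over (Spec (CommRingCat.of k))] [IsProper (X ↘ Spec (CommRingCat.of k))] [IsProper (B ↘ Spec (CommRingCat.of k))]
  (f : X ⟶ B)
  (hf : f ≫ (B ↘ Spec (CommRingCat.of k)) = X ↘ Spec (CommRingCat.of k))

include hf in
omit [IsProper (X ↘ Spec (CommRingCat.of k))] in
/-- Classes pulled back from the base have degree `0` on closed subschemes of closed fibres. -/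
theorem degOn_pull_eq_zero {b : B} (hb : IsClosed ({b} : Set B)) {C : X.IdealSheafData} (hC : (pt hb).comap f ≤ C)
    (A : Pic B) : degOn k X C (pull f A) = 0 := by
  obtain ⟨τ, hτ, H⟩ := exists_isPullback_fibre k f hf hb
  have h : C.subschemeι = Scheme.IdealSheafData.inclusion hC ≫ ((pt hb).comap f).subschemeι :=
    (Scheme.IdealSheafData.inclusion_subschemeι hC).symm
  rw [degOn_eq_degC, h, pull_comp, ← pull_comp _ f, H.w, pull_comp, pic_spec_local k (pull τ A), map_one, map_one,
    degC_one]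

/-- The closed fibres of a fibration are connected. -/
theorem isConnected_fibre [IsLocallyNoetherian B] [IsProper f] (hconn : IsIso (ClSub.unitToPush f)) (b : B) :
    _root_.IsConnected (f ⁻¹' {b} : Set X) := by
  have h1 := (S2431.result f (fun U => by
    have h2 := K931.UnitInv.bijective_app_of_isIso f hconn U
    exact (ConcreteCategory.isIso_iff_bijective (f.app U)).2 h2)).1 b
  rw [← f.range_fiberι b]
  exact isConnected_range (f.fiberι b).continuous

theorem support_fibre {b : B} (hb : IsClosed ({b} : Set B)) :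
    (((pt hb).comap f).support : Set X) = f ⁻¹' {b} := by
  ext x
  rw [SetLike.mem_coe, Scheme.IdealSheafData.support_comap]
  change f x ∈ (pt hb).support ↔ _
  rw [mem_support_pt]
  rfl

variable [Smooth (X ↘ Spec (CommRingCat.of k))] [IsIntegral X] (hdim : topologicalKrullDim X = 2)
  [Smooth (B ↘ Spec (CommRingCat.of k))] [IsIntegral B] (hdimB : topologicalKrullDim B = 1)

include hf hdim hdimB in
/-- The decomposition of a closed fibre of a fibration into curves, with Zariski's conditions. -/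
theorem exists_decomp [IsDominant f] (hconn : IsIso (ClSub.unitToPush f)) {b : B} (hb : IsClosed ({b} : Set B)) :
    ∃ (r : ℕ) (C : Fin r → X.IdealSheafData) (n : Fin r → ℕ) (hE : ∀ i, BlowUp.IsEffCartierIdeal (C i)),
      (∀ i, IsCurve (C i)) ∧ Function.Injective C ∧ (∀ i, 0 < n i) ∧ (pt hb).comap f = cyc C n ∧
      IsConn (gram k hE) ∧ ∀ j, ∑ i, (n i : ℤ) * gram k hE i j = 0 := by
  have : AlgebraicGeometry.IsNoetherian X := CurvesB.CurveRR.isNoetherian_of_proper k X
  have : AlgebraicGeometry.IsNoetherian B := CurvesB.CurveRR.isNoetherian_of_proper k B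
  have := K464.FibCurve.isProper k f hf
  have hregB : ∀ b : B, IsRegularLocalRing (B.presheaf.stalk b) := fun b => S1535.result k B b
  have hptE : BlowUp.IsEffCartierIdeal (pt hb) := isEff_pt k (B ↘ Spec (CommRingCat.of k)) hdimB hregB hb
  have hFE : BlowUp.IsEffCartierIdeal ((pt hb).comap f) := isEff_fibre f hdimB hb hptE
  obtain ⟨r, C, n, hC, hinj, hn, hF⟩ := K464.Comp.exists_eq_cyc k (X ↘ Spec (CommRingCat.of k)) hdim
    (fun x => S1535.result k X x) ((pt hb).comap f) hFE
  have hE : ∀ i, BlowUp.IsEffCartierIdeal (C i) := fun i => isEff_of_smooth k hdim (hC i)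
  refine ⟨r, C, n, hE, hC, hinj, hn, hF, ?_, ?_⟩
  · refine isConn_of_connected k hE hC hinj ?_
    have h1 : (⋃ i, ((C i).support : Set X)) = f ⁻¹' {b} := by
      rw [← support_fibre f hb, hF]
      apply Set.Subset.antisymm
      · refine Set.iUnion_subset fun i => ?_
        rw [support_subset_iff (hC i), gp_mem_support_cyc_iff hC hinj]
        exact (hn i).ne'
      · exact support_cyc_subset n
    rw [h1]
    exact (isConnected_fibre f hconn b).isPreconnected
  · intro j
    have h1 := degOn_cyc k hE hdim.le n j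
    have h2 : degOn k X (C j) (ic (cyc C n) (isEff_cyc hE n)) = 0 := by
      rw [← ic_congr hFE (isEff_cyc hE n) hF, ← pull_ic f hptE hFE]
      refine degOn_pull_eq_zero k f hf hb ?_ _
      rw [hF, le_iff_gp_mem (hC j), gp_mem_support_cyc_iff hC hinj]
      exact (hn j).ne'
    rw [h2] at h1
    linarith

end fib

end K458.FibZar
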