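import Groth.Agent.Surf.K458.Krull
import Groth.Agent.Surf.K458.BigSec
import Groth.Agent.Omega.K935.SmoothImm

/-!
# Differentials along a smooth curve of self-intersection zero

`Γ ⊂ X` a smooth integral curve with `Γ² = 0` on a smooth proper surface, `N` invertible with
`N·Γ < 0` and `(N ⊗ ω_X)·Γ < 0`: then `H⁰(X, N ⊗ Ω_X) = 0`.
-/

set_option autoImplicit false
universe u

open CategoryTheory CategoryTheory.Limits AlgebraicGeometry TopologicalSpace Opposite

namespace K458.CurveOmega

open Groth.Agent Groth.Agent.Fga.PicMon Groth.Agent.Fdesc.LocGen Groth.Agent.Dix.IdealModCartier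
open K458.Ram K458.Ip K458.Curve K458.NumConn K458.BigSec K458.Krull
open K882.Coho K882.IsoMon K882.Divisor

variable {X : Scheme.{u}} (k : Type u) [Field k] [X.Over (Spec (CommRingCat.of k))]
  [IsProper (X ↘ Spec (CommRingCat.of k))] [IsAlgClosed k]

theorem mc_eq_iff_c {M N : X.Modules} : mc M = mc N ↔ c M = c N := by
  rw [mc_eq_iff, c_eq_iff]

/-- Negative line bundles on an integral curve have no sections. -/
theorem van_pull (hd : topologicalKrullDim X ≤ (2 : ℕ)) {C : X.IdealSheafData} (hC : IsCurve C)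
    {T : X.Modules} (hT : PicF.IsInvertible T) (h : 0 < ip k X T (ClSub.idealMod C)) :
    Van ((Scheme.Modules.pullback C.subschemeι).obj T) 0 := by
  have h1 : ¬ HasSec (CohB1.tensorMod T (ClSub.quotMod C)) := fun hs => by
    have := ip_nonpos_of_hasSec k hd hC hT hs
    omega
  have h2 : Subsingleton (Coh.HH X (CohB1.tensorMod T (ClSub.quotMod C)) 0) := not_nontrivial_iff_subsingleton.1 h1
  exact (hhEquiv k C hT 0).symm.toEquiv.subsingleton

variable [IsIntegral X] [Smooth (X ↘ Spec (CommRingCat.of k))]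

/-- The conormal sequence of a smooth curve and adjunction. -/
theorem conormal_data (hdim : topologicalKrullDim X = 2) {C : X.IdealSheafData} (hC : IsCurve C)
    [Smooth (C.subschemeι ≫ (X ↘ Spec (CommRingCat.of k)))] {W : X.Modules}
    (hW : ExtPow.IsExtPow 2 (Omega.sheaf (X ↘ Spec (CommRingCat.of k))) W) :
    ∃ S : ShortComplex C.subscheme.Modules, S.ShortExact ∧
      c S.X₁ = c ((Scheme.Modules.pullback C.subschemeι).obj (ClSub.idealMod C)) ∧
      c S.X₂ = c ((Scheme.Modules.pullback C.subschemeι).obj (Omega.sheaf (X ↘ Spec (CommRingCat.of k)))) ∧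
      c S.X₃ * c ((Scheme.Modules.pullback C.subschemeι).obj (ClSub.idealMod C)) =
        c ((Scheme.Modules.pullback C.subschemeι).obj W) := by
  have hsm2 := smoothRel k hdim
  have hCint := hC.int
  have hdC : topologicalKrullDim (C.subscheme : Type u) = 1 := (dim_subscheme C).trans hC.dim
  have hsm1 : SmoothOfRelativeDimension 1 (C.subschemeι ≫ (X ↘ Spec (CommRingCat.of k))) := by
    let := subOver k C
    exact Picfga.CurveRelDim.smoothOfRelativeDimension_of_topologicalKrullDim_eq k C.subscheme _ 1 hdC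
  have hΩ2 : FlatMod.IsFinLocFreeOfRank 2 (Omega.sheaf (X ↘ Spec (CommRingCat.of k))) :=
    Vancyc.H878.OmegaRank.isFinLocFreeOfRank_omega 2 _
  have hΩ1 : FlatMod.IsFinLocFreeOfRank 1 (Omega.sheaf (C.subschemeι ≫ (X ↘ Spec (CommRingCat.of k)))) :=
    Vancyc.H878.OmegaRank.isFinLocFreeOfRank_omega 1 _
  have hCon : FlatMod.IsFinLocFreeOfRank 1 (Omega.conormal C.subschemeι) :=
    K935.SmoothImm.isFinLocFreeOfRank_conormal C.subschemeι (X ↘ Spec (CommRingCat.of k)) rfl hΩ2 hΩ1
  obtain ⟨e0⟩ := K935.SmoothImm.nonempty_det_iso C.subschemeι (X ↘ Spec (CommRingCat.of k)) rfl hCon hΩ2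
    (Sga67.TensorOps.isExtPow_one _) (Sga67.TensorOps.isExtPow_one _) hW
  obtain ⟨S, hS, ⟨e1⟩, ⟨e2⟩, ⟨e3⟩⟩ := K882.Conormal.exists_shortExact C.subschemeι (X ↘ Spec (CommRingCat.of k))
  have hker : C.subschemeι.ker = C := C.ker_subschemeι
  have c0 : c (Omega.conormal C.subschemeι) =
      c ((Scheme.Modules.pullback C.subschemeι).obj (ClSub.idealMod C)) := by
    rw [Omega.conormal, hker]
  refine ⟨S, hS, (c_iso e1).trans c0, c_iso e2, ?_⟩
  rw [c_iso e3, ← c0, ← c_tensor]
  exact c_iso e0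

/-- No sections of `(T ⊗ Ω_X)|_C`. -/
theorem van_pull_omega (hdim : topologicalKrullDim X = 2) {C : X.IdealSheafData} (hC : IsCurve C)
    [Smooth (C.subschemeι ≫ (X ↘ Spec (CommRingCat.of k)))] {W : X.Modules} (hWi : PicF.IsInvertible W)
    (hW : ExtPow.IsExtPow 2 (Omega.sheaf (X ↘ Spec (CommRingCat.of k))) W)
    {T : X.Modules} (hT : PicF.IsInvertible T)
    (h1 : 0 < ip k X T (ClSub.idealMod C) + ip k X (ClSub.idealMod C) (ClSub.idealMod C))
    (h2 : 0 < ip k X T (ClSub.idealMod C) + ip k X W (ClSub.idealMod C) -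
      ip k X (ClSub.idealMod C) (ClSub.idealMod C)) :
    Van ((Scheme.Modules.pullback C.subschemeι).obj
      (CohB1.tensorMod T (Omega.sheaf (X ↘ Spec (CommRingCat.of k))))) 0 := by
  have hI := isInvertible_idealMod hC.eff
  obtain ⟨S, hS, c1, c2, c3'⟩ := conormal_data k hdim hC hW
  have hTf := flf_of_inv hT
  have hT' : FlatMod.IsFinLocFree ((Scheme.Modules.pullback C.subschemeι).obj T) :=
    PerfB.FlatPull.isFinLocFree_pullback _ hTf
  have hS' := Sga67.TensorOps.tensor_shortExact hT' hS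
  obtain ⟨J, hJ, eJ⟩ := Grpsch.PicGrp.exists_inverse hI
  have cIJ : c (ClSub.idealMod C) * c J = 1 := by
    rw [← c_tensor, ← c_unit, c_eq_iff]
    exact eJ
  have cIJ' : c ((Scheme.Modules.pullback C.subschemeι).obj (ClSub.idealMod C)) *
      c ((Scheme.Modules.pullback C.subschemeι).obj J) = 1 := by
    rw [← c_pull_tensor _ (flf_of_inv hI), c_pull_iso _ (N := Coh.structureModule X) (by rw [c_tensor, cIJ, c_unit]),
      c_pull_unit]
  have c3 : c S.X₃ = c ((Scheme.Modules.pullback C.subschemeι).obj (CohB1.tensorMod W J)) := by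
    rw [c_pull_tensor _ (flf_of_inv hWi), ← c3', mul_assoc, cIJ', mul_one]
  have v1 : Van ((Scheme.Modules.pullback C.subschemeι).obj (CohB1.tensorMod T (ClSub.idealMod C))) 0 :=
    van_pull k hdim.le hC (isInvertible_tensorMod hT hI) (by
      rw [ip_mul_left k X hdim.le hT hI hI]
      exact h1)
  have v3 : Van ((Scheme.Modules.pullback C.subschemeι).obj (CohB1.tensorMod T (CohB1.tensorMod W J))) 0 :=
    van_pull k hdim.le hC (isInvertible_tensorMod hT (isInvertible_tensorMod hWi hJ)) (by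
      rw [ip_mul_left k X hdim.le hT (isInvertible_tensorMod hWi hJ) hI, ip_mul_left k X hdim.le hWi hJ hI,
        ip_inv_left k hdim.le hI hJ (by rw [← mc_tensor, ← mc_one, mc_eq_iff]; exact eJ) hI]
      linarith)
  have w1 : Van (Sga67.TensorOps.tensorShort ((Scheme.Modules.pullback C.subschemeι).obj T) S).X₁ 0 := by
    refine van_c ?_ 0 v1
    change _ = c (CohB1.tensorMod _ S.X₁)
    rw [c_tensor, c1, c_pull_tensor _ hTf]
  have w3 : Van (Sga67.TensorOps.tensorShort ((Scheme.Modules.pullback C.subschemeι).obj T) S).X₃ 0 := by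
    refine van_c ?_ 0 v3
    change _ = c (CohB1.tensorMod _ S.X₃)
    rw [c_tensor, c3, c_pull_tensor _ hTf]
  refine van_c ?_ 0 (van₂ hS' 0 w1 w3)
  change c (CohB1.tensorMod _ S.X₂) = _
  rw [c_tensor, c2, c_pull_tensor _ hTf]

omit [IsAlgClosed k] [IsIntegral X] [Smooth (X ↘ Spec (CommRingCat.of k))] in
theorem ip_mul_pow (hd : topologicalKrullDim X ≤ (2 : ℕ)) {T I B : X.Modules} (hT : PicF.IsInvertible T)
    (hI : PicF.IsInvertible I) (hB : PicF.IsInvertible B) (j : ℕ) :
    ip k X (CohB1.tensorMod T (CohB1.tensorPow I j)) B = ip k X T B + j * ip k X I B := by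
  rw [ip_mul_left k X hd hT (isInvertible_tensorPow hI j) hB, ip_pow_left k hd hI hB]

/-- **No sections of `N ⊗ Ω_X`.** -/
theorem main (hdim : topologicalKrullDim X = 2) {C : X.IdealSheafData} (hC : IsCurve C)
    [Smooth (C.subschemeι ≫ (X ↘ Spec (CommRingCat.of k)))]
    (h0 : ip k X (ClSub.idealMod C) (ClSub.idealMod C) = 0) {W : X.Modules}
    (hW : ExtPow.IsExtPow 2 (Omega.sheaf (X ↘ Spec (CommRingCat.of k))) W)
    {N : X.Modules} (hN : PicF.IsInvertible N) (h1 : 0 < ip k X N (ClSub.idealMod C))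
    (h2 : 0 < ip k X N (ClSub.idealMod C) + ip k X W (ClSub.idealMod C)) :
    Subsingleton (Coh.HH X (CohB1.tensorMod N (Omega.sheaf (X ↘ Spec (CommRingCat.of k)))) 0) := by
  have hI := isInvertible_idealMod hC.eff
  have hNoeth := Fga.IntAdd.isNoetherian k X
  have hΩX : FlatMod.IsFinLocFree (Omega.sheaf (X ↘ Spec (CommRingCat.of k))) :=
    Vancyc.H878.OmegaRank.isFinLocFree_omega _
  have hWi : PicF.IsInvertible W := by
    have := smoothRel k hdim
    exact K455.Canon.isInvertible (X ↘ Spec (CommRingCat.of k)) 2 hW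
  obtain ⟨y⟩ := nonempty_subscheme hC.ne_top
  have hx : C.subschemeι y ∈ (C.support : Set X) := by
    rw [← Scheme.IdealSheafData.range_subschemeι]
    exact ⟨y, rfl⟩
  refine van_of_restrict hC.eff hx (flf_tensor (flf_of_inv hN) hΩX) fun j => ?_
  have hNj : PicF.IsInvertible (CohB1.tensorMod N (CohB1.tensorPow (ClSub.idealMod C) j)) :=
    isInvertible_tensorMod hN (isInvertible_tensorPow hI j)
  refine van_c (c_pull_iso _ ?_) 0 (van_pull_omega k hdim hC hWi hW (T := CohB1.tensorMod N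
    (CohB1.tensorPow (ClSub.idealMod C) j)) hNj ?_ ?_)
  · rw [c_tensor, c_tensor, c_tensor, c_tensor, mul_right_comm]
  · rw [ip_mul_pow k hdim.le hN hI hI, h0]
    simpa using h1
  · rw [ip_mul_pow k hdim.le hN hI hI, h0]
    simpa using h2

end K458.CurveOmega
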