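import Groth.Agent.Surf.K458.SplitExt
import Groth.Agent.HodgeNum.K882.Divisor
import Groth.Agent.CurvesB.HZero
import Groth.Agent.Ega2.TensGen
import Groth.Agent.VarietyB.TensLoc

/-!
# Sections of locally free modules vanishing to infinite order along a divisor

`D` an effective Cartier ideal on a locally noetherian integral scheme, `E` finite locally free. If the restrictions
to `D` of all the `E ⊗ I_D^j` have no sections then `E` has no sections.
-/

set_option autoImplicit false
universe u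

open CategoryTheory CategoryTheory.Limits AlgebraicGeometry TopologicalSpace Opposite

namespace K458.Krull

open Groth.Agent Groth.Agent.Fdesc.LocGen Groth.Agent.Dix.IdealModCartier Groth.Agent.VarietyB.RestrSeq
open K882.Coho K882.IsoMon K882.Divisor

variable {X : Scheme.{u}} {D : X.IdealSheafData}

theorem tensIdealι_tmul {E : X.Modules} {U : X.Opens} (t : Γ(E, U)) (g : Γ(ClSub.idealMod D, U)) :
    (tensIdealι E D).app U (Ega2.Tens.tmul t g) = val D g • t := by
  change (Ega2.Tens.runit E).hom.app U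
    (((DCoh.tensorBi.obj E).map (ClSub.idealModι D)).app U (Ega2.Tens.tmul t g)) = _
  have h : ((DCoh.tensorBi.obj E).map (ClSub.idealModι D)).app U (Ega2.Tens.tmul t g) =
      Ega2.Tens.tmul t ((ClSub.idealModι D).app U g) :=
    VarietyB.TensLoc.tensorBi_map_app_tmul E (ClSub.idealModι D) t g
  rw [h]
  exact Ega2.Tens.runit_hom_tmul (val D g) t

/-- No sections on `D` of all the `E ⊗ I^j`. -/
def RV (D : X.IdealSheafData) (E : X.Modules) : Prop :=
  ∀ j : ℕ, Van ((Scheme.Modules.pullback D.subschemeι).obj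
    (CohB1.tensorMod E (CohB1.tensorPow (ClSub.idealMod D) j))) 0

theorem RV.van {E : X.Modules} (h : RV D E) : Van ((Scheme.Modules.pullback D.subschemeι).obj E) 0 :=
  van_c (c_pull_iso _ (by rw [c_tensor, c_pow, pow_zero, mul_one])) 0 (h 0)

theorem RV.succ {E : X.Modules} (h : RV D E) : RV D (CohB1.tensorMod E (ClSub.idealMod D)) := fun j =>
  van_c (c_pull_iso _ (by rw [c_tensor, c_tensor, c_tensor, c_pow, c_pow, pow_succ', mul_assoc])) 0 (h (j + 1))

theorem subsingleton_of_van {M : X.Modules} (h : Van M 0) : Subsingleton Γ(M, ⊤) := by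
  have h' : Subsingleton (Coh.HH X M 0) := h
  exact (CurvesB.HZero.equivAdd M).symm.toEquiv.subsingleton

theorem van_of_subsingleton {M : X.Modules} (h : Subsingleton Γ(M, ⊤)) : Van M 0 :=
  (CurvesB.HZero.equivAdd M).toEquiv.subsingleton

theorem exists_pow_smul (hI : PicF.IsInvertible (ClSub.idealMod D)) {A : X.Opens} {g : Γ(ClSub.idealMod D, A)}
    (hg : IsGen g) (n : ℕ) : ∀ (E : X.Modules), FlatMod.IsFinLocFree E → RV D E → ∀ s : Γ(E, ⊤),
      ∃ t : Γ(E, A), res E le_top s = val D g ^ n • t := by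
  induction n with
  | zero => exact fun E _ _ s => ⟨res E le_top s, by rw [pow_zero, one_smul]⟩
  | succ n ih =>
    intro E hE h s
    have hS := restrSeq_shortExact (VarietyB.TensCoh.HasBases.of_isFinLocFree hE) D
    have hsub := subsingleton_of_van (van_push' D.subschemeι _ 0 h.van)
    obtain ⟨s', hs'⟩ : ∃ s' : Γ(CohB1.tensorMod E (ClSub.idealMod D), ⊤), (tensIdealι E D).app ⊤ s' = s :=
      SplitExt.sec_exact hS ⊤ s (hsub.elim _ _)
    obtain ⟨w, hw⟩ := ih (CohB1.tensorMod E (ClSub.idealMod D)) (flf_tensor hE (flf_of_inv hI)) h.succ s'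
    obtain ⟨t, rfl⟩ := Ega2.TensGen.exists_eq_tmul hg w
    refine ⟨t, ?_⟩
    rw [← hs', ← app_res, hw, Scheme.Modules.Hom.app_smul]
    have h2 : (tensIdealι E D).app A (Ega2.Tens.tmul t g) = val D g • t := tensIdealι_tmul t g
    refine (congrArg (fun z => val D g ^ n • z) h2).trans ?_
    change val D g ^ n • (val D g • t) = _
    rw [smul_smul, pow_succ]

theorem isUnit_of_span_top {A : X.affineOpens} {a : Γ(X, A.1)} (h : D.ideal A = Ideal.span {a}) {x : X} (hx : x ∈ A.1)
    (hD : x ∈ (D.support : Set X)) : Ideal.span {a} ≠ ⊤ := by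
  intro h1
  rw [← h] at h1
  have h2 : x ∈ (D.support : Set X) ∩ A.1 := ⟨hD, hx⟩
  rw [Scheme.IdealSheafData.coe_support_inter, h1] at h2
  have h3 := h2.1
  rw [Scheme.mem_zeroLocus_iff] at h3
  have h4 := h3 1 trivial
  rw [Scheme.basicOpen_of_isUnit _ isUnit_one] at h4
  exact h4 hx

open Sga67.Sec Sga67.LocBasis in
theorem eq_zero_of_res' [IsIntegral X] {E : X.Modules} (hE : FlatMod.IsFinLocFree E) {U : X.Opens} [hU : Nonempty U]
    (s : Sec E ⊤) (hs : Sga67.Sec.res E (le_top : U ≤ ⊤) s = 0) : s = 0 := by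
  have key : ∀ x : X, ∃ (V : X.Opens), x ∈ V ∧ Sga67.Sec.res E (le_top : V ≤ ⊤) s = 0 := by
    intro x
    obtain ⟨V, -, hxV, n, b, hb⟩ := Sga67.TensorOps.exists_basis_nhd hE (U := ⊤) (x := x) trivial
    refine ⟨V, hxV, ?_⟩
    have hne : Nonempty ((U ⊓ V : X.Opens)) := by
      obtain ⟨z, hz⟩ := nonempty_preirreducible_inter U.2 V.2 ⟨_, hU.some.2⟩ ⟨x, hxV⟩
      exact ⟨⟨z, hz⟩⟩
    obtain ⟨a, ha⟩ := (hb V le_rfl).2 (Sga67.Sec.res E le_top s)
    have h3 : Sga67.Sec.res E ((inf_le_left : U ⊓ V ≤ U).trans le_top) s = 0 := by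
      rw [← Sga67.Sec.res_res E (le_top : U ≤ ⊤) (inf_le_left : U ⊓ V ≤ U), hs, map_zero]
    have h1 : comb b (inf_le_right : U ⊓ V ≤ V) (fun i => resO X inf_le_right (a i)) = 0 := by
      rw [← res_comb b le_rfl inf_le_right a, ha, Sga67.Sec.res_res]
      exact h3
    have h4 : (fun i => resO X (inf_le_right : U ⊓ V ≤ V) (a i)) = 0 :=
      (hb _ inf_le_right).1 (h1.trans (map_zero _).symm)
    have h5 : a = 0 := by
      funext i
      have h6 := congrFun h4 i
      exact map_injective_of_isIntegral X (homOfLE (inf_le_right : U ⊓ V ≤ V)) (h6.trans (map_zero _).symm)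
    rw [h5, map_zero] at ha
    exact ha.symm
  choose V hxV hV using key
  exact res_ext E V (fun _ => le_top) (fun x _ => Opens.mem_iSup.2 ⟨x, hxV x⟩) fun x =>
    (hV x).trans (map_zero (Sga67.Sec.res E (le_top : V x ≤ ⊤))).symm

/-- A section of a finite locally free module on an integral scheme which vanishes on a nonempty open set is zero. -/
theorem eq_zero_of_res [IsIntegral X] {E : X.Modules} (hE : FlatMod.IsFinLocFree E) {U : X.Opens} [hU : Nonempty U]
    (s : Γ(E, ⊤)) (hs : res E (le_top : U ≤ ⊤) s = 0) : s = 0 :=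
  eq_zero_of_res' hE s hs

open Sga67.Sec Sga67.LocBasis in
theorem zero_of_smul [IsIntegral X] [IsLocallyNoetherian X] {E : X.Modules} {V : X.Opens} {n : ℕ} {b : Fin n → Sec E V}
    (hb : IsLocBasis b) {B : X.affineOpens} [Nonempty B.1] (h : B.1 ≤ V) {a : Γ(X, B.1)} (ha : Ideal.span {a} ≠ ⊤)
    (s : Sec E B.1) (hs : ∀ j : ℕ, ∃ t : Sec E B.1, s = a ^ j • t) : s = 0 := by
  have hN : IsNoetherianRing Γ(X, B.1) := IsLocallyNoetherian.component_noetherian B
  obtain ⟨c, hc⟩ := (hb B.1 h).2 s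
  have hc0 : c = 0 := by
    funext i
    have h1 : c i ∈ (⨅ j : ℕ, Ideal.span {a} ^ j : Ideal Γ(X, B.1)) := by
      rw [Submodule.mem_iInf]
      intro j
      obtain ⟨t, ht⟩ := hs j
      obtain ⟨d, hd⟩ := (hb B.1 h).2 t
      have h2 : comb b h c = comb b h (a ^ j • d) := by
        rw [map_smul, hd, hc, ht]
      have h3 := congrFun ((hb B.1 h).1 h2) i
      rw [h3, Pi.smul_apply, Ideal.span_singleton_pow, smul_eq_mul]
      exact Ideal.mul_mem_right _ _ (Ideal.mem_span_singleton_self _)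
    rw [Ideal.iInf_pow_eq_bot_of_isDomain _ ha] at h1
    exact h1
  rw [hc0, map_zero] at hc
  exact hc.symm

/-- **Main theorem.** -/
theorem van_of_restrict [IsIntegral X] [IsLocallyNoetherian X] (hD : BlowUp.IsEffCartierIdeal D) {x : X}
    (hx : x ∈ (D.support : Set X)) {E : X.Modules} (hE : FlatMod.IsFinLocFree E) (h : RV D E) : Van E 0 := by
  have hI := isInvertible_idealMod hD
  obtain ⟨A, a, hxA, ha⟩ := exists_genOn hD x
  obtain ⟨g, hg⟩ : ∃ g : Γ(ClSub.idealMod D, A.1), val D g = a := by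
    refine exists_val_eq D A ?_
    have h1 := (ha A le_rfl).2
    rw [ores_refl] at h1
    rw [h1]
    exact Ideal.mem_span_singleton_self _
  have hgen : IsGen g := isGen_of_genOn (by rw [hg]; exact ha)
  obtain ⟨V, hVA, hxV, n, b, hb⟩ := Sga67.TensorOps.exists_basis_nhd hE (U := A.1) (x := x) hxA
  obtain ⟨B, hxB, hBV⟩ := exists_affine_mem_le V x hxV
  have hBA : B.1 ≤ A.1 := hBV.trans hVA
  have hne : Nonempty B.1 := ⟨⟨x, hxB⟩⟩
  refine van_of_subsingleton ⟨fun s s' => ?_⟩
  have key : ∀ s : Γ(E, ⊤), s = 0 := by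
    intro s
    refine eq_zero_of_res hE (U := B.1) s ?_
    refine zero_of_smul hb hBV (isUnit_of_span_top (ha B hBA).2 hxB hx) _ fun j => ?_
    obtain ⟨t, ht⟩ := exists_pow_smul hI hgen j E hE h s
    refine ⟨res E hBA t, ?_⟩
    have h3 := congrArg (res E hBA) ht
    rw [res_res, res_smul, hg, map_pow] at h3
    exact h3
  rw [key s, key s']

end K458.Krull
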