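import Groth.Agent.Surf.K458.DualZero
import Groth.Agent.Surf.K458.Krull
import Groth.Agent.LogNCD.K922.Quot
import Groth.Agent.Sga2.LefPow644
import Groth.Agent.Dcoh.TensRestr
import Groth.Agent.Surf.K464.Base

/-!
# Duality for invertible modules on an effective divisor of a smooth proper surface (K458)

`h1_zero`: if `(W ⊗ O(D) ⊗ M⁻¹)|_D` has no section then `H^1(M|_D) = 0`.
-/

set_option autoImplicit false
universe u
open CategoryTheory CategoryTheory.Limits AlgebraicGeometry Opposite TopologicalSpace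

namespace K458.DivDual

open Groth.Agent Groth.Agent.Dix.IdealModCartier Groth.Agent.VarietyB.RestrSeq Groth.Agent.Grpsch.PicGrp

theorem exists_lift {C : Type*} [Category C] [Abelian C] {S : ShortComplex C} (hS : S.ShortExact) {A : C}
    (a : A ⟶ S.X₂) (h : a ≫ S.g = 0) : ∃ φ : A ⟶ S.X₁, φ ≫ S.f = a := by
  have := hS.mono_f
  exact ⟨hS.exact.lift a h, hS.exact.lift_f a h⟩

theorem exists_desc {C : Type*} [Category C] [Abelian C] {S : ShortComplex C} (hS : S.ShortExact) {A : C}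
    (a : S.X₂ ⟶ A) (h : S.f ≫ a = 0) : ∃ φ : S.X₃ ⟶ A, S.g ≫ φ = a := by
  have := hS.epi_g
  exact ⟨hS.exact.desc a h, hS.exact.g_desc a h⟩

theorem abs_split {C : Type*} [Category C] [Abelian C] (T : C ⥤ C) [T.Additive] [T.IsEquivalence] (μ : T ⟶ 𝟭 C)
    {W E Q R : C} {i : W ⟶ E} {p : E ⟶ Q} {w : i ≫ p = 0} (hS : (ShortComplex.mk i p w).ShortExact)
    (hQ : μ.app Q = 0) {q : W ⟶ R} {hq : μ.app W ≫ q = 0}
    (hW : (ShortComplex.mk (C := C) (X₁ := T.obj W) (X₂ := W) (μ.app W) q hq).ShortExact)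
    (h0 : ∀ g : T.obj Q ⟶ R, g = 0) : ∃ σ : Q ⟶ E, σ ≫ p = 𝟙 Q := by
  have hS' : ((ShortComplex.mk i p w).map T).ShortExact := hS.map_of_exact T
  have hmono : Mono i := hS.mono_f
  have hmonoW : Mono (C := C) (X := T.obj W) (Y := W) (μ.app W) := hW.mono_f
  have hepi : Epi p := hS.epi_g
  have hepiT : Epi (T.map p) := hS'.epi_g
  have h1 : (show T.obj E ⟶ E from μ.app E) ≫ p = 0 := by
    have h2 : T.map p ≫ (show T.obj Q ⟶ Q from μ.app Q) = (show T.obj E ⟶ E from μ.app E) ≫ p := μ.naturality p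
    rw [← h2]
    have h3 : (show T.obj Q ⟶ Q from μ.app Q) = 0 := hQ
    rw [h3, comp_zero]
  obtain ⟨φ, hφ⟩ : ∃ φ : T.obj E ⟶ W, φ ≫ i = (show T.obj E ⟶ E from μ.app E) :=
    exists_lift hS (show T.obj E ⟶ E from μ.app E) h1
  have h4 : T.map i ≫ φ = (show T.obj W ⟶ W from μ.app W) := by
    rw [← cancel_mono i, Category.assoc, hφ]
    exact μ.naturality i
  have h5 : T.map i ≫ φ ≫ q = 0 := by
    rw [← Category.assoc, h4]; exact hq
  obtain ⟨g, hg⟩ : ∃ g : T.obj Q ⟶ R, T.map p ≫ g = φ ≫ q :=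
    exists_desc hS' (φ ≫ q) h5
  rw [h0 g, comp_zero] at hg
  obtain ⟨ψ, hψ⟩ : ∃ ψ : T.obj E ⟶ T.obj W, ψ ≫ (show T.obj W ⟶ W from μ.app W) = φ :=
    exists_lift hW φ hg.symm
  have hmonoW' : Mono (show T.obj W ⟶ W from μ.app W) := hmonoW
  have h6 : T.map i ≫ ψ = 𝟙 _ := by
    rw [← cancel_mono (show T.obj W ⟶ W from μ.app W), Category.assoc, hψ, h4, Category.id_comp]
  obtain ⟨ρ, rfl⟩ := T.map_surjective ψ
  have h7 : i ≫ ρ = 𝟙 _ := T.map_injective (by rw [T.map_comp, h6, T.map_id])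
  have h8 : i ≫ (𝟙 E - ρ ≫ i) = 0 := by
    rw [Preadditive.comp_sub, Category.comp_id, ← Category.assoc, h7, Category.id_comp, sub_self]
  obtain ⟨σ, hσ⟩ : ∃ σ : Q ⟶ E, p ≫ σ = 𝟙 E - ρ ≫ i :=
    exists_desc hS (𝟙 E - ρ ≫ i) h8
  refine ⟨σ, ?_⟩
  rw [← cancel_epi p, ← Category.assoc, hσ, Preadditive.sub_comp, Category.id_comp, Category.assoc, w, comp_zero,
    sub_zero, Category.comp_id]

variable {X : Scheme.{u}}

/-- Multiplication `- ⊗ I_D → -`. -/
noncomputable def mu (D : X.IdealSheafData) : DCoh.tensorRightMod (ClSub.idealMod D) ⟶ 𝟭 X.Modules where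
  app F := tensIdealι F D
  naturality F G φ := by
    apply Ega2.Tens.hom_ext
    intro U m n
    have h1 : ((DCoh.tensorRightMod (ClSub.idealMod D)).map φ ≫ tensIdealι G D).app U (Ega2.Tens.tmul m n) =
        (tensIdealι G D).app U (((DCoh.tensorRightMod (ClSub.idealMod D)).map φ).app U (Ega2.Tens.tmul m n)) := rfl
    have h2 : (tensIdealι F D ≫ (𝟭 X.Modules).map φ).app U (Ega2.Tens.tmul m n) =
        φ.app U ((tensIdealι F D).app U (Ega2.Tens.tmul m n)) := rfl
    refine h1.trans (Eq.trans ?_ h2.symm)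
    rw [Dcoh.TensRestr.tensorRightMod_map_tmul, Krull.tensIdealι_tmul, Krull.tensIdealι_tmul,
      Scheme.Modules.Hom.app_smul]

theorem mu_app (D : X.IdealSheafData) (F : X.Modules) : (mu D).app F = tensIdealι F D := rfl

/-- `I_D` kills `M ⊗ O_D`. -/
theorem mu_quot (D : X.IdealSheafData) (M : X.Modules) :
    tensIdealι (CohB1.tensorMod M (ClSub.quotMod D)) D = 0 := by
  apply Ega2.Tens.hom_ext
  intro U m n
  rw [Krull.tensIdealι_tmul]
  exact K922.Quot.smul_tensor_eq_zero D M U (val D n) (K922.Quot.cls_idealSect D U n) m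

/-- Extensions of `M ⊗ O_D` by an invertible `W` split if `Hom(M ⊗ O_D ⊗ I_D, W|_D) = 0`. -/
theorem exists_split {D : X.IdealSheafData} (hD : BlowUp.IsEffCartierIdeal D) {W E M : X.Modules}
    (hW : PicF.IsInvertible W) {i : W ⟶ E} {p : E ⟶ CohB1.tensorMod M (ClSub.quotMod D)} {w : i ≫ p = 0}
    (hS : (ShortComplex.mk i p w).ShortExact)
    (h0 : ∀ g : (DCoh.tensorRightMod (ClSub.idealMod D)).obj (CohB1.tensorMod M (ClSub.quotMod D)) ⟶
      (Scheme.Modules.pushforward D.subschemeι).obj ((Scheme.Modules.pullback D.subschemeι).obj W), g = 0) :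
    ∃ σ : CohB1.tensorMod M (ClSub.quotMod D) ⟶ E, σ ≫ p = 𝟙 _ := by
  have hP : PicF.IsInvertible (ClSub.idealMod D) := isInvertible_idealMod hD
  obtain ⟨P', hP', ⟨e⟩⟩ := exists_inverse hP
  have hT := Sga2.LefPow644.isEquivalence_of_inv e
  have hWb : VarietyB.TensCoh.HasBases W :=
    VarietyB.TensCoh.HasBases.of_isFinLocFreeOfRank (Ega2.QCohLocal.isFinLocFreeOfRank_one_iff.mpr hW)
  exact abs_split (DCoh.tensorRightMod (ClSub.idealMod D)) (mu D) hS (mu_quot D M) (q := toRestr hWb D)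
    (hq := tensIdealι_toRestr hWb D) (restrSeq_shortExact hWb D) h0

open Groth.Agent.Fga.PicMon K464.Base

/-- Homomorphisms from `M ⊗ P`. -/
theorem hom_zero₁ {M P A' G : X.Modules} (e' : CohB1.tensorMod (CohB1.tensorMod M P) A' ≅ Coh.structureModule X)
    (h : Subsingleton (Coh.HH X (CohB1.tensorMod G A') 0)) (φ : (DCoh.tensorRightMod P).obj M ⟶ G) : φ = 0 := by
  let e'' : CohB1.tensorMod A' ((DCoh.tensorRightMod P).obj M) ≅ Coh.structureModule X :=
    Ega2.Tens.swap A' (CohB1.tensorMod M P) ≪≫ e'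
  exact Sga2.LefPow644.hom_eq_zero e'' h φ

/-- The quotient map `M → M ⊗ O_D`. -/
noncomputable def toQ (D : X.IdealSheafData) (M : X.Modules) : M ⟶ CohB1.tensorMod M (ClSub.quotMod D) :=
  (Ega2.Tens.runit M).inv ≫ VarietyB.RestrSeq.tensMap M (ClSub.toSubscheme D)

theorem epi_tensMap (D : X.IdealSheafData) {M : X.Modules} (hM : PicF.IsInvertible M) :
    Epi (VarietyB.RestrSeq.tensMap M (ClSub.toSubscheme D)) :=
  (Fga.TwistCoh.shortExact_tensorBi hM _ (K922.Quot.ses_shortExact D)).epi_g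

theorem epi_toQ (D : X.IdealSheafData) {M : X.Modules} (hM : PicF.IsInvertible M) : Epi (toQ D M) := by
  have h1 := epi_tensMap D hM
  unfold toQ
  exact epi_comp _ _

/-- `Hom(M ⊗ O_D ⊗ I_D, W|_D) = 0` if `V|_D` has no section, `V ⊗ M ⊗ I_D ≅ W`. -/
theorem hom_zero {D : X.IdealSheafData} (hD : BlowUp.IsEffCartierIdeal D) {W M V : X.Modules}
    (hW : PicF.IsInvertible W) (hM : PicF.IsInvertible M) (hV : PicF.IsInvertible V)
    (hcl : mk V hV * mk M hM * ic D hD = mk W hW)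
    (h0 : Subsingleton (Coh.HH X (CohB1.tensorMod (ClSub.quotMod D) V) 0))
    (g : (DCoh.tensorRightMod (ClSub.idealMod D)).obj (CohB1.tensorMod M (ClSub.quotMod D)) ⟶
      (Scheme.Modules.pushforward D.subschemeι).obj ((Scheme.Modules.pullback D.subschemeι).obj W)) : g = 0 := by
  have hP : PicF.IsInvertible (ClSub.idealMod D) := isInvertible_idealMod hD
  obtain ⟨P', hP', ⟨e⟩⟩ := exists_inverse hP
  have hT := Sga2.LefPow644.isEquivalence_of_inv e
  have hA : PicF.IsInvertible (CohB1.tensorMod M (ClSub.idealMod D)) := Fdesc.LocGen.isInvertible_tensorMod hM hP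
  obtain ⟨A', hA', ⟨e'⟩⟩ := exists_inverse hA
  have hu : Epi (toQ D M) := epi_toQ D hM
  have hTu : Epi ((DCoh.tensorRightMod (ClSub.idealMod D)).map (toQ D M)) := inferInstance
  rw [← cancel_epi ((DCoh.tensorRightMod (ClSub.idealMod D)).map (toQ D M)), comp_zero]
  refine hom_zero₁ e' ?_ _
  have hWb : VarietyB.TensCoh.HasBases W :=
    VarietyB.TensCoh.HasBases.of_isFinLocFreeOfRank (Ega2.QCohLocal.isFinLocFreeOfRank_one_iff.mpr hW)
  have hVW : mc V = mc W * mc A' := by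
    have h1 : mk V hV = mk W hW * mk A' hA' := by
      have h2 : mk (CohB1.tensorMod M (ClSub.idealMod D)) hA * mk A' hA' = 1 := by
        rw [mk_mul_mk, mk_eq_one_iff]; exact ⟨e'⟩
      have h3 : mk (CohB1.tensorMod M (ClSub.idealMod D)) hA = mk M hM * ic D hD := rfl
      rw [h3] at h2
      rw [mul_assoc] at h2
      rw [← hcl, mul_assoc, mul_assoc, h2, mul_one]
    rw [mk_mul_mk, mk_eq_iff, ← mc_eq_iff, mc_tensor] at h1
    exact h1
  have e3 := VarietyB.ProjForm.projIsoUnit D.subschemeι hWb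
  have h4 : mc ((Scheme.Modules.pushforward D.subschemeι).obj ((Scheme.Modules.pullback D.subschemeι).obj W)) =
      mc W * mc (ClSub.quotMod D) := (mc_eq e3).symm
  have h5 : mc (CohB1.tensorMod ((Scheme.Modules.pushforward D.subschemeι).obj
      ((Scheme.Modules.pullback D.subschemeι).obj W)) A') = mc (CohB1.tensorMod (ClSub.quotMod D) V) := by
    rw [mc_tensor, mc_tensor, h4, hVW, mul_comm (mc W), mul_assoc]
  obtain ⟨e6⟩ := (mc_eq_iff _ _).1 h5
  exact (VarietyA.EulerLES.equivΓ e6 0).toEquiv.subsingleton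

/-- **Duality vanishing on a divisor.** -/
theorem h1_zero (k : Type u) [Field k] [X.Over (Spec (CommRingCat.of k))] [IsProper (X ↘ Spec (CommRingCat.of k))]
    [SmoothOfRelativeDimension 2 (X ↘ Spec (CommRingCat.of k))] {W : X.Modules}
    (hW : ExtPow.IsExtPow 2 (Omega.sheaf (X ↘ Spec (CommRingCat.of k))) W) (hWi : PicF.IsInvertible W)
    {D : X.IdealSheafData} (hD : BlowUp.IsEffCartierIdeal D) {M V : X.Modules} (hM : PicF.IsInvertible M)
    (hV : PicF.IsInvertible V) (hcl : mk V hV * mk M hM * ic D hD = mk W hWi)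
    (h0 : Subsingleton (Coh.HH X (CohB1.tensorMod (ClSub.quotMod D) V) 0)) :
    Subsingleton (Coh.HH X (CohB1.tensorMod M (ClSub.quotMod D)) 1) := by
  refine subsingleton_of_forall_eq 0 fun x => ?_
  have hq : Coh.IsQCoh (CohB1.tensorMod M (ClSub.quotMod D)) := by
    obtain ⟨e⟩ : Nonempty (CohB1.tensorMod (ClSub.quotMod D) M ≅ CohB1.tensorMod M (ClSub.quotMod D)) :=
      ⟨Ega2.Tens.swap _ _⟩
    exact (PerfA.CohSerre.isCoh_of_iso e (isCoh_tensorMod X (isCoh_quotMod X D) hM)).1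
  refine DualZero.main k hW hq x fun E i p w hS => ?_
  obtain ⟨σ, hσ⟩ := exists_split hD hWi hS (hom_zero hD hWi hM hV hcl h0)
  refine ⟨_, 𝟙 _, σ, hσ, x, ?_⟩
  rw [VarietyA.EulerLES.mapA_id]
  rfl

end K458.DivDual
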