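import Groth.Agent.Sga2.ThickKer

/-!
# `A/AB ≅ O/B ⊗ A` for an effective Cartier ideal `A` and any ideal `B`

`kernel_iso : ker (O/AB → O/A) ≅ O/B ⊗ A` (module of the ideal `A`).
-/

set_option autoImplicit false
universe u

open CategoryTheory CategoryTheory.Limits AlgebraicGeometry TopologicalSpace Opposite

namespace K458.KerMul

open Groth.Agent.Fdesc.LocGen Groth.Agent.Sga2.HomGens Groth.Agent.Dix.IdealModCartier Groth.Agent
open Groth.Agent.Sga2 Groth.Agent.Sga2.ThickKer

variable {X : Scheme.{u}}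

theorem mem_iff {A : X.IdealSheafData} {U : X.Opens} {t : Γ(X, U)} (ht : GenOn A t)
    (V : X.affineOpens) (hV : V.1 ≤ U) (a : Γ(X, V.1)) :
    a ∈ A.ideal V ↔ ∃ b, a = b * ores hV t := by
  rw [(ht V hV).2, Ideal.mem_span_singleton']
  exact ⟨fun ⟨b, hb⟩ => ⟨b, hb.symm⟩, fun ⟨b, hb⟩ => ⟨b, hb.symm⟩⟩

theorem mul_mem_iff {A : X.IdealSheafData} (B : X.IdealSheafData) {U : X.Opens} {t : Γ(X, U)} (ht : GenOn A t)
    (V : X.affineOpens) (hV : V.1 ≤ U) (a : Γ(X, V.1)) :
    a * ores hV t ∈ (A * B).ideal V ↔ a ∈ B.ideal V := by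
  have h1 : (A * B).ideal V = A.ideal V * B.ideal V := rfl
  rw [h1, (ht V hV).2, Ideal.mem_span_singleton_mul]
  constructor
  · rintro ⟨b, hb, h⟩
    rw [mul_comm] at h
    rwa [← (mul_cancel_right_mem_nonZeroDivisors (ht V hV).1).1 h]
  · intro h
    exact ⟨a, h, mul_comm _ _⟩

theorem kernel_iso {A : X.IdealSheafData} (hA : BlowUp.IsEffCartierIdeal A) (B : X.IdealSheafData)
    (h : A * B ≤ A) :
    Nonempty (CohB1.tensorMod (ClSub.quotMod B) (ClSub.idealMod A) ≅ kernel (Lef.quotMap h)) := by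
  obtain ⟨U, t, p, hx, ht, hp, hpt⟩ := exists_cover hA
  have hcov : ⨆ x, U x = ⊤ := by
    rw [eq_top_iff]
    intro x _
    exact Opens.mem_iSup.2 ⟨x, hx x⟩
  have hmono : Mono (kernel.ι (Lef.quotMap h)) := equalizer.ι_mono
  have hinj := fun V => @Smoothlim.ModKer.app_injective_of_mono _ _ _ (kernel.ι (Lef.quotMap h)) hmono V
  have hmem : ∀ x, cls A (t x) = 0 := by
    intro x
    refine HomGens.eq_of_affine_cover (ClSub.quotMod A) (ι := Unit) (U := fun _ => ⊤) (by simp)
      fun i W hW _ => ?_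
    rw [res_cls, map_zero, cls_eq_zero_iff, mem_iff (ht x) W hW]
    exact ⟨1, (one_mul _).symm⟩
  have hk : ∀ x, ∃ k : Γ(kernel (Lef.quotMap h), U x), (kernel.ι (Lef.quotMap h)).app (U x) k =
      cls (A * B) (t x) := by
    intro x
    apply Smoothlim.ModKer.exists_of_app_eq_zero
    rw [quotMap_cls]
    exact hmem x
  choose k hk using hk
  have hkr : ∀ x (V : X.Opens) (hV : V ≤ U x) (r : Γ(X, V)),
      (kernel.ι (Lef.quotMap h)).app V (r • res _ hV (k x)) = cls (A * B) (r * ores hV (t x)) := by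
    intro x V hV r
    rw [Scheme.Modules.Hom.app_smul, app_res, hk, res_cls, smul_cls]
  have hgk : ∀ x, Gen (k x) := by
    intro x V hV s
    obtain ⟨r, hr⟩ := cls_surjective (A * B) V ((kernel.ι (Lef.quotMap h)).app V.1 s)
    have h1 : (Lef.quotMap h).app V.1 (cls (A * B) r) = 0 := by
      rw [hr]
      exact congr(($(kernel.condition (Lef.quotMap h))).app V.1 s)
    rw [quotMap_cls, cls_eq_zero_iff, mem_iff (ht x) V hV] at h1
    obtain ⟨r', rfl⟩ := h1
    refine ⟨r', hinj V.1 ?_⟩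
    rw [hkr, hr]
  obtain ⟨φ, -⟩ := exists_iso hcov (M := CohB1.tensorMod (ClSub.quotMod B) (ClSub.idealMod A))
    (N := kernel (Lef.quotMap h)) (e := fun x => tmul (cls B (1 : Γ(X, U x))) (p x))
    (n := k) (fun x => gen_tmul (gen_cls_one _ _) (hp x)) (fun x y V hi hj => by
      obtain ⟨r, h1, h2⟩ := exists_trans (D := A) (p := p x) (hp y) V.1 hi hj
      rw [hpt, hpt] at h2
      refine ⟨r, ?_, ?_⟩
      · rw [res_tmul, res_tmul, res_cls, res_cls, map_one, map_one, h1, tmul_smul]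
      · apply hinj V.1
        have h3 := hkr x V.1 hi 1
        rw [one_smul, one_mul] at h3
        rw [h3, hkr, h2]) hgk (fun x V hV r => by
      rw [res_tmul, res_cls, map_one, smul_tmul_eq_zero_iff _ ((hp x).res hV),
        smul_cls, mul_one, cls_eq_zero_iff]
      constructor
      · intro h1
        apply hinj V.1
        rw [hkr]
        refine ((cls_eq_zero_iff (A * B) V _).2 ?_).trans (map_zero _).symm
        rw [mul_mem_iff B (ht x)]
        exact h1
      · intro h1
        have h2 := hkr x V.1 hV r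
        rw [h1, map_zero] at h2
        have h3 := (cls_eq_zero_iff (A * B) V _).1 h2.symm
        rwa [mul_mem_iff B (ht x)] at h3)
  exact ⟨φ⟩

end K458.KerMul
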