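import Groth.Agent.Surf.K458.BigSec

/-!
# Nef and big divisors: `H⁰(O_D) = k`, `H¹(O(-D)) ↪ H¹(O)`, vanishing of `H⁰(N|_D)`
-/

set_option autoImplicit false
universe u

open CategoryTheory CategoryTheory.Limits AlgebraicGeometry TopologicalSpace Opposite

namespace K458.NefBig

open Groth.Agent Groth.Agent.VarietyA.EulerLES Groth.Agent.Dix.IdealModCartier Groth.Agent.Fga.PicMon
open K458.Ram K458.Ip K458.Curve K458.NumConn K458.Pos K458.Hodge K458.BigSec Groth.Agent.Fdesc.LocGen

variable {X : Scheme.{u}} (k : Type u) [Field k] [X.Over (Spec (CommRingCat.of k))]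
  [IsProper (X ↘ Spec (CommRingCat.of k))]

/-- A nef and big effective Cartier divisor. -/
structure NB (D : X.IdealSheafData) : Prop where
  eff : BlowUp.IsEffCartierIdeal D
  pos : 0 < ip k X (ClSub.idealMod D) (ClSub.idealMod D)
  nef : ∀ C : X.IdealSheafData, IsCurve C → 0 ≤ ip k X (ClSub.idealMod D) (ClSub.idealMod C)

theorem NB.ne_top (hd : topologicalKrullDim X ≤ (2 : ℕ)) {D : X.IdealSheafData} (h : NB k D) : D ≠ ⊤ := by
  rintro rfl
  have h1 := h.pos
  rw [ip_congr k X (A' := ClSub.idealMod (⊤ : X.IdealSheafData)) (B' := Coh.structureModule X) rfl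
    (by rw [mc_idealMod_top, mc_one]), ip_one_right k X hd] at h1
  exact lt_irrefl _ h1

/-- Divisors of positive powers of a nef and big module are nef and big. -/
theorem nb_of_mc (hd : topologicalKrullDim X ≤ (2 : ℕ)) {L : X.Modules} (hL : PicF.IsInvertible L) (h : Nef k L)
    (hpos : 0 < ip k X L L) {D : X.IdealSheafData} (hD : BlowUp.IsEffCartierIdeal D) {m : ℕ} (hm : 0 < m)
    (e : mc L ^ m * mc (ClSub.idealMod D) = 1) : NB k D := by
  have hI := isInvertible_idealMod hD
  have key : ∀ {B : X.Modules}, PicF.IsInvertible B → ip k X (ClSub.idealMod D) B = - (m * ip k X L B) := by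
    intro B hB
    rw [ip_inv_left k hd (isInvertible_tensorPow hL m) hI (by rw [mc_tensorPow, e]) hB, ip_pow_left k hd hL hB]
  refine ⟨hD, ?_, fun C hC => ?_⟩
  · rw [key hI, ip_symm, key hL]
    have : (0 : ℤ) < m := by exact_mod_cast hm
    nlinarith [mul_pos this (mul_pos this hpos)]
  · rw [key (isInvertible_idealMod hC.eff)]
    have h1 := h C hC
    have h2 : (m : ℤ) * ip k X L (ClSub.idealMod C) ≤ 0 := mul_nonpos_of_nonneg_of_nonpos (by positivity) h1
    linarith

section Smooth

variable [IsAlgClosed k] [IsIntegral X] [Smooth (X ↘ Spec (CommRingCat.of k))] (hdim : topologicalKrullDim X = 2)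

include hdim in
/-- The vanishing lemma: `N⁻¹` nef and positive on `D` implies `H⁰(N|_D) = 0`. -/
theorem not_hasSec {D : X.IdealSheafData} (h : NB k D) {N : X.Modules} (hN : PicF.IsInvertible N)
    (hnef : ∀ C : X.IdealSheafData, IsCurve C → 0 ≤ ip k X N (ClSub.idealMod C))
    (hpos : 0 < ip k X N (ClSub.idealMod D)) : ¬ HasSec (CohB1.tensorMod N (ClSub.quotMod D)) := by
  intro hs
  obtain ⟨s, rfl, hcs⟩ := Decomp.exists_curves k hdim D h.eff
  have hcs' : ∀ C ∈ s, IsCurve C := fun C hC => ⟨(hcs C hC).1, (hcs C hC).2.1, (hcs C hC).2.2.1⟩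
  obtain ⟨t, u, rfl, hu, hle⟩ := exists_of_hasSec k hdim.le s hcs' hN hs
  have ht' : ∀ C ∈ t, IsCurve C := fun C hC => hcs' C (Multiset.mem_add.2 (Or.inl hC))
  have hu' : ∀ C ∈ u, IsCurve C := fun C hC => hcs' C (Multiset.mem_add.2 (Or.inr hC))
  have hte := isEff_prod t fun C hC => (ht' C hC).eff
  have hue := isEff_prod u fun C hC => (hu' C hC).eff
  rw [ip_mul_left k X hdim.le hN (isInvertible_idealMod hte) (isInvertible_idealMod hue)] at hle
  by_cases ht : t = 0
  · subst ht
    rw [zero_add] at hpos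
    rw [ip_congr k X (A := ClSub.idealMod (Multiset.prod 0)) (A' := Coh.structureModule X)
      (B' := ClSub.idealMod u.prod) (by rw [Multiset.prod_zero, Scheme.IdealSheafData.one_eq_top,
        mc_idealMod_top, mc_one]) rfl, ip_one_left k hdim.le] at hle
    linarith
  · have h1 : 0 < ip k X (ClSub.idealMod t.prod) (ClSub.idealMod u.prod) := by
      have h2 := h
      rw [Multiset.prod_add] at h2
      exact numConn k hdim hte hue (prod_ne_top ht' ht) (prod_ne_top hu' hu) h2.pos h2.nef
    have h3 : 0 ≤ ip k X N (ClSub.idealMod u.prod) := by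
      rw [ip_idealMod_prod k X hdim.le hN u fun C hC => (hu' C hC).eff]
      refine Multiset.sum_induction (fun z : ℤ => 0 ≤ z) _ (fun a b ha hb => add_nonneg ha hb) le_rfl fun z hz => ?_
      obtain ⟨C, hC, rfl⟩ := Multiset.mem_map.1 hz
      exact hnef C (hu' C hC)
    linarith

include hdim in
/-- `h⁰(O_D) = 1`. -/
theorem NB.finrank_h0 {D : X.IdealSheafData} (h : NB k D) :
    Module.finrank k (Coh.HH X (ClSub.quotMod D) 0) = 1 := by
  have hne := h.ne_top k hdim.le
  obtain ⟨s, rfl, hcs⟩ := Decomp.exists_curves k hdim D h.eff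
  have hcs' : ∀ C ∈ s, IsCurve C := fun C hC => ⟨(hcs C hC).1, (hcs C hC).2.1, (hcs C hC).2.2.1⟩
  refine finrank_eq_one k hdim.le s hcs' ?_ fun t u h' ht hu => ?_
  · rintro rfl
    exact hne (by rw [Multiset.prod_zero, Scheme.IdealSheafData.one_eq_top])
  · have ht' : ∀ C ∈ t, IsCurve C := fun C hC => hcs' C (by rw [h']; exact Multiset.mem_add.2 (Or.inl hC))
    have hu' : ∀ C ∈ u, IsCurve C := fun C hC => hcs' C (by rw [h']; exact Multiset.mem_add.2 (Or.inr hC))
    rw [h', Multiset.prod_add] at h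
    exact numConn k hdim (isEff_prod t fun C hC => (ht' C hC).eff) (isEff_prod u fun C hC => (hu' C hC).eff)
      (prod_ne_top ht' ht) (prod_ne_top hu' hu) h.pos h.nef

include hdim in
/-- `H⁰(O(-D)) = 0`. -/
theorem NB.not_hasSec_idealMod {D : X.IdealSheafData} (h : NB k D) : ¬ HasSec (ClSub.idealMod D) := by
  intro hs
  have hI := isInvertible_idealMod h.eff
  obtain ⟨M, hM, e⟩ := Grpsch.PicGrp.exists_inverse hI
  have e' : mc (ClSub.idealMod D) * mc M = 1 := by
    rw [← mc_tensor, ← mc_one, mc_eq_iff]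
    exact e
  have hnef : Nef k M := by
    intro C hC
    rw [ip_inv_left k hdim.le hI hM e' (isInvertible_idealMod hC.eff)]
    have := h.nef C hC
    linarith
  have h1 := hnef.ip_nonneg_of_hasSec k hdim hM hI hs
  rw [ip_symm, ip_inv_left k hdim.le hI hM e' hI] at h1
  have := h.pos
  linarith

include hdim in
/-- `H⁰(O_X) → H⁰(O_D)` is onto. -/
theorem NB.surjective_h0 {D : X.IdealSheafData} (h : NB k D) :
    Function.Surjective (mapΓ (ClSub.toSubscheme D) 0) := by
  have hinj : Function.Injective (mapA k (ClSub.toSubscheme D) 0) := by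
    rw [injective_iff_map_eq_zero]
    intro x hx
    by_contra hne
    obtain ⟨y, rfl⟩ := (exact₂ _ (VarietyB.DegCartier.idealSeq_shortExact D) 0 x).1 hx
    refine h.not_hasSec_idealMod k hdim ⟨y, 0, ?_⟩
    rintro rfl
    exact hne (map_zero _)
  have h1 := VarietyA.CurveFin.finrank_h0_structure k X
  have h2 := h.finrank_h0 k hdim
  have f1 : Module.Finite k (Coh.HH X (Coh.structureModule X) 0) := VarietyA.CurveFin.finite_HH_structure k X 0
  have f2 : Module.Finite k (Coh.HH X (ClSub.quotMod D) 0) := finite_h0_quotMod k D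
  exact (LinearMap.injective_iff_surjective_of_finrank_eq_finrank (by rw [h1, h2])).1 hinj

include hdim in
/-- `H¹(O(-D)) → H¹(O_X)` is injective. -/
theorem NB.injective_h1 {D : X.IdealSheafData} (h : NB k D) :
    Function.Injective (mapΓ (ClSub.idealModι D) 1) := by
  rw [injective_iff_map_eq_zero]
  intro x hx
  have hS := VarietyB.DegCartier.idealSeq_shortExact D
  obtain ⟨y, rfl⟩ := (exact₁ _ hS 0 1 rfl x).1 hx
  obtain ⟨z, rfl⟩ := h.surjective_h0 k hdim y
  exact (exact₃ _ hS 0 1 rfl _).2 ⟨z, rfl⟩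

end Smooth

end K458.NefBig
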