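import Groth.Agent.Surf.K458.FibDiv
import Groth.Agent.Surf.K458.DivDual
import Groth.Agent.Surf.K455.SmoothRR
import Groth.Agent.Surf.K458.Curve
import Groth.Agent.S14512
import Groth.Agent.S1025
import Groth.Agent.S15985
import Groth.Agent.Pic13.H952.FibrePt

/-!
# Relatively minimal fibrations (K458)

* `ker_fiberι` : the ideal of a closed fibre.
* `adj` : `D² + K.D = -2 χ(O_D)`.
* `kappa_nonneg` : `K.C ≥ 0` for the curves in a fibre.
* `h1_fibre` : `H¹(F, L^h) = 0`.
-/

set_option autoImplicit false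
universe u
open CategoryTheory CategoryTheory.Limits AlgebraicGeometry Opposite TopologicalSpace

namespace K458.RelMin

open Groth.Agent Groth.Agent.Grpsch.PicGrp Groth.Agent.Fga.PicMon
open K464.Base K464.Curves K464.PtCurve K464.FibCurve K464.DivLat K464.NegDef K458.Ram

/-- The ideal of a closed fibre. -/
theorem ker_fiberι {X B : Scheme.{u}} (f : X ⟶ B) {b : B} (hb : IsClosed ({b} : Set B)) :
    (f.fiberι b).ker = (pt hb).comap f := by
  have hcl : IsClosedImmersion (B.fromSpecResidueField b) := isClosed_singleton_iff_isClosedImmersion.1 hb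
  have hker : (B.fromSpecResidueField b).ker = pt hb := by
    rw [Models.H50.PointInter.ker_eq_vanishingIdeal]
    congr 1
    apply Closeds.ext
    rw [Closeds.coe_closure, Scheme.range_fromSpecResidueField, hb.closure_eq]
    rfl
  obtain ⟨q, hq⟩ := exists_isPullback (B.fromSpecResidueField b) (pt hb) hker f
  have h2 : IsPullback (f.fiberι b) (f.fiberToSpecResidueField b) f (B.fromSpecResidueField b) :=
    IsPullback.of_hasPullback _ _
  have h3 : (h2.isoIsPullback _ _ hq).hom ≫ ((pt hb).comap f).subschemeι = f.fiberι b :=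
    h2.isoIsPullback_hom_fst _ _ hq
  rw [← h3, Scheme.Hom.ker_comp_of_isIso, Scheme.IdealSheafData.ker_subschemeι]

section adj

variable (k : Type u) [Field k] {X : Scheme.{u}} [X.Over (Spec (CommRingCat.of k))]
  [IsProper (X ↘ Spec (CommRingCat.of k))] [SmoothOfRelativeDimension 2 (X ↘ Spec (CommRingCat.of k))]
  {W : X.Modules} (hW : ExtPow.IsExtPow 2 (Omega.sheaf (X ↘ Spec (CommRingCat.of k))) W) (hWi : PicF.IsInvertible W)
  (hdim : topologicalKrullDim X ≤ (2 : ℕ))

include hW hdim in
/-- Adjunction: `D² + K.D = -2 χ(O_D)`. -/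
theorem adj {D : X.IdealSheafData} (hD : BlowUp.IsEffCartierIdeal D) :
    dot k X (ic D hD) (ic D hD) + degOn k X D (mk W hWi) = -2 * Curv2.euler k X (ClSub.quotMod D) := by
  have hDi : PicF.IsInvertible (ClSub.idealMod D) := Dix.IdealModCartier.isInvertible_idealMod hD
  have h1 := K455.SmoothRR.rr k hW hdim hDi
  rw [intNum_eq_dot k X hdim hDi hDi, intNum_eq_dot k X hdim hDi hWi,
    Fga.IntAdd.eulerCharLE_eq k X 2 hdim, Fga.IntAdd.eulerCharLE_eq k X 2 hdim] at h1
  have h2 : dot k X (mk (ClSub.idealMod D) hDi) (mk W hWi) = - degOn k X D (mk W hWi) := dot_ic_eq k X hD _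
  have h3 := euler_quotMod k X D
  rw [h2] at h1
  change dot k X (mk (ClSub.idealMod D) hDi) (mk (ClSub.idealMod D) hDi) + _ = _
  rw [h3]
  linarith

end adj

section kappa

variable (k : Type u) [Field k] [IsAlgClosed k] {X : Scheme.{u}} [X.Over (Spec (CommRingCat.of k))]
  [IsProper (X ↘ Spec (CommRingCat.of k))]

/-- `χ(O_C) ≤ 1` and a curve with `χ(O_C) = 1` is regular. -/
theorem euler_curve {C : X.IdealSheafData} (hC : IsCurve C) : Curv2.euler k X (ClSub.quotMod C) ≤ 1 ∧
    (Curv2.euler k X (ClSub.quotMod C) = 1 → ∀ e : C.subscheme, IsRegularLocalRing (C.subscheme.presheaf.stalk e)) := by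
  have hint := hC.integral
  have h0 := K458.Curve.finrank_h0_quotMod k C
  have h1 := K464.Cohom.euler_quot_eq k C hC.dim.le
  rw [h0] at h1
  refine ⟨by rw [h1]; simp, fun h2 => ?_⟩
  letI := overC k X C
  have hP := isProper_sub k X C
  have hd : topologicalKrullDim C.subscheme = 1 := (dim_sub X C).trans hC.dim
  have hg : Curv2.genus k C.subscheme = 0 := by
    have h3 : Module.finrank k (Coh.HH X (ClSub.quotMod C) 1) = 0 := by
      rw [h2] at h1
      push_cast at h1
      omega
    rw [(K464.Cohom.hhSub0 k C 1).finrank_eq] at h3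
    exact h3
  have hs := S14512.result k C.subscheme hd hg
  exact fun e => S1535.result k C.subscheme e

variable {W : X.Modules} (hWi : PicF.IsInvertible W)

/-- `K.C ≥ 0` for the curves in a fibre, on numbers. -/
theorem kappa_nonneg {ι : Type*} [Fintype ι] [DecidableEq ι] {G : ι → ι → ℤ} (hsymm : ∀ i j, G i j = G j i)
    (hoff : ∀ i j, i ≠ j → 0 ≤ G i j) (hconn : IsConn G) (n : ι → ℕ) (hn : ∀ i, 0 < n i)
    (hrow : ∀ j, ∑ i, (n i : ℤ) * G i j = 0) (κ χ : ι → ℤ) (hadj : ∀ i, G i i + κ i = -2 * χ i)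
    (hχ : ∀ i, χ i ≤ 1) (hpos : 0 < ∑ i, (n i : ℤ) * κ i) (hmin : ∀ i, χ i = 1 → G i i ≠ -1) (i : ι) : 0 ≤ κ i := by
  by_contra hneg
  push Not at hneg
  have hz : ∀ i, (0 : ℤ) < (n i : ℤ) := fun i => by exact_mod_cast hn i
  have hsum : ∑ s, ∑ t, ((Pi.single i 1 : ι → ℤ) s) * ((Pi.single i 1 : ι → ℤ) t) * G s t = G i i := by
    rw [Finset.sum_eq_single i, Finset.sum_eq_single i]
    · simp
    · intro t _ ht; simp [Pi.single_apply, ht]
    · intro h; exact absurd (Finset.mem_univ i) h
    · intro s _ hs; exact Finset.sum_eq_zero fun t _ => by simp [Pi.single_apply, hs]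
    · intro h; exact absurd (Finset.mem_univ i) h
  have hG : G i i ≤ 0 := by
    have h1 := ZarLem.quad_nonpos hsymm hoff (fun i => (n i : ℤ)) hz hrow (Pi.single i 1)
    rwa [hsum] at h1
  have h1 := hadj i
  have h2 := hχ i
  have h3 : χ i = 1 := by omega
  have h4 := hmin i h3
  have h5 : G i i = 0 := by omega
  -- `C_i² = 0`: the fibre is a multiple of `C_i`
  have h6 := ZarLem.proportional hsymm hoff hconn (fun i => (n i : ℤ)) hz hrow (Pi.single i 1) (by rw [hsum, h5])
  have h7 : ∀ j, j = i := by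
    intro j
    by_contra hj
    have h8 := h6 i j
    simp [Pi.single_apply, hj] at h8
    have := hn j
    omega
  have h8 : ∑ j, (n j : ℤ) * κ j = n i * κ i := by
    rw [Finset.sum_eq_single i]
    · intro j _ hj; exact absurd (h7 j) hj
    · intro h; exact absurd (Finset.mem_univ i) h
  rw [h8] at hpos
  have := mul_neg_of_pos_of_neg (hz i) hneg
  omega

end kappa

end K458.RelMin
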