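import Mathlib.Tactic
import Groth.Agent.Surf.K464.NegDef

/-!
# Zariski's lemma (K458)

`G : ι → ι → ℤ` symmetric with nonnegative off-diagonal entries, connected, `z > 0` with `z G = 0`. Then the quadratic
form of `G` is negative semidefinite and its kernel is spanned by `z` over `ℚ`.
-/

set_option autoImplicit false

namespace K458.ZarLem

open K464.NegDef

variable {ι : Type*} [Fintype ι]

theorem quad_aux {G : ι → ι → ℤ} (hsymm : ∀ i j, G i j = G j i)
    (hoff : ∀ i j, i ≠ j → 0 ≤ G i j) (z : ι → ℤ) (hz : ∀ i, 0 < z i)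
    (hrow : ∀ j, ∑ i, z i * G i j = 0) (a : ι → ℤ) :
    (∑ i, ∑ j, a i * a j * G i j ≤ 0) ∧
      ((∑ i, ∑ j, a i * a j * G i j = 0) → ∀ i j, G i j ≠ 0 → a i * z j = a j * z i) := by
  set b : ι → ℚ := fun i => (a i : ℚ) / (z i : ℚ) with hb
  have hzq : ∀ i, (0 : ℚ) < z i := fun i => by exact_mod_cast hz i
  have hab : ∀ i, (a i : ℚ) = b i * z i := fun i => by
    simp only [hb]; field_simp [(hzq i).ne']
  have hrowq : ∀ j, (∑ i, (z i : ℚ) * G i j) = 0 := fun j => by exact_mod_cast hrow j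
  have key : (∑ i, ∑ j, (a i : ℚ) * a j * G i j) =
        - ((1 / 2) * ∑ i, ∑ j, (b i - b j) ^ 2 * (z i * z j * G i j)) := by
    have f1 : ∑ i, ∑ j, (b j) ^ 2 * ((z i : ℚ) * z j * G i j) = 0 := by
      rw [Finset.sum_comm]
      refine Finset.sum_eq_zero fun j _ => ?_
      have : ∑ i, (b j) ^ 2 * ((z i : ℚ) * z j * G i j) = (b j) ^ 2 * z j * (∑ i, (z i : ℚ) * G i j) := by
        rw [Finset.mul_sum]
        exact Finset.sum_congr rfl fun i _ => by ring
      rw [this, hrowq, mul_zero]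
    have f2 : ∑ i, ∑ j, (b i) ^ 2 * ((z i : ℚ) * z j * G i j) = 0 := by
      rw [← f1, Finset.sum_comm]
      refine Finset.sum_congr rfl fun i _ => Finset.sum_congr rfl fun j _ => ?_
      rw [hsymm j i]; ring
    have e2 : ∑ i, ∑ j, (b i - b j) ^ 2 * ((z i : ℚ) * z j * G i j) =
        (∑ i, ∑ j, (b i) ^ 2 * (z i * z j * G i j)) + (∑ i, ∑ j, (b j) ^ 2 * (z i * z j * G i j)) -
          2 * ∑ i, ∑ j, b i * b j * (z i * z j * G i j) := by
      rw [← Finset.sum_add_distrib, Finset.mul_sum, ← Finset.sum_sub_distrib]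
      refine Finset.sum_congr rfl fun i _ => ?_
      rw [← Finset.sum_add_distrib, Finset.mul_sum, ← Finset.sum_sub_distrib]
      exact Finset.sum_congr rfl fun j _ => by ring
    rw [e2, f1, f2]
    have e3 : ∑ i, ∑ j, (a i : ℚ) * a j * G i j = ∑ i, ∑ j, b i * b j * (z i * z j * G i j) := by
      refine Finset.sum_congr rfl fun i _ => Finset.sum_congr rfl fun j _ => ?_
      rw [hab i, hab j]; ring
    rw [e3]; ring
  have h2 : ∀ i j, 0 ≤ (b i - b j) ^ 2 * ((z i : ℚ) * z j * G i j) := fun i j => by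
    by_cases hij : i = j
    · subst hij; simp
    · exact mul_nonneg (sq_nonneg _) (mul_nonneg (mul_nonneg (hzq i).le (hzq j).le) (by exact_mod_cast hoff i j hij))
  have hs2 : 0 ≤ ∑ i, ∑ j, (b i - b j) ^ 2 * ((z i : ℚ) * z j * G i j) :=
    Finset.sum_nonneg fun i _ => Finset.sum_nonneg fun j _ => h2 i j
  constructor
  · have : (∑ i, ∑ j, (a i : ℚ) * a j * G i j) ≤ 0 := by rw [key]; linarith
    exact_mod_cast this
  · intro h0 i j hG
    have h0' : (∑ i, ∑ j, (a i : ℚ) * a j * G i j) = 0 := by exact_mod_cast h0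
    rw [key] at h0'
    have hs2' : ∑ i, ∑ j, (b i - b j) ^ 2 * ((z i : ℚ) * z j * G i j) = 0 := by linarith
    have h4 : (b i - b j) ^ 2 * ((z i : ℚ) * z j * G i j) = 0 :=
      (Finset.sum_eq_zero_iff_of_nonneg fun j _ => h2 i j).1
        ((Finset.sum_eq_zero_iff_of_nonneg fun i _ => Finset.sum_nonneg fun j _ => h2 i j).1 hs2' i
          (Finset.mem_univ i)) j (Finset.mem_univ j)
    have h5 : b i = b j := by
      rcases mul_eq_zero.1 h4 with h | h
      · exact sub_eq_zero.1 (pow_eq_zero_iff (two_ne_zero) |>.1 h)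
      · rcases mul_eq_zero.1 h with h | h
        · exact absurd h (mul_pos (hzq i) (hzq j)).ne'
        · exact absurd (by exact_mod_cast h) hG
    have : (a i : ℚ) * z j = a j * z i := by rw [hab i, hab j, h5]; ring
    exact_mod_cast this

/-- The form is negative semidefinite. -/
theorem quad_nonpos {G : ι → ι → ℤ} (hsymm : ∀ i j, G i j = G j i)
    (hoff : ∀ i j, i ≠ j → 0 ≤ G i j) (z : ι → ℤ) (hz : ∀ i, 0 < z i)
    (hrow : ∀ j, ∑ i, z i * G i j = 0) (a : ι → ℤ) : ∑ i, ∑ j, a i * a j * G i j ≤ 0 :=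
  (quad_aux hsymm hoff z hz hrow a).1

/-- The kernel of the form: multiples of `z`. -/
theorem proportional [DecidableEq ι] {G : ι → ι → ℤ} (hsymm : ∀ i j, G i j = G j i)
    (hoff : ∀ i j, i ≠ j → 0 ≤ G i j) (hconn : IsConn G) (z : ι → ℤ) (hz : ∀ i, 0 < z i)
    (hrow : ∀ j, ∑ i, z i * G i j = 0) (a : ι → ℤ) (h0 : ∑ i, ∑ j, a i * a j * G i j = 0) (i j : ι) :
    a i * z j = a j * z i := by
  have h1 := (quad_aux hsymm hoff z hz hrow a).2 h0
  by_contra hne
  obtain ⟨s, hs, t, ht, hst⟩ := hconn (Finset.univ.filter fun l => a i * z l = a l * z i) ⟨i, by simp⟩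
    ⟨j, by simpa using hne⟩
  have hs' : a i * z s = a s * z i := by simpa using hs
  have ht' : a i * z t ≠ a t * z i := by simpa using ht
  apply ht'
  have h2 := h1 s t hst
  have h3 : z s * (a i * z t) = z s * (a t * z i) := by
    calc z s * (a i * z t) = (a i * z s) * z t := by ring
      _ = (a s * z i) * z t := by rw [hs']
      _ = (a s * z t) * z i := by ring
      _ = (a t * z s) * z i := by rw [h2]
      _ = z s * (a t * z i) := by ring
  exact mul_left_cancel₀ (hz s).ne' h3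

/-- Divisibility of a proportional vector. -/
theorem exists_multiple {e a b : ι → ℕ} (hab : a + b = e) (he : ∀ i, 0 < e i) (ha : a ≠ 0) (hb : b ≠ 0)
    (h : ∀ i j, (a i : ℤ) * e j = a j * e i) : ∃ (q : ℕ) (c : ι → ℕ), 2 ≤ q ∧ e = q • c := by
  obtain ⟨i, hi⟩ := Function.ne_iff.1 ha
  have hai : 0 < a i := Nat.pos_of_ne_zero hi
  have h' : ∀ i j, a i * e j = a j * e i := fun i j => by exact_mod_cast h i j
  obtain ⟨j, hj⟩ := Function.ne_iff.1 hb
  have hbj : 0 < b j := Nat.pos_of_ne_zero hj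
  have hlt : a i < e i := by
    have hle : a i ≤ e i := by rw [← hab]; simp
    refine lt_of_le_of_ne hle fun heq => ?_
    have h1 := h' i j
    rw [← heq, mul_comm (a j)] at h1
    have h2 : e j = a j := Nat.eq_of_mul_eq_mul_left hai h1
    have h3 : a j + b j = e j := congrFun hab j
    omega
  set g := Nat.gcd (a i) (e i) with hg
  have hgpos : 0 < g := Nat.gcd_pos_of_pos_left _ hai
  obtain ⟨p, q, hcop, hp, hq⟩ := Nat.exists_coprime (a i) (e i)
  rw [← hg] at hp hq
  have hq2 : 2 ≤ q := by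
    by_contra hlt2
    have : q = 0 ∨ q = 1 := by omega
    rcases this with rfl | rfl
    · have := he i; rw [hq] at this; simp at this
    · rw [one_mul] at hq
      have h1 : p * g < g := by rw [← hp, ← hq]; exact hlt
      have h2 : p = 0 := by
        by_contra hp0
        have : g ≤ p * g := Nat.le_mul_of_pos_left _ (Nat.pos_of_ne_zero hp0)
        omega
      rw [h2, zero_mul] at hp
      omega
  have hdvd : ∀ l, q ∣ e l := by
    intro l
    have h1 := h' i l
    rw [hp, hq] at h1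
    have h2 : p * e l = q * a l := by
      apply Nat.eq_of_mul_eq_mul_right hgpos
      calc p * e l * g = p * g * e l := by ring
        _ = a l * (q * g) := h1
        _ = q * a l * g := by ring
    exact (Nat.Coprime.dvd_mul_left hcop.symm).1 ⟨a l, h2⟩
  exact ⟨q, fun l => e l / q, hq2, funext fun l => by
    change e l = q * (e l / q)
    rw [Nat.mul_div_cancel' (hdvd l)]⟩

end K458.ZarLem
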